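import Cfsg.Agent.Lib.Steiner.Witt

/-!
Automorphism groups of the Witt designs on 23, 22, 12 and 11 points.
-/

set_option autoImplicit false

namespace CfsgLib.Steiner

open Cfsg
open scoped Pointwise

/-! ### Adding a fixed point -/

variable {n : ℕ}

/-- adding the last point to a set -/
def lift (s : Finset (Fin n)) : Finset (Fin (n + 1)) := insert (Fin.last n) (s.map Fin.castSuccEmb)

theorem last_mem_lift (s : Finset (Fin n)) : Fin.last n ∈ lift s := Finset.mem_insert_self _ _

theorem castSucc_mem_lift {s : Finset (Fin n)} {i : Fin n} : i.castSucc ∈ lift s ↔ i ∈ s := by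
  simp [lift]

theorem lift_injective : Function.Injective (lift (n := n)) := fun s t h => by
  ext i
  rw [← castSucc_mem_lift, h, castSucc_mem_lift]

theorem card_lift (s : Finset (Fin n)) : (lift s).card = s.card + 1 := by
  rw [lift, Finset.card_insert_of_notMem (by simp), Finset.card_map]

theorem exists_lift {b : Finset (Fin (n + 1))} (h : Fin.last n ∈ b) : ∃ s, lift s = b := by
  refine ⟨Finset.univ.filter fun i => i.castSucc ∈ b, ?_⟩
  ext i
  induction i using Fin.lastCases with
  | last => simp [lift, h]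
  | cast j => simp [castSucc_mem_lift]

theorem dN_lift {d : ℕ} (hd : d < 2 ^ n) : dN (n + 1) (d + 2 ^ n) = lift (dN n d) := by
  ext i
  rw [mem_dN, testBit_add_top hd]
  induction i using Fin.lastCases with
  | last => simp [lift]
  | cast j => simp [castSucc_mem_lift, mem_dN, Nat.ne_of_lt j.2]

/-- the extension of a permutation by a fixed point -/
def extHom (n : ℕ) : Equiv.Perm (Fin n) →* Equiv.Perm (Fin (n + 1)) where
  toFun σ := finSuccEquivLast.symm.permCongr (Equiv.optionCongr σ)
  map_one' := by ext i; simp [Equiv.permCongr_apply]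
  map_mul' σ τ := by
    ext i
    induction i using Fin.lastCases <;> simp [Equiv.permCongr_apply]

theorem extHom_last (σ : Equiv.Perm (Fin n)) : extHom n σ (Fin.last n) = Fin.last n := by
  simp [extHom, Equiv.permCongr_apply]

theorem extHom_castSucc (σ : Equiv.Perm (Fin n)) (i : Fin n) :
    extHom n σ i.castSucc = (σ i).castSucc := by
  simp [extHom, Equiv.permCongr_apply]

theorem extHom_injective : Function.Injective (extHom n) := fun σ τ h => by
  ext i
  have := congrArg Fin.val (DFunLike.congr_fun h i.castSucc)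
  simpa [extHom_castSucc] using this

theorem image_lift (σ : Equiv.Perm (Fin n)) (s : Finset (Fin n)) :
    (lift s).image (extHom n σ) = lift (s.image σ) := by
  simp only [lift, Finset.image_insert, extHom_last, Finset.map_eq_image, Finset.image_image]
  congr 2
  funext i
  exact extHom_castSucc σ i

theorem exists_extHom {g : Equiv.Perm (Fin (n + 1))} (h : g (Fin.last n) = Fin.last n) :
    ∃ σ, extHom n σ = g := by
  have hne : ∀ i : Fin n, g i.castSucc ≠ Fin.last n := fun i e =>
    Fin.castSucc_ne_last i (g.injective (e.trans h.symm))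
  let f : Fin n → Fin n := fun i => (g i.castSucc).castPred (hne i)
  have hf : Function.Injective f := fun i j e => by
    have : g i.castSucc = g j.castSucc := Fin.castPred_inj.1 e
    exact Fin.castSucc_injective n (g.injective this)
  refine ⟨Equiv.ofBijective f (Finite.injective_iff_bijective.1 hf), Equiv.ext fun i => ?_⟩
  induction i using Fin.lastCases with
  | last => rw [extHom_last, h]
  | cast j => rw [extHom_castSucc]; simp [f]

/-- the second list is an extension of the first by the last point -/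
def Derived (n : ℕ) (std std' : List ℕ) : Prop :=
  ∀ s : Finset (Fin n), lift s ∈ sysL (n + 1) std' ↔ s ∈ sysL n std

/-- the certificate of an extension -/
def derivedOK (n : ℕ) (std std' : List ℕ) : Bool :=
  std.all (fun d => decide (d < 2 ^ n) && std'.contains (d + 2 ^ n)) &&
    std'.all fun m => decide (m < 2 ^ n) || std.contains (m - 2 ^ n) && decide (2 ^ n ≤ m)

theorem derived_of_ok {std std' : List ℕ} (h : derivedOK n std std' = true) : Derived n std std' := by
  simp only [derivedOK, Bool.and_eq_true, List.all_eq_true, decide_eq_true_eq, Bool.or_eq_true,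
    List.contains_iff_mem] at h
  intro s
  simp only [mem_sysL]
  constructor
  · rintro ⟨m, hm, he⟩
    rcases h.2 m hm with hlt | ⟨hd, hle⟩
    · exact absurd (he ▸ last_mem_lift s) (last_not_mem hlt)
    · refine ⟨m - 2 ^ n, hd, lift_injective ?_⟩
      rw [← dN_lift (h.1 _ hd).1, Nat.sub_add_cancel hle, he]
  · rintro ⟨d, hd, rfl⟩
    exact ⟨_, (h.1 d hd).2, dN_lift (h.1 d hd).1⟩

theorem derived_steiner {t k : ℕ} {std std' : List ℕ} (hd : Derived n std std')
    (h : IsSteinerSystem (t + 1) (k + 1) (sysL (n + 1) std' : Set (Finset (Fin (n + 1))))) :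
    IsSteinerSystem t k (sysL n std : Set (Finset (Fin n))) := by
  refine ⟨fun b hb => ?_, fun s hs => ?_⟩
  · have := h.1 _ (Finset.mem_coe.2 ((hd b).2 hb))
    rw [card_lift] at this
    omega
  · obtain ⟨b, ⟨hb, hsb⟩, huniq⟩ := h.2 (lift s) (by rw [card_lift, hs])
    obtain ⟨c, rfl⟩ := exists_lift (hsb (last_mem_lift s))
    refine ⟨c, ⟨(hd c).1 hb, fun i hi => castSucc_mem_lift.1 (hsb (castSucc_mem_lift.2 hi))⟩, ?_⟩
    rintro c' ⟨hc', hsc'⟩
    refine lift_injective (huniq _ ⟨(hd c').2 hc', ?_⟩)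
    exact Finset.insert_subset_insert _ (Finset.map_subset_map.2 hsc')

theorem aut_of_extHom {std std' : List ℕ} (hd : Derived n std std') {σ : Equiv.Perm (Fin n)}
    (h : extHom n σ ∈ setSystemAut (sysL (n + 1) std' : Set (Finset (Fin (n + 1))))) :
    σ ∈ setSystemAut (sysL n std : Set (Finset (Fin n))) := by
  rw [mem_aut_iff] at h ⊢
  intro s
  have := h (lift s)
  rw [Finset.mem_coe, Finset.mem_coe, image_lift, hd, hd] at this
  exact this

theorem ext_of_aut {t k : ℕ} {std std' : List ℕ} (hd : Derived n std std')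
    (hst : IsSteinerSystem t k (sysL (n + 1) std' : Set (Finset (Fin (n + 1)))))
    (hok : ∀ d ∈ std, d < 2 ^ n)
    {σ : Equiv.Perm (Fin n)} (hσ : σ ∈ setSystemAut (sysL n std : Set (Finset (Fin n)))) :
    Ext n t k std (pullback (extHom n σ) (sysL (n + 1) std' : Set (Finset (Fin (n + 1))))) := by
  refine ⟨isSteiner_pullback _ hst, fun b hb => ?_⟩
  obtain ⟨s, rfl⟩ := exists_lift hb
  rw [mem_pullback, image_lift, Finset.mem_coe, hd, ← Finset.mem_coe, mem_aut_iff.1 hσ,
    Finset.mem_coe, mem_sysL]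
  constructor
  · rintro ⟨d, hd', rfl⟩
    exact ⟨d, hd', dN_lift (hok d hd')⟩
  · rintro ⟨d, hd', he⟩
    exact ⟨d, hd', lift_injective ((dN_lift (hok d hd')).symm.trans he)⟩

theorem aut_eq_iff_pullback {α : Type*} [DecidableEq α] {B : Set (Finset α)} {g : Equiv.Perm α} :
    g ∈ setSystemAut B ↔ pullback g B = B := by
  rw [mem_aut_iff, Set.ext_iff]
  rfl

/-! ### The large designs -/

theorem derived23 : Derived 23 std23 std24 := derived_of_ok (by decide +kernel)
theorem derived22 : Derived 22 std22 std23 := derived_of_ok (by decide +kernel)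

theorem steiner24 : IsSteinerSystem 5 8 (sysL 24 std24 : Set (Finset (Fin 24))) :=
  pullback_octads ▸ isSteiner_pullback E24 CfsgLib.Golay.octads_steiner

theorem steiner23 : IsSteinerSystem 4 7 (sysL 23 std23 : Set (Finset (Fin 23))) :=
  derived_steiner derived23 steiner24

theorem ext_unique24 {B : Set (Finset (Fin 24))} (hext : Ext 23 5 8 std23 B) :
    B = (sysL 24 std24 : Set (Finset (Fin 24))) := by
  obtain ⟨V, hV, hB⟩ := class_step (by norm_num) listOK23 class24_ok cand24_ok (by norm_num)
    (by norm_num) (by decide +kernel) hext fun b hb c hc hne => by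
      rcases Cfsg.Agent.S0352.result (Fintype.card_fin _) hext.steiner hb hc hne with h | h | h <;>
        rw [h] <;> rfl
  obtain ⟨h1, h2⟩ := std24_split
  obtain ⟨i, hi, rfl⟩ := List.mem_iff_getElem.1 hV
  obtain rfl : i = 0 := by omega
  rw [List.getD_eq_getElem _ _ hi] at h2
  rw [hB, h2]

theorem extHom23_mem {σ : Equiv.Perm (Fin 23)} :
    extHom 23 σ ∈ setSystemAut (sysL 24 std24 : Set (Finset (Fin 24))) ↔
      σ ∈ setSystemAut (sysL 23 std23 : Set (Finset (Fin 23))) :=
  ⟨aut_of_extHom derived23, fun h =>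
    aut_eq_iff_pullback.2 (ext_unique24 (ext_of_aut derived23 steiner24 (listOK_spec listOK23).1 h))⟩

/-- the automorphisms of the model on 24 points form the group of the code -/
noncomputable def e24M : setSystemAut (sysL 24 std24 : Set (Finset (Fin 24))) ≃* M24 :=
  (MulEquiv.subgroupCongr (by rw [pullback_octads])).trans ((autEquiv E24 octads).trans
    (MulEquiv.subgroupCongr CfsgLib.Golay.M24_eq_octad_aut.symm))

theorem e24M_apply (g : setSystemAut (sysL 24 std24 : Set (Finset (Fin 24)))) (i : Fin 24) :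
    (e24M g : Equiv.Perm GolayPt) (E24 i) = E24 ((g : Equiv.Perm (Fin 24)) i) :=
  autEquiv_apply E24 octads _ i

theorem five24 : MulAction.IsMultiplyPretransitive (setSystemAut (sysL 24 std24 : Set (Finset (Fin 24)))) (Fin 24) 5 := by
  rw [MulAction.isMultiplyPretransitive_iff]
  intro x y
  obtain ⟨g, hg⟩ := CfsgLib.Golay.five_pretransitive.exists_smul_eq (x.trans E24.toEmbedding) (y.trans E24.toEmbedding)
  refine ⟨e24M.symm g, ?_⟩
  ext i
  have h1 : (g : Equiv.Perm GolayPt) (E24 (x i)) = E24 (y i) := DFunLike.congr_fun hg i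
  have h2 := e24M_apply (e24M.symm g) (x i)
  rw [e24M.apply_symm_apply, h1] at h2
  exact congrArg Fin.val (E24.injective h2).symm

theorem e24M_symm_fix {g : M24} {i : Fin 24} (h : (g : Equiv.Perm GolayPt) (E24 i) = E24 i) :
    ((e24M.symm g : setSystemAut _) : Equiv.Perm (Fin 24)) i = i := by
  have h2 := e24M_apply (e24M.symm g) i
  rw [e24M.apply_symm_apply, h] at h2
  exact (E24.injective h2).symm

/-- the automorphisms of the design on 23 points inside the group of the code -/
noncomputable def f23 : setSystemAut (sysL 23 std23 : Set (Finset (Fin 23))) →* M24 :=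
  e24M.toMonoidHom.comp (((extHom 23).comp (Subgroup.subtype _)).codRestrict _
    fun σ => extHom23_mem.2 σ.2)

theorem f23_apply (σ : setSystemAut (sysL 23 std23 : Set (Finset (Fin 23)))) (i : Fin 24) :
    (f23 σ : Equiv.Perm GolayPt) (E24 i) = E24 (extHom 23 σ i) :=
  e24M_apply _ i

theorem f23_injective : Function.Injective f23 := fun σ τ h =>
  Subtype.ext (extHom_injective (Equiv.ext fun i => E24.injective (by rw [← f23_apply, ← f23_apply, h])))

theorem f23_range : f23.range = MulAction.stabilizer M24 (E24 (Fin.last 23)) := by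
  ext g
  rw [MonoidHom.mem_range, CfsgLib.Golay.mem_stab_point]
  constructor
  · rintro ⟨σ, rfl⟩
    rw [f23_apply, extHom_last]
  · intro hg
    have hfix := e24M_symm_fix hg
    obtain ⟨σ, hσ⟩ := exists_extHom hfix
    refine ⟨⟨σ, extHom23_mem.1 (hσ ▸ (e24M.symm g).2)⟩, ?_⟩
    refine e24M.symm.injective ?_
    rw [show e24M.symm (f23 _) = _ from e24M.symm_apply_apply _]
    exact Subtype.ext hσ

theorem four23 : MulAction.IsMultiplyPretransitive (setSystemAut (sysL 23 std23 : Set (Finset (Fin 23)))) (Fin 23) 4 := by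
  rw [MulAction.isMultiplyPretransitive_iff]
  intro x y
  have hinj : ∀ z : Fin 4 ↪ Fin 23, Function.Injective (Fin.snoc (fun i => (z i).castSucc) (Fin.last 23) : Fin 5 → Fin 24) :=
    fun z => Fin.snoc_injective_iff.2 ⟨(Fin.castSucc_injective _).comp z.injective,
      fun ⟨i, hi⟩ => Fin.castSucc_ne_last _ hi⟩
  obtain ⟨g, hg⟩ := five24.exists_smul_eq ⟨_, hinj x⟩ ⟨_, hinj y⟩
  have hg' : ∀ i : Fin 5, (g : Equiv.Perm (Fin 24)) ((Fin.snoc (fun i => (x i).castSucc) (Fin.last 23) : Fin 5 → Fin 24) i) =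
      (Fin.snoc (fun i => (y i).castSucc) (Fin.last 23) : Fin 5 → Fin 24) i := fun i => DFunLike.congr_fun hg i
  have hlast := hg' (Fin.last 4)
  rw [Fin.snoc_last, Fin.snoc_last] at hlast
  obtain ⟨σ, hσ⟩ := exists_extHom hlast
  refine ⟨⟨σ, extHom23_mem.1 (hσ ▸ g.2)⟩, ?_⟩
  ext i
  have h := hg' i.castSucc
  rw [Fin.snoc_castSucc, Fin.snoc_castSucc, ← hσ, extHom_castSucc] at h
  exact congrArg Fin.val (Fin.castSucc_injective _ h)

theorem aut23 : IsM23 (setSystemAut (sysL 23 std23 : Set (Finset (Fin 23)))) := by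
  have e : setSystemAut (sysL 23 std23 : Set (Finset (Fin 23))) ≃* MulAction.stabilizer M24 (E24 (Fin.last 23)) :=
    (MonoidHom.ofInjective f23_injective).trans (MulEquiv.subgroupCongr f23_range)
  refine ⟨?_, ?_⟩
  · haveI := CfsgLib.Golay.isSimpleGroup_stab_point (E24 (Fin.last 23))
    exact e.isSimpleGroup
  · rw [Nat.card_congr e.toEquiv, CfsgLib.Golay.natCard_stab_point]

/-! ### Twenty-two points -/

/-- the automorphisms extending to 23 points -/
def K22 : Subgroup (setSystemAut (sysL 22 std22 : Set (Finset (Fin 22)))) :=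
  ((setSystemAut (sysL 23 std23 : Set (Finset (Fin 23)))).comap (extHom 22)).subgroupOf _

theorem mem_K22 {σ : setSystemAut (sysL 22 std22 : Set (Finset (Fin 22)))} :
    σ ∈ K22 ↔ extHom 22 σ ∈ setSystemAut (sysL 23 std23 : Set (Finset (Fin 23))) := Iff.rfl

/-- the hom to the group of the code -/
noncomputable def f22 : K22 →* M24 :=
  f23.comp (((extHom 22).comp ((Subgroup.subtype _).comp (Subgroup.subtype _))).codRestrict _
    fun σ => σ.2)

theorem f22_apply (σ : K22) (i : Fin 24) :
    (f22 σ : Equiv.Perm GolayPt) (E24 i) = E24 (extHom 23 (extHom 22 σ.1.1) i) :=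
  f23_apply _ i

theorem f22_injective : Function.Injective f22 := fun σ τ h =>
  Subtype.ext (Subtype.ext (extHom_injective (extHom_injective
    (Equiv.ext fun i => E24.injective (by rw [← f22_apply, ← f22_apply, h])))))

theorem f22_range : f22.range =
    MulAction.stabilizer M24 (E24 (Fin.last 23)) ⊓ MulAction.stabilizer M24 (E24 (Fin.last 22).castSucc) := by
  ext g
  rw [MonoidHom.mem_range, Subgroup.mem_inf, CfsgLib.Golay.mem_stab_point, CfsgLib.Golay.mem_stab_point]
  constructor
  · rintro ⟨σ, rfl⟩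
    rw [f22_apply, f22_apply, extHom_last, extHom_castSucc, extHom_last]
    exact ⟨rfl, rfl⟩
  · rintro ⟨h1, h2⟩
    obtain ⟨σ, rfl⟩ : ∃ σ, f23 σ = g := by
      rw [← MonoidHom.mem_range, f23_range, CfsgLib.Golay.mem_stab_point]; exact h1
    rw [f23_apply, E24.injective.eq_iff, extHom_castSucc, Fin.castSucc_inj] at h2
    obtain ⟨τ, hτ⟩ := exists_extHom h2
    have h22 : τ ∈ setSystemAut (sysL 22 std22 : Set (Finset (Fin 22))) :=
      aut_of_extHom derived22 (hτ ▸ σ.2)
    exact ⟨⟨⟨τ, h22⟩, mem_K22.2 (hτ ▸ σ.2)⟩, congrArg f23 (Subtype.ext hτ)⟩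

theorem natCard_K22 : Nat.card K22 = 443520 ∧ IsSimpleGroup K22 := by
  have hne : E24 (Fin.last 23) ≠ E24 (Fin.last 22).castSucc :=
    fun h => Fin.castSucc_ne_last _ (E24.injective h).symm
  have e : K22 ≃* ↥(MulAction.stabilizer M24 (E24 (Fin.last 23)) ⊓
      MulAction.stabilizer M24 (E24 (Fin.last 22).castSucc)) :=
    (MonoidHom.ofInjective f22_injective).trans (MulEquiv.subgroupCongr f22_range)
  refine ⟨by rw [Nat.card_congr e.toEquiv, CfsgLib.Golay.natCard_stab_pair hne], ?_⟩
  haveI := CfsgLib.Golay.isSimpleGroup_stab_pair hne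
  exact e.isSimpleGroup

theorem rests23_length : rests23.length = 2 := rfl

theorem index_K22_le : K22.index ≤ 2 := by
  classical
  let Bs : Finset (Set (Finset (Fin 23))) :=
    (rests23.map fun V => (sysL 23 (V ++ std22.map (· + 2 ^ 22)) : Set (Finset (Fin 23)))).toFinset
  have hmem : ∀ σ : setSystemAut (sysL 22 std22 : Set (Finset (Fin 22))),
      pullback (extHom 22 σ.1) (sysL 23 std23 : Set (Finset (Fin 23))) ∈ Bs := by
    intro σ
    have hext := ext_of_aut derived22 steiner23 (listOK_spec listOK22).1 σ.2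
    obtain ⟨V, hV, hB⟩ := class_step (by norm_num) listOK22 class23_ok cand23_ok (by norm_num)
      (by norm_num) (by decide +kernel) hext fun b hb c hc hne => by
        rcases Cfsg.Agent.S0355.result (Fintype.card_fin _) hext.steiner hb hc hne with h | h <;>
          rw [h] <;> rfl
    rw [List.mem_toFinset, List.mem_map]
    exact ⟨V, hV, hB.symm⟩
  let F : setSystemAut (sysL 22 std22 : Set (Finset (Fin 22))) ⧸ K22 → Bs :=
    fun q => ⟨_, hmem q.out⁻¹⟩
  have hF : Function.Injective F := by
    intro q q' h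
    have h' : pullback (extHom 22 (q.out⁻¹).1) (sysL 23 std23 : Set (Finset (Fin 23))) =
        pullback (extHom 22 (q'.out⁻¹).1) (sysL 23 std23 : Set (Finset (Fin 23))) := congrArg Subtype.val h
    rw [← q.out_eq', ← q'.out_eq', QuotientGroup.eq, mem_K22, aut_eq_iff_pullback]
    ext s
    have h2 := Set.ext_iff.1 h' (s.image (extHom 22 (q'.out : setSystemAut _).1))
    simp only [mem_pullback, Finset.image_image, ← Equiv.Perm.coe_mul, ← map_mul, ← Subgroup.coe_mul] at h2 ⊢
    rw [inv_mul_cancel] at h2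
    rw [h2]
    simp
  calc K22.index = Nat.card (setSystemAut (sysL 22 std22 : Set (Finset (Fin 22))) ⧸ K22) := rfl
    _ ≤ Nat.card Bs := Nat.card_le_card_of_injective F hF
    _ = Bs.card := Nat.card_eq_finsetCard Bs
    _ ≤ 2 := (List.toFinset_card_le _).trans (by rw [List.length_map, rests23_length])

/-- the exchange of the two last positions -/
def swapL : List ℕ := List.range 22 ++ [23, 22]

theorem swap_chk : (std24.any fun m => decide (mapM swapL 24 m < 2 ^ 24) &&
    !std24.contains (mapM swapL 24 m)) = true := by decide +kernel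

theorem swapL_eq : ∀ i : Fin 24,
    (Equiv.swap (Fin.last 22).castSucc (Fin.last 23) i).val = swapL.getD i.val 24 := by decide +kernel

theorem swap_not_mem : Equiv.swap (Fin.last 22).castSucc (Fin.last 23) ∉
    setSystemAut (sysL 24 std24 : Set (Finset (Fin 24))) := by
  intro h
  have hchk := swap_chk
  simp only [List.any_eq_true, Bool.and_eq_true, decide_eq_true_eq, Bool.not_eq_true',
    List.contains_eq_mem, decide_eq_false_iff_not] at hchk
  obtain ⟨m, hm, hlt, hout⟩ := hchk
  have h1 := (mem_aut_iff.1 h (dN 24 m)).2 (mem_sysL.2 ⟨m, hm, rfl⟩)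
  rw [image_dN swapL_eq (by rfl)] at h1
  obtain ⟨m', hm', he⟩ := mem_sysL.1 (Finset.mem_coe.1 h1)
  exact hout (dN_injective ((listOK_spec listOK24).1 m' hm') hlt he ▸ hm')

/-- two points added to a set -/
theorem mem_lift_lift (s : Finset (Fin 22)) :
    Fin.last 23 ∈ lift (lift s) ∧ (Fin.last 22).castSucc ∈ lift (lift s) :=
  ⟨last_mem_lift _, castSucc_mem_lift.2 (last_mem_lift _)⟩

theorem image_swap_of_mem {α : Type*} [DecidableEq α] {a b : α} {t : Finset α} (ha : a ∈ t) (hb : b ∈ t) :
    t.image (Equiv.swap a b) = t := by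
  refine Finset.eq_of_subset_of_card_le (fun x hx => ?_)
    (le_of_eq (Finset.card_image_of_injective _ (Equiv.swap a b).injective).symm)
  obtain ⟨y, hy, rfl⟩ := Finset.mem_image.1 hx
  rw [Equiv.swap_apply_def]
  split_ifs <;> assumption

theorem exists_not_mem_K22 :
    ∃ σ : setSystemAut (sysL 22 std22 : Set (Finset (Fin 22))), σ ∉ K22 := by
  have hx : Function.Injective (![(Fin.last 22).castSucc, Fin.last 23, 0, 1, 2] : Fin 5 → Fin 24) := by
    decide
  have hy : Function.Injective (![Fin.last 23, (Fin.last 22).castSucc, 0, 1, 2] : Fin 5 → Fin 24) := by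
    decide
  obtain ⟨g, hg⟩ := five24.exists_smul_eq ⟨_, hx⟩ ⟨_, hy⟩
  have hga : (g : Equiv.Perm (Fin 24)) (Fin.last 22).castSucc = Fin.last 23 := DFunLike.congr_fun hg 0
  have hgb : (g : Equiv.Perm (Fin 24)) (Fin.last 23) = (Fin.last 22).castSucc := DFunLike.congr_fun hg 1
  have hb' : (Equiv.swap (Fin.last 22).castSucc (Fin.last 23) * g.1) (Fin.last 23) = Fin.last 23 := by
    rw [Equiv.Perm.mul_apply, hgb, Equiv.swap_apply_left]
  obtain ⟨τ, hτ⟩ := exists_extHom hb'
  have ha' : τ (Fin.last 22) = Fin.last 22 := by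
    apply Fin.castSucc_injective
    rw [← extHom_castSucc, hτ, Equiv.Perm.mul_apply, hga, Equiv.swap_apply_right]
  obtain ⟨σ, rfl⟩ := exists_extHom ha'
  have hσ : σ ∈ setSystemAut (sysL 22 std22 : Set (Finset (Fin 22))) := by
    rw [mem_aut_iff]
    intro s
    rw [Finset.mem_coe, Finset.mem_coe, ← derived22, ← derived22 s, ← derived23, ← derived23 (lift s),
      ← image_lift, ← image_lift, hτ, Equiv.Perm.coe_mul, ← Finset.image_image, image_swap_of_mem]
    · exact mem_aut_iff.1 g.2 (lift (lift s))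
    · exact Finset.mem_image.2 ⟨_, (mem_lift_lift s).1, hgb⟩
    · exact Finset.mem_image.2 ⟨_, (mem_lift_lift s).2, hga⟩
  refine ⟨⟨σ, hσ⟩, fun h => swap_not_mem ?_⟩
  have h' := extHom23_mem.2 (mem_K22.1 h)
  rw [hτ] at h'
  exact (Subgroup.mul_mem_cancel_right _ g.2).1 h'

theorem index_K22 : K22.index = 2 := by
  obtain ⟨σ, hσ⟩ := exists_not_mem_K22
  have h1 : K22.index ≠ 1 := fun h => hσ (Subgroup.index_eq_one.1 h ▸ Subgroup.mem_top σ)
  have h0 : K22.index ≠ 0 := Subgroup.index_ne_zero_of_finite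
  have := index_K22_le
  omega

theorem natCard_aut22 : Nat.card (setSystemAut (sysL 22 std22 : Set (Finset (Fin 22)))) = 887040 := by
  rw [← Subgroup.card_mul_index K22, natCard_K22.1, index_K22]

theorem three22 : MulAction.IsMultiplyPretransitive (setSystemAut (sysL 22 std22 : Set (Finset (Fin 22)))) (Fin 22) 3 := by
  rw [MulAction.isMultiplyPretransitive_iff]
  intro x y
  let w : (Fin 3 ↪ Fin 22) → Fin 5 → Fin 24 := fun z => Fin.snoc
    (fun i => ((Fin.snoc (fun i => (z i).castSucc) (Fin.last 22) : Fin 4 → Fin 23) i).castSucc) (Fin.last 23)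
  have hinj : ∀ z : Fin 3 ↪ Fin 22, Function.Injective (w z) := fun z =>
    Fin.snoc_injective_iff.2 ⟨(Fin.castSucc_injective _).comp (Fin.snoc_injective_iff.2
      ⟨(Fin.castSucc_injective _).comp z.injective, fun ⟨i, hi⟩ => Fin.castSucc_ne_last _ hi⟩),
      fun ⟨i, hi⟩ => Fin.castSucc_ne_last _ hi⟩
  obtain ⟨g, hg⟩ := five24.exists_smul_eq ⟨_, hinj x⟩ ⟨_, hinj y⟩
  have hg' : ∀ i : Fin 5, (g : Equiv.Perm (Fin 24)) (w x i) = w y i := fun i => DFunLike.congr_fun hg i
  have hlast := hg' (Fin.last 4)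
  simp only [w, Fin.snoc_last] at hlast
  obtain ⟨τ, hτ⟩ := exists_extHom hlast
  have h3 := hg' (Fin.last 3).castSucc
  simp only [w, Fin.snoc_castSucc, Fin.snoc_last, ← hτ, extHom_castSucc] at h3
  obtain ⟨σ, rfl⟩ := exists_extHom (Fin.castSucc_injective _ h3)
  refine ⟨⟨σ, aut_of_extHom derived22 (extHom23_mem.1 (hτ ▸ g.2))⟩, ?_⟩
  ext i
  have h := hg' i.castSucc.castSucc
  simp only [w, Fin.snoc_castSucc, ← hτ, extHom_castSucc] at h
  exact congrArg Fin.val (Fin.castSucc_injective _ (Fin.castSucc_injective _ h))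

theorem aut23_transfer {α : Type*} [Fintype α] [DecidableEq α] (hα : Fintype.card α = 23)
    {B : Set (Finset α)} (hB : IsSteinerSystem 4 7 B) :
    IsM23 (setSystemAut B) ∧ MulAction.IsMultiplyPretransitive (setSystemAut B) α 4 := by
  obtain ⟨e, he⟩ := lab23 hα hB
  have eq : setSystemAut (sysL 23 std23 : Set (Finset (Fin 23))) ≃* setSystemAut B :=
    (MulEquiv.subgroupCongr (by rw [he])).trans (autEquiv e B)
  obtain ⟨hs, hc⟩ := aut23
  refine ⟨⟨?_, by rw [← Nat.card_congr eq.toEquiv, hc]⟩, pretransitive_transfer e he four23⟩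
  haveI := hs
  exact eq.symm.isSimpleGroup

theorem aut22_transfer {α : Type*} [Fintype α] [DecidableEq α] (hα : Fintype.card α = 22)
    {B : Set (Finset α)} (hB : IsSteinerSystem 3 6 B) :
    Nat.card (setSystemAut B) = 887040 ∧ MulAction.IsMultiplyPretransitive (setSystemAut B) α 3 ∧
      ∃ H : Subgroup (setSystemAut B), H.index = 2 ∧ IsM22 H := by
  obtain ⟨e, he⟩ := lab22 hα hB
  have eq : setSystemAut (sysL 22 std22 : Set (Finset (Fin 22))) ≃* setSystemAut B :=
    (MulEquiv.subgroupCongr (by rw [he])).trans (autEquiv e B)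
  refine ⟨by rw [← Nat.card_congr eq.toEquiv, natCard_aut22], pretransitive_transfer e he three22,
    K22.map eq.toMonoidHom, ?_, ?_, ?_⟩
  · exact (Subgroup.index_map_equiv K22 eq).trans index_K22
  · haveI := natCard_K22.2
    exact (K22.equivMapOfInjective _ eq.injective).symm.isSimpleGroup
  · rw [← Nat.card_congr (K22.equivMapOfInjective eq.toMonoidHom eq.injective).toEquiv, natCard_K22.1]

end CfsgLib.Steiner
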