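import Cfsg.Agent.Lib.Steiner.Labels
import Cfsg.Agent.Lib.Steiner.GraphData

/-!
The block graph and the point-block graph of the design on 22 points.
-/

set_option autoImplicit false

namespace CfsgLib.Steiner

open Cfsg

/-- strong regularity of a relation on `Fin m`, checked exhaustively -/
def srgOK (m k l μ : ℕ) (R : ℕ → ℕ → Bool) : Bool :=
  (List.range m).all fun i => ((List.range m).filter (R i)).length == k &&
    (List.range m).all fun j => i == j ||
      ((List.range m).filter fun x => R i x && R j x).length == (if R i j then l else μ)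

theorem length_filter_range {m : ℕ} (p : ℕ → Bool) :
    ((List.range m).filter p).length = (Finset.univ.filter fun i : Fin m => p i.val = true).card := by
  rw [← List.toFinset_card_of_nodup (List.nodup_range.filter p),
    ← Finset.card_map Fin.valEmbedding (s := Finset.univ.filter fun i : Fin m => p i.val = true)]
  congr 1
  ext x
  simp only [List.mem_toFinset, List.mem_filter, List.mem_range, Finset.mem_map, Finset.mem_filter,
    Finset.mem_univ, true_and, Fin.valEmbedding_apply]
  exact ⟨fun h => ⟨⟨x, h.1⟩, h.2, rfl⟩, by rintro ⟨i, h, rfl⟩; exact ⟨i.2, h⟩⟩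

theorem srg_of_ok {V : Type*} [Fintype V] {G : SimpleGraph V} [DecidableRel G.Adj] {m k l μ : ℕ}
    {R : ℕ → ℕ → Bool} (φ : Fin m ≃ V) (hadj : ∀ i j : Fin m, G.Adj (φ i) (φ j) ↔ R i.val j.val = true)
    (hok : srgOK m k l μ R = true) : G.IsSRGWith m k l μ := by
  classical
  simp only [srgOK, List.all_eq_true, List.mem_range, Bool.and_eq_true, Bool.or_eq_true, beq_iff_eq] at hok
  have hcommon : ∀ i j : Fin m, Fintype.card (G.commonNeighbors (φ i) (φ j)) =
      ((List.range m).filter fun x => R i.val x && R j.val x).length := by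
    intro i j
    rw [length_filter_range, ← Fintype.card_subtype]
    refine Fintype.card_congr (φ.symm.subtypeEquiv fun v => ?_)
    obtain ⟨x, rfl⟩ := φ.surjective v
    rw [SimpleGraph.mem_commonNeighbors, hadj, hadj, Equiv.symm_apply_apply, Bool.and_eq_true]
  refine ⟨by rw [← Fintype.card_congr φ, Fintype.card_fin], fun v => ?_, fun v w hvw => ?_, fun v w hne hvw => ?_⟩
  · obtain ⟨i, rfl⟩ := φ.surjective v
    rw [← SimpleGraph.card_neighborSet_eq_degree, ← (hok i i.2).1, length_filter_range, ← Fintype.card_subtype]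
    refine Fintype.card_congr (φ.symm.subtypeEquiv fun v => ?_)
    obtain ⟨x, rfl⟩ := φ.surjective v
    rw [SimpleGraph.mem_neighborSet, hadj, Equiv.symm_apply_apply]
  · obtain ⟨i, rfl⟩ := φ.surjective v
    obtain ⟨j, rfl⟩ := φ.surjective w
    have hij : i.val ≠ j.val := fun e => G.ne_of_adj hvw (congrArg φ (Fin.ext e))
    rw [hcommon, ((hok i i.2).2 j j.2).resolve_left hij, if_pos ((hadj i j).1 hvw)]
  · obtain ⟨i, rfl⟩ := φ.surjective v
    obtain ⟨j, rfl⟩ := φ.surjective w
    have hij : i.val ≠ j.val := fun e => hne (congrArg φ (Fin.ext e))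
    rw [hcommon, ((hok i i.2).2 j j.2).resolve_left hij, if_neg (fun h => hvw ((hadj i j).2 h))]

/-- number of bits, in steps of 24 -/
def popW : ℕ → ℕ → ℕ
  | 0, _ => 0
  | k + 1, x => fpop (x % 2 ^ 24) + popW k (x >>> 24)

theorem popW_eq : ∀ k x, popW k x = pop (24 * k) x := by
  intro k
  induction k with
  | zero => intro x; rfl
  | succ k ih =>
    intro x
    rw [popW, ih, show 24 * (k + 1) = 24 + 24 * k by ring, pop_add,
      fpop_eq le_rfl (Nat.mod_lt _ (Nat.two_pow_pos 24)), pop_mod 24 24 x le_rfl]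

/-- the masks are the neighbourhoods of the relation -/
def rowsOK (m : ℕ) (R : ℕ → ℕ → Bool) (M : List ℕ) : Bool :=
  (List.range m).all fun i => let Ri := M.getD i 0
    decide (Ri < 2 ^ m) && (List.range m).all fun j => Ri.testBit j == R i j

/-- strong regularity read off from the neighbourhood masks -/
def countOK (m k l μ : ℕ) (M : List ℕ) : Bool :=
  (List.range m).all fun i => let Ri := M.getD i 0
    popW 5 Ri == k && (List.range m).all fun j => i == j ||
      popW 5 (Ri &&& M.getD j 0) == bif Ri.testBit j then l else μ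

theorem srgOK_of_masks {m k l μ : ℕ} (hm : m ≤ 120) {R : ℕ → ℕ → Bool} {M : List ℕ}
    (hrows : rowsOK m R M = true) (hcount : countOK m k l μ M = true) : srgOK m k l μ R = true := by
  simp only [rowsOK, countOK, List.all_eq_true, List.mem_range, Bool.and_eq_true, decide_eq_true_eq,
    beq_iff_eq, Bool.or_eq_true] at hrows hcount
  have hlen : ∀ (p : ℕ → Bool) (x : ℕ), x < 2 ^ m → (∀ j < m, x.testBit j = p j) →
      ((List.range m).filter p).length = popW 5 x := by
    intro p x hx hp
    rw [length_filter_range, popW_eq, pop_le_of_lt (24 * 5) m x (by omega) hx, ← card_dN]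
    congr 1
    ext j
    simp [mem_dN, hp j.val j.2]
  simp only [srgOK, List.all_eq_true, List.mem_range, Bool.and_eq_true, Bool.or_eq_true, beq_iff_eq]
  intro i hi
  obtain ⟨hlt, hbit⟩ := hrows i hi
  refine ⟨(hlen _ _ hlt hbit).trans (hcount i hi).1, fun j hj => ((hcount i hi).2 j hj).imp id fun h => ?_⟩
  obtain ⟨-, hbit'⟩ := hrows j hj
  rw [hlen (fun x => R i x && R j x) (M.getD i 0 &&& M.getD j 0) (lt_of_le_of_lt Nat.and_le_left hlt)
    (fun x hx => by rw [Nat.testBit_and, hbit x hx, hbit' x hx]), h, ← hbit j hj]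
  cases (M.getD i 0).testBit j <;> rfl

/-- disjointness of two model blocks -/
def blkR (i j : ℕ) : Bool := i != j && std22.getD i 0 &&& std22.getD j 0 == 0

/-- adjacency in the model of the point-block graph: the extra vertex is 99, the blocks 0 to 76,
the points 77 to 98 -/
def pbR (i j : ℕ) : Bool :=
  if i < 77 then (if j < 77 then blkR i j else decide (j < 99) && (std22.getD i 0).testBit (j - 77))
  else if i < 99 then (if j < 77 then (std22.getD j 0).testBit (i - 77) else j == 99)
  else decide (77 ≤ j) && decide (j < 99)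

theorem rows77 : rowsOK 77 blkR nb77 = true := by decide +kernel

theorem rows100 : rowsOK 100 pbR nb100 = true := by decide +kernel

theorem count77 : countOK 77 16 0 4 nb77 = true := by decide +kernel

theorem count100 : countOK 100 22 0 6 nb100 = true := by decide +kernel

theorem blkR_ok : srgOK 77 16 0 4 blkR = true := srgOK_of_masks (by norm_num) rows77 count77

theorem pbR_ok : srgOK 100 22 0 6 pbR = true := srgOK_of_masks (by norm_num) rows100 count100

theorem std22_length : std22.length = 77 := rfl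

section

variable {α : Type*} [Fintype α] [DecidableEq α]

/-- the blocks indexed by their position in the model -/
theorem exists_block_equiv (hα : Fintype.card α = 22) {B : Set (Finset α)} (hB : IsSteinerSystem 3 6 B) :
    ∃ (e : Fin 22 ≃ α) (φ : Fin 77 ≃ B),
      ∀ i : Fin 77, (φ i : Finset α) = (dN 22 (std22.getD i.val 0)).image e := by
  obtain ⟨e, he⟩ := lab22 hα hB
  have hget : ∀ i : Fin 77, std22.getD i.val 0 = std22[i.val]'(i.2.trans_eq std22_length.symm) := fun i =>
    List.getD_eq_getElem _ _ _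
  have hmem : ∀ i : Fin 77, (dN 22 (std22.getD i.val 0)).image e ∈ B := fun i => by
    rw [← mem_pullback, he, Finset.mem_coe, mem_sysL, hget]
    exact ⟨_, List.getElem_mem _, rfl⟩
  obtain ⟨hlt, hnd⟩ := listOK_spec listOK22
  refine ⟨e, Equiv.ofBijective (fun i => ⟨_, hmem i⟩) ⟨fun i j h => ?_, fun ⟨b, hb⟩ => ?_⟩, fun i => rfl⟩
  · have h1 : dN 22 (std22.getD i.val 0) = dN 22 (std22.getD j.val 0) :=
      Finset.image_injective e.injective (congrArg Subtype.val h)
    rw [hget, hget] at h1
    exact Fin.ext ((List.Nodup.getElem_inj_iff hnd).1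
      (dN_injective (hlt _ (List.getElem_mem _)) (hlt _ (List.getElem_mem _)) h1))
  · have h1 : b.image e.symm ∈ pullback e B := by rwa [mem_pullback, image_symm_image]
    rw [he, Finset.mem_coe, mem_sysL] at h1
    obtain ⟨m, hm, hme⟩ := h1
    obtain ⟨i, hi, rfl⟩ := List.mem_iff_getElem.1 hm
    refine ⟨⟨i, hi.trans_eq std22_length⟩, Subtype.ext ?_⟩
    show (dN 22 _).image e = b
    rw [hget, hme, image_symm_image]

theorem disjoint_iff_and (e : Fin 22 ≃ α) (i j : Fin 77) :
    Disjoint ((dN 22 (std22.getD i.val 0)).image e) ((dN 22 (std22.getD j.val 0)).image e) ↔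
      std22.getD i.val 0 &&& std22.getD j.val 0 = 0 := by
  have hlt : ∀ k : Fin 77, std22.getD k.val 0 < 2 ^ 22 := fun k => by
    rw [List.getD_eq_getElem _ _ (k.2.trans_eq std22_length.symm)]
    exact (listOK_spec listOK22).1 _ (List.getElem_mem _)
  rw [Finset.disjoint_image e.injective, Finset.disjoint_iff_inter_eq_empty, ← dN_and]
  constructor
  · exact fun h => dN_injective (lt_of_le_of_lt Nat.and_le_left (hlt i)) (Nat.two_pow_pos 22)
      (h.trans (by ext; simp [mem_dN]))
  · intro h
    rw [h]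
    ext
    simp [mem_dN]

theorem disjoint_or_iff {B : Set (Finset α)} {e : Fin 22 ≃ α} {φ : Fin 77 ≃ B}
    (hφ : ∀ i : Fin 77, (φ i : Finset α) = (dN 22 (std22.getD i.val 0)).image e) (i j : Fin 77) :
    (Disjoint (φ i : Finset α) (φ j : Finset α) ∨ Disjoint (φ j : Finset α) (φ i : Finset α)) ↔
      std22.getD i.val 0 &&& std22.getD j.val 0 = 0 := by
  rw [hφ, hφ, disjoint_iff_and, disjoint_iff_and, Nat.land_comm (std22.getD j.val 0), or_self]

theorem blockGraph_srg (hα : Fintype.card α = 22) {B : Set (Finset α)} (hB : IsSteinerSystem 3 6 B)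
    [Fintype B] [DecidableRel (blockGraph B).Adj] : (blockGraph B).IsSRGWith 77 16 0 4 := by
  obtain ⟨e, φ, hφ⟩ := exists_block_equiv hα hB
  refine srg_of_ok φ (fun i j => ?_) blkR_ok
  simp only [blockGraph, SimpleGraph.fromRel_adj, disjoint_or_iff hφ, blkR, Bool.and_eq_true,
    bne_iff_ne, ne_eq, φ.injective.eq_iff, beq_iff_eq, Fin.val_inj]

theorem exists_model_equiv (hα : Fintype.card α = 22) {B : Set (Finset α)} (hB : IsSteinerSystem 3 6 B) :
    ∃ f : Fin 100 ≃ Option (α ⊕ B), ∀ i j : Fin 100,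
      (pointBlockGraph B).Adj (f i) (f j) ↔ pbR i.val j.val = true := by
  haveI := Fintype.ofFinite B
  obtain ⟨e, φ, hφ⟩ := exists_block_equiv hα hB
  let f : Fin 100 → Option (α ⊕ B) := fun i =>
    if h : i.val < 77 then some (Sum.inr (φ ⟨i.val, h⟩))
    else if h' : i.val < 99 then some (Sum.inl (e ⟨i.val - 77, by omega⟩)) else none
  have hcase : ∀ i : Fin 100, (∃ k : Fin 77, i.val = k.val ∧ f i = some (Sum.inr (φ k))) ∨
      (∃ k : Fin 22, i.val = 77 + k.val ∧ f i = some (Sum.inl (e k))) ∨ (i.val = 99 ∧ f i = none) := by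
    intro i
    by_cases hi : i.val < 77
    · exact Or.inl ⟨⟨i.val, hi⟩, rfl, by simp only [f, hi, dite_true]⟩
    · by_cases hi' : i.val < 99
      · exact Or.inr (Or.inl ⟨⟨i.val - 77, by omega⟩, by simp only; omega,
          by simp only [f, hi, hi', dite_true, dite_false]⟩)
      · exact Or.inr (Or.inr ⟨by omega, by simp only [f, hi, hi', dite_false]⟩)
  have hf : Function.Bijective f := by
    refine (Fintype.bijective_iff_injective_and_card f).2 ⟨fun i j h => ?_, ?_⟩
    · rcases hcase i with ⟨k, hk, hi⟩ | ⟨k, hk, hi⟩ | ⟨hk, hi⟩ <;>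
        rcases hcase j with ⟨l, hl, hj⟩ | ⟨l, hl, hj⟩ | ⟨hl, hj⟩ <;> rw [hi, hj] at h <;>
        simp only [Option.some.injEq, Sum.inl.injEq, Sum.inr.injEq, φ.injective.eq_iff, e.injective.eq_iff,
          Fin.ext_iff, reduceCtorEq] at h <;> exact Fin.ext (by omega)
    · rw [Fintype.card_option, Fintype.card_sum, hα, ← Fintype.card_congr φ, Fintype.card_fin, Fintype.card_fin]
  refine ⟨Equiv.ofBijective f hf, fun i j => ?_⟩
  rw [pointBlockGraph, SimpleGraph.fromRel_adj]
  show f i ≠ f j ∧ (pointBlockRel B (f i) (f j) ∨ pointBlockRel B (f j) (f i)) ↔ _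
  have hmem : ∀ (k : Fin 77) (l : Fin 22), e l ∈ (φ k : Finset α) ↔
      (std22.getD k.val 0).testBit l.val = true := fun k l => by
    rw [hφ, e.injective.mem_finset_image, mem_dN]
  rw [hf.1.ne_iff, ne_eq, Fin.ext_iff]
  rcases hcase i with ⟨k, hk, hi⟩ | ⟨k, hk, hi⟩ | ⟨hk, hi⟩ <;>
    rcases hcase j with ⟨l, hl, hj⟩ | ⟨l, hl, hj⟩ | ⟨hl, hj⟩ <;> rw [hi, hj, hk, hl]
  · simp only [pointBlockRel, disjoint_or_iff hφ, pbR, k.2, l.2, if_true, blkR, Bool.and_eq_true,
      bne_iff_ne, ne_eq, beq_iff_eq]
  · have h1 : ¬ 77 + l.val < 77 := by omega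
    have h2 : 77 + l.val < 99 := by omega
    have h3 : k.val ≠ 77 + l.val := by omega
    simp [pointBlockRel, hmem, pbR, k.2, h1, h2, h3]
  · have h3 : k.val ≠ 99 := by omega
    simp [pointBlockRel, pbR, k.2, h3]
  · have h1 : ¬ 77 + k.val < 77 := by omega
    have h2 : 77 + k.val < 99 := by omega
    have h3 : 77 + k.val ≠ l.val := by omega
    simp [pointBlockRel, hmem, pbR, l.2, h1, h2, h3]
  · have h1 : ¬ 77 + k.val < 77 := by omega
    have h2 : 77 + k.val < 99 := by omega
    have h4 : ¬ 77 + l.val < 77 := by omega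
    have h5 : 77 + l.val ≠ 99 := by omega
    simp [pointBlockRel, pbR, h1, h2, h4, h5]
  · have h1 : ¬ 77 + k.val < 77 := by omega
    have h2 : 77 + k.val < 99 := by omega
    have h3 : 77 + k.val ≠ 99 := by omega
    simp [pointBlockRel, pbR, h1, h2, h3]
  · have h3 : (99 : ℕ) ≠ l.val := by omega
    have h4 : ¬ 77 ≤ l.val := by omega
    simp [pointBlockRel, pbR, h3, h4]
  · have h1 : 77 + l.val < 99 := by omega
    have h3 : (99 : ℕ) ≠ 77 + l.val := by omega
    simp [pointBlockRel, pbR, h1, h3]
  · simp [pointBlockRel, pbR]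


theorem pointBlockGraph_srg (hα : Fintype.card α = 22) {B : Set (Finset α)} (hB : IsSteinerSystem 3 6 B)
    [Fintype B] [DecidableRel (pointBlockGraph B).Adj] : (pointBlockGraph B).IsSRGWith 100 22 0 6 := by
  obtain ⟨f, hf⟩ := exists_model_equiv hα hB
  exact srg_of_ok f hf pbR_ok

end

end CfsgLib.Steiner
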