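import Mathlib

/-!
Two automorphisms of the model of the point-block graph on 100 vertices.
-/

set_option autoImplicit false

namespace CfsgLib.Steiner

/-- an automorphism moving the extra vertex -/
def hsMove : List ℕ := [
  11, 78, 43, 97, 16, 64, 2, 84, 94, 79, 33, 39, 65, 95, 28, 45,
  57, 81, 10, 23, 19, 56, 91, 68, 44, 36, 69, 92, 12, 89, 96, 73,
  24, 0, 63, 48, 62, 90, 18, 75, 6, 98, 32, 31, 42, 21, 86, 15,
  53, 87, 14, 55, 26, 20, 83, 40, 5, 71, 25, 35, 80, 85, 58, 4,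
  76, 52, 82, 74, 59, 50, 88, 67, 93, 51, 34, 38, 47, 99, 37, 9,
  46, 72, 13, 41, 49, 70, 30, 66, 27, 60, 1, 54, 3, 17, 22, 7,
  29, 61, 8, 77]

/-- its inverse -/
def hsMoveInv : List ℕ := [
  33, 90, 6, 92, 63, 56, 40, 95, 98, 79, 18, 0, 28, 82, 50, 47,
  4, 93, 38, 20, 53, 45, 94, 19, 32, 58, 52, 88, 14, 96, 86, 43,
  42, 10, 74, 59, 25, 78, 75, 11, 55, 83, 44, 2, 24, 15, 80, 76,
  35, 84, 69, 73, 65, 48, 91, 51, 21, 16, 62, 68, 89, 97, 36, 34,
  5, 12, 87, 71, 23, 26, 85, 57, 81, 31, 67, 39, 64, 99, 1, 9,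
  60, 17, 66, 54, 7, 61, 46, 49, 70, 29, 37, 22, 27, 72, 8, 13,
  30, 3, 41, 77]

/-- an odd automorphism of order two fixing the extra vertex, as disjoint exchanges -/
def hsSwaps : List (ℕ × ℕ) := [
  (0, 40), (3, 53), (4, 30), (5, 31), (6, 7), (8, 10), (9, 44), (11, 54),
  (13, 15), (14, 46), (16, 34), (17, 35), (18, 48), (19, 37), (20, 50), (22, 51),
  (23, 39), (25, 55), (32, 43), (33, 45), (38, 49), (56, 76), (57, 68), (58, 72),
  (59, 73), (61, 69), (65, 66), (70, 74), (77, 89), (79, 86), (81, 97), (82, 84),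
  (83, 96), (85, 87), (88, 90)]

end CfsgLib.Steiner
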