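import Cfsg.Prelude.Def_Sporadic
import Cfsg.Agent.Lib.Steiner.Aut
import Cfsg.Agent.Lib.Steiner.Graph
import Cfsg.Agent.Lib.Steiner.HSData

/-!
The automorphism group of the graph on 100 vertices of the design on 22 points has order 88704000
and its even permutations form a simple group of index two.
-/

set_option autoImplicit false

namespace CfsgLib.Steiner

open Cfsg
open scoped Pointwise

/-! ### The model -/

theorem perm_apply_inv {β : Type*} (g : Equiv.Perm β) (x : β) : g (g⁻¹ x) = x := g.apply_symm_apply x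

/-- the automorphisms of the model graph -/
def AutHS : Subgroup (Equiv.Perm (Fin 100)) where
  carrier := {g | ∀ i j, pbR (g i).val (g j).val = pbR i.val j.val}
  one_mem' _ _ := rfl
  mul_mem' {a b} ha hb i j := by rw [Equiv.Perm.mul_apply, Equiv.Perm.mul_apply, ha, hb]
  inv_mem' {a} ha i j := by
    conv_rhs => rw [← perm_apply_inv a i, ← perm_apply_inv a j, ha]

theorem mem_AutHS {g : Equiv.Perm (Fin 100)} :
    g ∈ AutHS ↔ ∀ i j, pbR (g i).val (g j).val = pbR i.val j.val := Iff.rfl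

/-- block vertices -/
def vB (j : Fin 77) : Fin 100 := ⟨j.val, by omega⟩

/-- point vertices -/
def vP (i : Fin 22) : Fin 100 := ⟨77 + i.val, by omega⟩

/-- the extra vertex -/
def v0 : Fin 100 := ⟨99, by omega⟩

theorem vertex_cases (x : Fin 100) : (∃ j, x = vB j) ∨ (∃ i, x = vP i) ∨ x = v0 := by
  rcases Nat.lt_or_ge x.val 77 with h | h
  · exact Or.inl ⟨⟨x.val, h⟩, Fin.ext rfl⟩
  · rcases Nat.lt_or_ge x.val 99 with h' | h'
    · exact Or.inr (Or.inl ⟨⟨x.val - 77, by omega⟩, Fin.ext (by simp only [vP]; omega)⟩)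
    · exact Or.inr (Or.inr (Fin.ext (by simp only [v0]; omega)))

theorem pbR_symm : ∀ i j : Fin 100, pbR i.val j.val = pbR j.val i.val := by decide +kernel

theorem pbR_v0 (x : Fin 100) : pbR v0.val x.val = true ↔ ∃ i, x = vP i := by
  simp only [pbR, v0, show ¬ (99 : ℕ) < 77 by omega, show ¬ (99 : ℕ) < 99 by omega, if_false,
    Bool.and_eq_true, decide_eq_true_eq]
  refine ⟨fun h => ⟨⟨x.val - 77, by omega⟩, Fin.ext (by simp only [vP]; omega)⟩, ?_⟩
  rintro ⟨i, rfl⟩
  simp only [vP]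
  omega

theorem pbR_vP_vB (i : Fin 22) (j : Fin 77) :
    pbR (vP i).val (vB j).val = (std22.getD j.val 0).testBit i.val := by
  simp [pbR, vP, vB, show ¬ 77 + i.val < 77 by omega, show 77 + i.val < 99 by omega, j.2]

theorem vB_injective : Function.Injective vB := fun a b h => Fin.ext (congrArg Fin.val h :)

theorem vP_injective : Function.Injective vP := fun a b h => by
  have := congrArg Fin.val h
  simp only [vP] at this
  exact Fin.ext (by omega)

theorem vB_ne_vP (i : Fin 22) (j : Fin 77) : vB j ≠ vP i := fun h => by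
  have := congrArg Fin.val h
  simp only [vB, vP] at this
  omega

theorem vB_ne_v0 (j : Fin 77) : vB j ≠ v0 := fun h => by
  have := congrArg Fin.val h
  simp only [vB, v0] at this
  omega

theorem vP_ne_v0 (i : Fin 22) : vP i ≠ v0 := fun h => by
  have := congrArg Fin.val h
  simp only [vP, v0] at this
  omega

/-- the block of a block vertex -/
def blk (j : Fin 77) : Finset (Fin 22) := dN 22 (std22.getD j.val 0)

theorem blk_injective : Function.Injective blk := by
  intro a b h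
  obtain ⟨hlt, hnd⟩ := listOK_spec listOK22
  have ha := a.2.trans_eq std22_length.symm
  have hb := b.2.trans_eq std22_length.symm
  rw [blk, blk, List.getD_eq_getElem _ _ ha, List.getD_eq_getElem _ _ hb] at h
  exact Fin.ext ((List.Nodup.getElem_inj_iff hnd).1
    (dN_injective (hlt _ (List.getElem_mem _)) (hlt _ (List.getElem_mem _)) h))

theorem mem_sys22_iff {s : Finset (Fin 22)} : s ∈ sysL 22 std22 ↔ ∃ j, blk j = s := by
  rw [mem_sysL]
  constructor
  · rintro ⟨m, hm, rfl⟩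
    obtain ⟨i, hi, rfl⟩ := List.mem_iff_getElem.1 hm
    exact ⟨⟨i, hi.trans_eq std22_length⟩, by rw [blk, List.getD_eq_getElem _ _ hi]⟩
  · rintro ⟨j, rfl⟩
    refine ⟨_, ?_, rfl⟩
    rw [List.getD_eq_getElem _ _ (j.2.trans_eq std22_length.symm)]
    exact List.getElem_mem _

theorem steiner22 : IsSteinerSystem 3 6 (sysL 22 std22 : Set (Finset (Fin 22))) :=
  derived_steiner derived22 steiner23

/-! ### The stabilizer of the extra vertex -/

theorem stab_point {g : Equiv.Perm (Fin 100)} (hg : g ∈ AutHS) (h0 : g v0 = v0) (i : Fin 22) :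
    ∃ k, g (vP i) = vP k := by
  rw [← pbR_v0]
  conv_lhs => rw [← h0]
  rw [hg, pbR_v0]
  exact ⟨i, rfl⟩

theorem stab_block {g : Equiv.Perm (Fin 100)} (hg : g ∈ AutHS) (h0 : g v0 = v0) (j : Fin 77) :
    ∃ k, g (vB j) = vB k := by
  rcases vertex_cases (g (vB j)) with h | ⟨i, hi⟩ | h
  · exact h
  · have h2 : pbR v0.val (vB j).val = true := by
      rw [← hg, h0, hi, pbR_v0]; exact ⟨i, rfl⟩
    obtain ⟨i', hi'⟩ := (pbR_v0 _).1 h2
    exact absurd hi' (vB_ne_vP i' j)
  · exact absurd (g.injective (h.trans h0.symm)) (vB_ne_v0 j)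

theorem stab_perm {g : Equiv.Perm (Fin 100)} (hg : g ∈ AutHS) (h0 : g v0 = v0) :
    ∃ σ : setSystemAut (sysL 22 std22 : Set (Finset (Fin 22))),
      ∀ i, g (vP i) = vP ((σ : Equiv.Perm (Fin 22)) i) := by
  choose f hf using stab_point hg h0
  have hinj : Function.Injective f := fun a b h => vP_injective (g.injective (by rw [hf, hf, h]))
  let σ := Equiv.ofBijective f (Finite.injective_iff_bijective.1 hinj)
  have hblk : ∀ j k, g (vB j) = vB k → (blk j).image σ = blk k := by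
    intro j k hk
    ext l
    obtain ⟨i, rfl⟩ := σ.surjective l
    rw [σ.injective.mem_finset_image, blk, blk, mem_dN, mem_dN, ← pbR_vP_vB, ← pbR_vP_vB, ← hk,
      show vP (σ i) = g (vP i) from (hf i).symm, hg]
  have hsub : ∀ s, s ∈ sysL 22 std22 → s.image σ ∈ sysL 22 std22 := by
    intro s hs
    obtain ⟨j, rfl⟩ := mem_sys22_iff.1 hs
    obtain ⟨k, hk⟩ := stab_block hg h0 j
    exact mem_sys22_iff.2 ⟨k, (hblk j k hk).symm⟩
  refine ⟨⟨σ, mem_aut_iff.2 fun s => ⟨fun h => ?_, fun h => hsub s h⟩⟩, fun i => hf i⟩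
  have himg : (sysL 22 std22).image (fun s => s.image σ) = sysL 22 std22 :=
    Finset.eq_of_subset_of_card_le
      (fun t ht => by obtain ⟨u, hu, rfl⟩ := Finset.mem_image.1 ht; exact hsub u hu)
      (le_of_eq (Finset.card_image_of_injective _ (Finset.image_injective σ.injective)).symm)
  rw [Finset.mem_coe, ← himg, (Finset.image_injective σ.injective).mem_finset_image] at h
  exact h

theorem stab_ext {g h : Equiv.Perm (Fin 100)} (hg : g ∈ AutHS) (hh : h ∈ AutHS) (hg0 : g v0 = v0)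
    (hh0 : h v0 = v0) (he : ∀ i, g (vP i) = h (vP i)) : g = h := by
  ext x
  congr 1
  rcases vertex_cases x with ⟨j, rfl⟩ | ⟨i, rfl⟩ | rfl
  · obtain ⟨k, hk⟩ := stab_block hg hg0 j
    obtain ⟨l, hl⟩ := stab_block hh hh0 j
    rw [hk, hl]
    refine congrArg vB (blk_injective ?_)
    ext m
    obtain ⟨i, hi⟩ := stab_point (inv_mem hg) (by rw [Equiv.Perm.inv_eq_iff_eq, hg0]) m
    have hgi : g (vP i) = vP m := by rw [← hi, perm_apply_inv]
    rw [blk, blk, mem_dN, mem_dN, ← pbR_vP_vB, ← pbR_vP_vB, ← hk, ← hl]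
    conv_lhs => rw [← hgi, hg]
    conv_rhs => rw [← hgi, he, hh]
  · exact he i
  · rw [hg0, hh0]

theorem exists_stab (σ : setSystemAut (sysL 22 std22 : Set (Finset (Fin 22)))) :
    ∃ g ∈ AutHS, g v0 = v0 ∧ ∀ i, g (vP i) = vP ((σ : Equiv.Perm (Fin 22)) i) := by
  set p : Equiv.Perm (Fin 22) := σ.1
  have hb : ∀ j : Fin 77, ∃ k, blk k = (blk j).image p := fun j =>
    mem_sys22_iff.1 ((mem_aut_iff.1 σ.2 _).2 (mem_sys22_iff.2 ⟨j, rfl⟩))
  choose β hβ using hb
  have hβinj : Function.Injective β := fun a b h =>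
    blk_injective (Finset.image_injective p.injective ((hβ a).symm.trans (h ▸ hβ b)))
  let f : Fin 100 → Fin 100 := fun x =>
    if h : x.val < 77 then vB (β ⟨x.val, h⟩)
    else if h' : x.val < 99 then vP (p ⟨x.val - 77, by omega⟩) else v0
  have fB : ∀ j, f (vB j) = vB (β j) := fun j => by simp only [f, vB, j.2, dite_true]
  have fP : ∀ i, f (vP i) = vP (p i) := fun i => by
    simp only [f, vP, show ¬ 77 + i.val < 77 by omega, show 77 + i.val < 99 by omega, dite_true, dite_false,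
      Nat.add_sub_cancel_left]
  have f0 : f v0 = v0 := by simp [f, v0]
  have hinj : Function.Injective f := by
    intro x y h
    rcases vertex_cases x with ⟨j, rfl⟩ | ⟨i, rfl⟩ | rfl <;>
      rcases vertex_cases y with ⟨k, rfl⟩ | ⟨l, rfl⟩ | rfl <;> simp only [fB, fP, f0] at h
    · rw [hβinj (vB_injective h)]
    · exact absurd h (vB_ne_vP _ _)
    · exact absurd h (vB_ne_v0 _)
    · exact absurd h.symm (vB_ne_vP _ _)
    · rw [p.injective (vP_injective h)]
    · exact absurd h (vP_ne_v0 _)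
    · exact absurd h.symm (vB_ne_v0 _)
    · exact absurd h.symm (vP_ne_v0 _)
    · rfl
  refine ⟨Equiv.ofBijective f (Finite.injective_iff_bijective.1 hinj), fun x y => ?_, f0, fP⟩
  show pbR (f x).val (f y).val = pbR x.val y.val
  have hPB : ∀ i j, pbR (vP (p i)).val (vB (β j)).val = pbR (vP i).val (vB j).val := fun i j => by
    rw [pbR_vP_vB, pbR_vP_vB, Bool.eq_iff_iff, ← mem_dN (n := 22), ← mem_dN (n := 22)]
    show p i ∈ blk (β j) ↔ i ∈ blk j
    rw [hβ, p.injective.mem_finset_image]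
  have hBB : ∀ j k, pbR (vB (β j)).val (vB (β k)).val = pbR (vB j).val (vB k).val := fun j k => by
    have hd : ∀ a b : Fin 77, pbR (vB a).val (vB b).val = true ↔ a ≠ b ∧ Disjoint (blk a) (blk b) := by
      intro a b
      have hlt : std22.getD a.val 0 < 2 ^ 22 := by
        rw [List.getD_eq_getElem _ _ (a.2.trans_eq std22_length.symm)]
        exact (listOK_spec listOK22).1 _ (List.getElem_mem _)
      simp only [pbR, vB, a.2, b.2, if_true, blkR, Bool.and_eq_true, bne_iff_ne, beq_iff_eq, ne_eq,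
        Fin.val_inj, blk, Finset.disjoint_iff_inter_eq_empty, ← dN_and]
      refine and_congr Iff.rfl ⟨fun h => by rw [h]; ext; simp [mem_dN], fun h => ?_⟩
      exact dN_injective (lt_of_le_of_lt Nat.and_le_left hlt) (Nat.two_pow_pos 22)
        (h.trans (by ext; simp [mem_dN]))
    rw [Bool.eq_iff_iff, hd, hd, hβ, hβ, Finset.disjoint_image p.injective, hβinj.ne_iff]
  rcases vertex_cases x with ⟨j, rfl⟩ | ⟨i, rfl⟩ | rfl <;>
    rcases vertex_cases y with ⟨k, rfl⟩ | ⟨l, rfl⟩ | rfl <;> simp only [fB, fP, f0]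
  · exact hBB j k
  · rw [pbR_symm, hPB, pbR_symm]
  · rw [pbR_symm, pbR_symm (vB j)]
    simp [pbR, v0, vB, show ¬ 77 ≤ (β j).val by omega, show ¬ 77 ≤ j.val by omega]
  · exact hPB i k
  · simp [pbR, vP, show 77 + (p i).val < 99 by omega, show 77 + i.val < 99 by omega,
      show 77 + (p l).val ≠ 99 by omega, show 77 + l.val ≠ 99 by omega]
  · rw [pbR_symm, pbR_symm (vP i), Bool.eq_iff_iff, pbR_v0, pbR_v0]
    exact iff_of_true ⟨_, rfl⟩ ⟨_, rfl⟩
  · simp [pbR, v0, vB, show ¬ 77 ≤ (β k).val by omega, show ¬ 77 ≤ k.val by omega]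
  · rw [Bool.eq_iff_iff, pbR_v0, pbR_v0]
    exact iff_of_true ⟨_, rfl⟩ ⟨_, rfl⟩

/-- the automorphism of the graph of an automorphism of the design -/
noncomputable def θ : setSystemAut (sysL 22 std22 : Set (Finset (Fin 22))) →* Equiv.Perm (Fin 100) where
  toFun σ := (exists_stab σ).choose
  map_one' := by
    obtain ⟨h1, h2, h3⟩ := (exists_stab 1).choose_spec
    exact stab_ext h1 (one_mem _) h2 rfl fun i => by rw [h3]; rfl
  map_mul' σ τ := by
    obtain ⟨h1, h2, h3⟩ := (exists_stab (σ * τ)).choose_spec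
    obtain ⟨a1, a2, a3⟩ := (exists_stab σ).choose_spec
    obtain ⟨b1, b2, b3⟩ := (exists_stab τ).choose_spec
    exact stab_ext h1 (mul_mem a1 b1) h2 (by rw [Equiv.Perm.mul_apply, b2, a2])
      fun i => by rw [h3, Equiv.Perm.mul_apply, b3, a3]; rfl

theorem θ_spec (σ : setSystemAut (sysL 22 std22 : Set (Finset (Fin 22)))) :
    θ σ ∈ AutHS ∧ θ σ v0 = v0 ∧ ∀ i, θ σ (vP i) = vP ((σ : Equiv.Perm (Fin 22)) i) :=
  (exists_stab σ).choose_spec

theorem θ_injective : Function.Injective θ := fun σ τ h =>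
  Subtype.ext (Equiv.ext fun i => vP_injective (by rw [← (θ_spec σ).2.2, ← (θ_spec τ).2.2, h]))

theorem θ_range : θ.range = AutHS ⊓ MulAction.stabilizer (Equiv.Perm (Fin 100)) v0 := by
  ext g
  rw [MonoidHom.mem_range, Subgroup.mem_inf, MulAction.mem_stabilizer_iff, Equiv.Perm.smul_def]
  constructor
  · rintro ⟨σ, rfl⟩
    exact ⟨(θ_spec σ).1, (θ_spec σ).2.1⟩
  · rintro ⟨hg, h0⟩
    obtain ⟨σ, hσ⟩ := stab_perm hg h0
    exact ⟨σ, stab_ext (θ_spec σ).1 hg (θ_spec σ).2.1 h0 fun i => by rw [(θ_spec σ).2.2, hσ]⟩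

theorem θK_sign (k : K22) : Equiv.Perm.sign (θ k.1) = 1 := by
  let χ : K22 →* ℤˣ := Equiv.Perm.sign.comp (θ.comp K22.subtype)
  haveI := natCard_K22.2
  rcases (MonoidHom.normal_ker χ).eq_bot_or_eq_top with h | h
  · have h2 := Nat.card_le_card_of_injective χ ((MonoidHom.ker_eq_bot_iff χ).1 h)
    rw [natCard_K22.1, Nat.card_eq_fintype_card, Fintype.card_units_int] at h2
    omega
  · exact MonoidHom.mem_ker.1 (h ▸ Subgroup.mem_top k : k ∈ χ.ker)

/-! ### Two further automorphisms -/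

theorem hsMove_chk : permOK 100 hsMove hsMoveInv = true ∧
    ((List.range 100).all fun i => (List.range 100).all fun j =>
      pbR (hsMove.getD i 100) (hsMove.getD j 100) == pbR i j) = true ∧
    hsMove.getD 99 100 = 77 := by decide +kernel

theorem exists_move : ∃ g ∈ AutHS, g v0 = vP 0 := by
  obtain ⟨h1, h2, h3⟩ := hsMove_chk
  obtain ⟨g, hg⟩ := exists_perm h1
  simp only [List.all_eq_true, List.mem_range, beq_iff_eq] at h2
  exact ⟨g, fun i j => by rw [hg, hg]; exact h2 i i.2 j j.2, Fin.ext (by rw [hg]; exact h3)⟩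

/-- a list of exchanges as a permutation -/
def swapsPerm (l : List (ℕ × ℕ)) : Equiv.Perm (Fin 100) :=
  (l.map fun p => Equiv.swap (Fin.ofNat 100 p.1) (Fin.ofNat 100 p.2)).prod

theorem sign_swapsPerm : ∀ {l : List (ℕ × ℕ)}, (l.all fun p => decide (p.1 < p.2) && decide (p.2 < 100)) = true →
    Equiv.Perm.sign (swapsPerm l) = (-1) ^ l.length := by
  intro l
  induction l with
  | nil => intro _; simp [swapsPerm]
  | cons p l ih =>
    intro h
    simp only [List.all_cons, Bool.and_eq_true, decide_eq_true_eq] at h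
    have hne : Fin.ofNat 100 p.1 ≠ Fin.ofNat 100 p.2 := fun e => by
      have := congrArg Fin.val e
      simp only [Fin.val_ofNat, Nat.mod_eq_of_lt h.1.2, Nat.mod_eq_of_lt (h.1.1.trans h.1.2)] at this
      omega
    rw [swapsPerm, List.map_cons, List.prod_cons, map_mul, Equiv.Perm.sign_swap hne,
      ← swapsPerm, ih h.2, List.length_cons, pow_succ']

/-- the image of a vertex under a list of exchanges -/
def swapsApp : List (ℕ × ℕ) → ℕ → ℕ
  | [], x => x
  | p :: l, x => let y := swapsApp l x; if y == p.1 then p.2 else if y == p.2 then p.1 else y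

theorem hsSwaps_chk : (hsSwaps.all fun p => decide (p.1 < p.2) && decide (p.2 < 100)) = true ∧
    hsSwaps.length % 2 = 1 ∧ swapsApp hsSwaps 99 = 99 ∧
    ((List.range 100).all fun i => decide (swapsApp hsSwaps i < 100)) = true := by decide +kernel

/-- adjacency is preserved by the exchanges -/
def swapsOK : Bool :=
  let img := (List.range 100).map (swapsApp hsSwaps)
  (List.range 100).all fun i => (List.range 100).all fun j =>
    pbR (img.getD i 100) (img.getD j 100) == pbR i j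

theorem swapsOK_ok : swapsOK = true := by decide +kernel

theorem swapsPerm_val : ∀ {l : List (ℕ × ℕ)}, (l.all fun p => decide (p.1 < p.2) && decide (p.2 < 100)) = true →
    ∀ x : Fin 100, (swapsPerm l x).val = swapsApp l x.val := by
  intro l
  induction l with
  | nil => intro _ x; rfl
  | cons p l ih =>
    intro h x
    simp only [List.all_cons, Bool.and_eq_true, decide_eq_true_eq] at h
    rw [swapsPerm, List.map_cons, List.prod_cons, Equiv.Perm.mul_apply, ← swapsPerm, swapsApp,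
      ← ih h.2 x, Equiv.swap_apply_def]
    simp only [Fin.ext_iff, Fin.val_ofNat, Nat.mod_eq_of_lt h.1.2, Nat.mod_eq_of_lt (h.1.1.trans h.1.2),
      beq_iff_eq, apply_ite Fin.val]

theorem exists_odd : ∃ g ∈ AutHS, g v0 = v0 ∧ Equiv.Perm.sign g = -1 := by
  obtain ⟨h1, h2, h3, -⟩ := hsSwaps_chk
  refine ⟨swapsPerm hsSwaps, fun i j => ?_, Fin.ext ((swapsPerm_val h1 v0).trans h3), ?_⟩
  · have h := swapsOK_ok
    simp only [swapsOK, List.all_eq_true, List.mem_range, beq_iff_eq] at h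
    have hi := h i.val i.2 j.val j.2
    rw [List.getD_eq_getElem _ _ (by simp), List.getD_eq_getElem _ _ (by simp), List.getElem_map,
      List.getElem_map, List.getElem_range, List.getElem_range] at hi
    rw [swapsPerm_val h1, swapsPerm_val h1, hi]
  · rw [sign_swapsPerm h1]
    exact Odd.neg_one_pow (Nat.odd_iff.2 h2)

/-! ### Transitivity -/

/-- the even automorphisms -/
def EvenHS : Subgroup (Equiv.Perm (Fin 100)) := AutHS ⊓ (Equiv.Perm.sign).ker

theorem mem_EvenHS {g : Equiv.Perm (Fin 100)} : g ∈ EvenHS ↔ g ∈ AutHS ∧ Equiv.Perm.sign g = 1 := by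
  rw [EvenHS, Subgroup.mem_inf, MonoidHom.mem_ker]

theorem θK_mem (k : K22) : θ k.1 ∈ EvenHS := mem_EvenHS.2 ⟨(θ_spec k.1).1, θK_sign k⟩

theorem K22_three (x y : Fin 3 ↪ Fin 22) : ∃ k : K22, ∀ i, (k.1.1 : Equiv.Perm (Fin 22)) (x i) = y i := by
  let w : (Fin 3 ↪ Fin 22) → Fin 5 → Fin 24 := fun z => Fin.snoc
    (fun i => ((Fin.snoc (fun i => (z i).castSucc) (Fin.last 22) : Fin 4 → Fin 23) i).castSucc) (Fin.last 23)
  have hinj : ∀ z : Fin 3 ↪ Fin 22, Function.Injective (w z) := fun z =>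
    Fin.snoc_injective_iff.2 ⟨(Fin.castSucc_injective _).comp (Fin.snoc_injective_iff.2
      ⟨(Fin.castSucc_injective _).comp z.injective, fun ⟨i, hi⟩ => Fin.castSucc_ne_last _ hi⟩),
      fun ⟨i, hi⟩ => Fin.castSucc_ne_last _ hi⟩
  obtain ⟨g, hg⟩ := five24.exists_smul_eq ⟨_, hinj x⟩ ⟨_, hinj y⟩
  have hg' : ∀ i : Fin 5, (g : Equiv.Perm (Fin 24)) (w x i) = w y i := fun i => DFunLike.congr_fun hg i
  have hlast := hg' (Fin.last 4)
  simp only [w, Fin.snoc_last] at hlast
  obtain ⟨τ, hτ⟩ := exists_extHom hlast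
  have h3 := hg' (Fin.last 3).castSucc
  simp only [w, Fin.snoc_castSucc, Fin.snoc_last, ← hτ, extHom_castSucc] at h3
  obtain ⟨σ, rfl⟩ := exists_extHom (Fin.castSucc_injective _ h3)
  have h23 := extHom23_mem.1 (hτ ▸ g.2)
  refine ⟨⟨⟨σ, aut_of_extHom derived22 h23⟩, mem_K22.2 h23⟩, fun i => ?_⟩
  have h := hg' i.castSucc.castSucc
  simp only [w, Fin.snoc_castSucc, ← hτ, extHom_castSucc] at h
  exact Fin.castSucc_injective _ (Fin.castSucc_injective _ h)

theorem points_trans (i i' : Fin 22) : ∃ k : K22, θ k.1 (vP i) = vP i' := by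
  obtain ⟨k, hk⟩ := K22_three ((Fin.castLEEmb (by norm_num)).trans (Equiv.swap 0 i).toEmbedding)
    ((Fin.castLEEmb (by norm_num)).trans (Equiv.swap 0 i').toEmbedding)
  refine ⟨k, ?_⟩
  have h := hk 0
  simp only [Function.Embedding.trans_apply, Equiv.coe_toEmbedding, Fin.castLEEmb_apply, Fin.castLE_zero,
    Equiv.swap_apply_left] at h
  rw [(θ_spec k.1).2.2, h]

theorem blocks_trans (j j' : Fin 77) : ∃ k : K22, θ k.1 (vB j) = vB j' := by
  have h6 : ∀ j : Fin 77, (blk j).card = 6 := fun j => steiner22.1 _ (mem_sys22_iff.2 ⟨j, rfl⟩)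
  have hemb : ∀ j : Fin 77, ∃ x : Fin 3 ↪ Fin 22, ∀ i, x i ∈ blk j := fun j => by
    obtain ⟨S, hS, hc⟩ := Finset.exists_subset_card_eq (show 3 ≤ (blk j).card by rw [h6]; norm_num)
    exact ⟨(Finset.equivFinOfCardEq hc).symm.toEmbedding.trans (Function.Embedding.subtype _),
      fun i => hS ((Finset.equivFinOfCardEq hc).symm i).2⟩
  obtain ⟨x, hx⟩ := hemb j
  obtain ⟨y, hy⟩ := hemb j'
  obtain ⟨k, hk⟩ := K22_three x y
  refine ⟨k, ?_⟩
  obtain ⟨l, hl⟩ := stab_block (θ_spec k.1).1 (θ_spec k.1).2.1 j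
  rw [hl]
  refine congrArg vB (blk_injective ?_)
  obtain ⟨b, -, huniq⟩ := steiner22.2 (Finset.univ.map y) (by simp)
  rw [huniq (blk l) ⟨mem_sys22_iff.2 ⟨l, rfl⟩, fun z hz => ?_⟩,
    huniq (blk j') ⟨mem_sys22_iff.2 ⟨j', rfl⟩, fun z hz => ?_⟩]
  · obtain ⟨i, -, rfl⟩ := Finset.mem_map.1 hz
    exact hy i
  · obtain ⟨i, -, rfl⟩ := Finset.mem_map.1 hz
    rw [← hk, blk, mem_dN, ← pbR_vP_vB, ← hl, ← (θ_spec k.1).2.2, (θ_spec k.1).1, pbR_vP_vB, ← mem_dN]
    exact hx i

theorem block_has_point : ∀ j : Fin 77, ∃ i : Fin 22, pbR (vP i).val (vB j).val = true := by decide +kernel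

theorem block_has_block : ∀ j : Fin 77, ∃ j' : Fin 77, pbR (vB j).val (vB j').val = true := by decide +kernel

/-- a set closed under adjacency that contains the extra vertex is everything -/
theorem eq_univ_of_closed {O : Set (Fin 100)} (h0 : v0 ∈ O)
    (h : ∀ x ∈ O, ∀ y, pbR x.val y.val = true → y ∈ O) (x : Fin 100) : x ∈ O := by
  have hP : ∀ i, vP i ∈ O := fun i => h v0 h0 _ ((pbR_v0 _).2 ⟨i, rfl⟩)
  rcases vertex_cases x with ⟨j, rfl⟩ | ⟨i, rfl⟩ | rfl
  · obtain ⟨i, hi⟩ := block_has_point j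
    exact h _ (hP i) _ hi
  · exact hP i
  · exact h0

theorem even_trans (x : Fin 100) : ∃ g ∈ EvenHS, g v0 = x := by
  obtain ⟨τ, hτ, hτ0, hτs⟩ := exists_odd
  have key : ∀ g ∈ AutHS, ∃ g' ∈ EvenHS, g' v0 = g v0 := by
    intro g hg
    rcases Int.units_eq_one_or (Equiv.Perm.sign g) with h | h
    · exact ⟨g, mem_EvenHS.2 ⟨hg, h⟩, rfl⟩
    · exact ⟨g * τ, mem_EvenHS.2 ⟨mul_mem hg hτ, by rw [map_mul, h, hτs]; rfl⟩,
        by rw [Equiv.Perm.mul_apply, hτ0]⟩
  refine eq_univ_of_closed (O := {x | ∃ g ∈ EvenHS, g v0 = x}) ⟨1, one_mem _, rfl⟩ ?_ x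
  rintro _ ⟨g, hg, rfl⟩ y hy
  have h1 : pbR v0.val (g⁻¹ y).val = true := by
    rw [← (mem_EvenHS.1 hg).1, perm_apply_inv]; exact hy
  obtain ⟨i, hi⟩ := (pbR_v0 _).1 h1
  obtain ⟨m, hm, hm0⟩ := exists_move
  obtain ⟨k, hk⟩ := points_trans 0 i
  obtain ⟨g', hg', hg'0⟩ := key (g * θ k.1 * m) (mul_mem (mul_mem (mem_EvenHS.1 hg).1 (θ_spec k.1).1) hm)
  refine ⟨g', hg', ?_⟩
  rw [hg'0, Equiv.Perm.mul_apply, Equiv.Perm.mul_apply, hm0, hk, ← hi, perm_apply_inv]

/-! ### Orders -/

theorem natCard_stab : Nat.card ↥(AutHS ⊓ MulAction.stabilizer (Equiv.Perm (Fin 100)) v0) = 887040 := by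
  rw [← θ_range, ← natCard_aut22]
  exact Nat.card_congr (MonoidHom.ofInjective θ_injective).toEquiv.symm

theorem natCard_of_trans (S : Subgroup (Equiv.Perm (Fin 100))) (h : ∀ x, ∃ g ∈ S, g v0 = x) :
    Nat.card S = 100 * Nat.card ↥(S ⊓ MulAction.stabilizer (Equiv.Perm (Fin 100)) v0) := by
  have hpre : MulAction.IsPretransitive S (Fin 100) := ⟨fun a b => by
    obtain ⟨g, hg, rfl⟩ := h a
    obtain ⟨g', hg', rfl⟩ := h b
    refine ⟨⟨g' * g⁻¹, mul_mem hg' (inv_mem hg)⟩, ?_⟩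
    show (g' * g⁻¹) (g v0) = g' v0
    simp⟩
  have h2 := MulAction.index_stabilizer_of_transitive S v0
  have h3 := Subgroup.card_mul_index (MulAction.stabilizer S v0)
  rw [h2, Nat.card_eq_fintype_card (α := Fin 100), Fintype.card_fin] at h3
  rw [← h3, Nat.mul_comm]
  congr 1
  have e : MulAction.stabilizer S v0 =
      (S ⊓ MulAction.stabilizer (Equiv.Perm (Fin 100)) v0).subgroupOf S := by
    ext g
    exact ⟨fun hg => ⟨g.2, hg⟩, fun hg => hg.2⟩
  rw [e]
  exact Nat.card_congr (Subgroup.subgroupOfEquivOfLe inf_le_left).toEquiv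

theorem natCard_AutHS : Nat.card AutHS = 88704000 := by
  rw [natCard_of_trans AutHS fun x => (even_trans x).imp fun g hg => ⟨(mem_EvenHS.1 hg.1).1, hg.2⟩,
    natCard_stab]

theorem index_even : (EvenHS.subgroupOf AutHS).index = 2 := by
  obtain ⟨τ, hτ, -, hτs⟩ := exists_odd
  rw [Subgroup.index_eq_two_iff]
  refine ⟨⟨τ, hτ⟩, fun b => ?_⟩
  simp only [Subgroup.mem_subgroupOf, mem_EvenHS, Subgroup.coe_mul, map_mul, hτs]
  rcases Int.units_eq_one_or (Equiv.Perm.sign (b : Equiv.Perm (Fin 100))) with h | h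
  · exact Or.inr ⟨⟨b.2, h⟩, fun h' => by rw [h] at h'; exact absurd h'.2 (by decide)⟩
  · exact Or.inl ⟨⟨mul_mem b.2 hτ, by rw [h]; rfl⟩, fun h' => by rw [h] at h'; exact absurd h'.2 (by decide)⟩

theorem natCard_EvenHS : Nat.card EvenHS = 44352000 := by
  have h := Subgroup.card_mul_index (EvenHS.subgroupOf AutHS)
  rw [index_even, natCard_AutHS,
    Nat.card_congr (Subgroup.subgroupOfEquivOfLe (show EvenHS ≤ AutHS from inf_le_left)).toEquiv] at h
  omega

theorem even_stab : EvenHS ⊓ MulAction.stabilizer (Equiv.Perm (Fin 100)) v0 = K22.map θ := by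
  refine (Subgroup.eq_of_le_of_card_ge ?_ ?_).symm
  · rintro g ⟨k, hk, rfl⟩
    exact ⟨θK_mem ⟨k, hk⟩, (θ_spec k).2.1⟩
  · rw [← Nat.card_congr (K22.equivMapOfInjective θ θ_injective).toEquiv, natCard_K22.1]
    have h := natCard_of_trans EvenHS even_trans
    rw [natCard_EvenHS] at h
    omega

/-! ### Simplicity -/

theorem simple_EvenHS : IsSimpleGroup EvenHS := by
  classical
  haveI : Nontrivial EvenHS := Finite.one_lt_card_iff_nontrivial.1 (by rw [natCard_EvenHS]; norm_num)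
  refine ⟨fun N hN => ?_⟩
  rcases eq_or_ne N ⊥ with hb | hne
  · exact Or.inl hb
  refine Or.inr ?_
  let ι : K22 →* EvenHS := (θ.comp K22.subtype).codRestrict _ θK_mem
  have hι : ∀ k : K22, (ι k : Equiv.Perm (Fin 100)) = θ k.1 := fun k => rfl
  have hιinj : Function.Injective ι := fun a b h =>
    Subtype.ext (θ_injective (congrArg (fun z : EvenHS => (z : Equiv.Perm (Fin 100))) h))
  have hιrange : ∀ g : EvenHS, (g : Equiv.Perm (Fin 100)) v0 = v0 → ∃ k, ι k = g := by
    intro g hg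
    have h : (g : Equiv.Perm (Fin 100)) ∈ EvenHS ⊓ MulAction.stabilizer (Equiv.Perm (Fin 100)) v0 :=
      ⟨g.2, hg⟩
    rw [even_stab] at h
    obtain ⟨k, hk, hkg⟩ := h
    exact ⟨⟨k, hk⟩, Subtype.ext hkg⟩
  have hv : ∀ k : K22, (ι k : Equiv.Perm (Fin 100)) v0 = v0 := fun k => (θ_spec k.1).2.1
  -- the orbit of the extra vertex
  let O : Set (Fin 100) := {x | ∃ n ∈ N, (n : Equiv.Perm (Fin 100)) v0 = x}
  have hOk : ∀ (k : K22) (x : Fin 100), x ∈ O → θ k.1 x ∈ O := by
    rintro k _ ⟨n, hn, rfl⟩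
    refine ⟨ι k * n * (ι k)⁻¹, hN.conj_mem n hn _, ?_⟩
    rw [Subgroup.coe_mul, Subgroup.coe_mul, Equiv.Perm.mul_apply, Equiv.Perm.mul_apply, Subgroup.coe_inv,
      show ((ι k : Equiv.Perm (Fin 100))⁻¹) v0 = v0 by rw [Equiv.Perm.inv_eq_iff_eq, hv], hι]
  have hOne : ∃ x ∈ O, x ≠ v0 := by
    by_contra h
    push Not at h
    refine hne ((Subgroup.eq_bot_iff_forall _).2 fun n hn => Subtype.ext (Equiv.ext fun x => ?_))
    obtain ⟨g, hg, rfl⟩ := even_trans x
    have h1 := h _ ⟨(⟨g, hg⟩ : EvenHS)⁻¹ * n * ⟨g, hg⟩, by simpa using hN.conj_mem n hn ⟨g, hg⟩⁻¹, rfl⟩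
    simp only [Subgroup.coe_mul, Subgroup.coe_inv, Equiv.Perm.mul_apply, Equiv.Perm.inv_eq_iff_eq] at h1
    simpa using h1
  have hPO : ∃ i, vP i ∈ O := by
    obtain ⟨x, hx, hx0⟩ := hOne
    rcases vertex_cases x with ⟨j, rfl⟩ | ⟨i, rfl⟩ | rfl
    swap
    · exact ⟨i, hx⟩
    swap
    · exact absurd rfl hx0
    obtain ⟨n, hn, hnj⟩ := hx
    have hall : ∀ j', vB j' ∈ O := fun j' => by
      obtain ⟨k, hk⟩ := blocks_trans j j'
      exact hk ▸ hOk k _ ⟨n, hn, hnj⟩
    obtain ⟨j', hj'⟩ := block_has_block j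
    obtain ⟨n', hn', hnj'⟩ := hall j'
    have h1 : pbR v0.val ((n : Equiv.Perm (Fin 100))⁻¹ (vB j')).val = true := by
      rw [← (mem_EvenHS.1 n.2).1, perm_apply_inv, hnj]; exact hj'
    obtain ⟨i, hi⟩ := (pbR_v0 _).1 h1
    refine ⟨i, ⟨n⁻¹ * n', mul_mem (inv_mem hn) hn', ?_⟩⟩
    rw [← hi, Subgroup.coe_mul, Subgroup.coe_inv, Equiv.Perm.mul_apply, hnj']
  obtain ⟨i0, hi0⟩ := hPO
  have hall : ∀ x, x ∈ O := by
    refine eq_univ_of_closed ⟨1, one_mem _, rfl⟩ ?_
    rintro _ ⟨n, hn, rfl⟩ y hy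
    have h1 : pbR v0.val ((n : Equiv.Perm (Fin 100))⁻¹ y).val = true := by
      rw [← (mem_EvenHS.1 n.2).1, perm_apply_inv]; exact hy
    obtain ⟨i, hi⟩ := (pbR_v0 _).1 h1
    obtain ⟨k, hk⟩ := points_trans i0 i
    obtain ⟨n', hn', hni⟩ := hk ▸ hOk k _ hi0
    refine ⟨n * n', mul_mem hn hn', ?_⟩
    rw [Subgroup.coe_mul, Equiv.Perm.mul_apply, hni, ← hi, perm_apply_inv]
  haveI := natCard_K22.2
  haveI : (N.comap ι).Normal := hN.comap ι
  rcases ‹(N.comap ι).Normal›.eq_bot_or_eq_top with hreg | htop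
  · exfalso
    let ψ : N → Fin 100 := fun n => ((n : EvenHS) : Equiv.Perm (Fin 100)) v0
    have hψ : Function.Bijective ψ := by
      refine ⟨fun a b h => ?_, fun x => ?_⟩
      · have h1 : (((a⁻¹ * b : N) : EvenHS) : Equiv.Perm (Fin 100)) v0 = v0 := by
          show ((a : EvenHS) : Equiv.Perm (Fin 100))⁻¹ (((b : EvenHS) : Equiv.Perm (Fin 100)) v0) = v0
          rw [Equiv.Perm.inv_eq_iff_eq]
          exact h.symm
        obtain ⟨k, hk⟩ := hιrange _ h1
        have h2 : k ∈ N.comap ι := by rw [Subgroup.mem_comap, hk]; exact (a⁻¹ * b).2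
        rw [hreg, Subgroup.mem_bot] at h2
        rw [h2, map_one] at hk
        exact inv_mul_eq_one.1 (Subtype.ext hk.symm)
      · obtain ⟨n, hn, hnx⟩ := hall x
        exact ⟨⟨n, hn⟩, hnx⟩
    have hNcard : Nat.card N = 100 := by
      rw [Nat.card_congr (Equiv.ofBijective ψ hψ), Nat.card_eq_fintype_card, Fintype.card_fin]
    haveI : Fact (Nat.Prime 5) := ⟨by norm_num⟩
    obtain ⟨P⟩ : Nonempty (Sylow 5 N) := inferInstance
    have hP25 : Nat.card P = 25 := by
      rw [P.card_eq_multiplicity, hNcard, show (100 : ℕ) = 5 ^ 2 * 4 by norm_num,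
        Nat.factorization_mul (by norm_num) (by norm_num), Nat.Prime.factorization_pow (by norm_num)]
      simp [Nat.factorization_eq_zero_of_not_dvd (show ¬ 5 ∣ 4 by norm_num)]
    have huniq : Subsingleton (Sylow 5 N) := by
      have h1 := card_sylow_modEq_one 5 N
      have h2 := P.card_dvd_index
      have h3 := Subgroup.card_mul_index (P : Subgroup N)
      rw [hP25, hNcard] at h3
      have h4 : (P : Subgroup N).index = 4 := by omega
      rw [h4] at h2
      have h5 := Nat.le_of_dvd (by norm_num) h2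
      rw [Nat.ModEq] at h1
      exact Finite.card_le_one_iff_subsingleton.1 (by omega)
    set T : Finset (Fin 100) := Finset.univ.filter fun x => ∃ q ∈ (P : Subgroup N), ψ q = x with hT
    have hTcard : T.card = 25 := by
      rw [← hP25, ← Nat.card_eq_finsetCard T]
      refine (Nat.card_congr (Equiv.ofBijective
        (fun q : P => (⟨ψ q.1, by simp only [hT, Finset.mem_filter, Finset.mem_univ, true_and]; exact ⟨_, q.2, rfl⟩⟩ : T))
        ⟨fun a b h => Subtype.ext (hψ.1 (congrArg Subtype.val h)), fun ⟨x, hx⟩ => ?_⟩)).symm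
      simp only [hT, Finset.mem_filter, Finset.mem_univ, true_and] at hx
      obtain ⟨q, hq, rfl⟩ := hx
      exact ⟨⟨q, hq⟩, rfl⟩
    have hTk : ∀ (k : K22) (x : Fin 100), x ∈ T → θ k.1 x ∈ T := by
      intro k x hx
      simp only [hT, Finset.mem_filter, Finset.mem_univ, true_and] at hx ⊢
      obtain ⟨q, hq, rfl⟩ := hx
      let φ : MulAut N := MulAut.conjNormal (ι k)
      refine ⟨φ q, ?_, ?_⟩
      · have e : φ • P = P := Subsingleton.elim _ _
        rw [← e]
        exact Subgroup.mem_map_of_mem _ hq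
      · show ((ι k * (q : EvenHS) * (ι k)⁻¹ : EvenHS) : Equiv.Perm (Fin 100)) v0 = θ k.1 (ψ q)
        rw [Subgroup.coe_mul, Subgroup.coe_mul, Equiv.Perm.mul_apply, Equiv.Perm.mul_apply, Subgroup.coe_inv,
          show ((ι k : Equiv.Perm (Fin 100))⁻¹) v0 = v0 by rw [Equiv.Perm.inv_eq_iff_eq, hv], hι]
    have hv0 : v0 ∈ T := by
      simp only [hT, Finset.mem_filter, Finset.mem_univ, true_and]
      exact ⟨1, one_mem _, rfl⟩
    by_cases hbk : ∃ j, vB j ∈ T
    · obtain ⟨j, hj⟩ := hbk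
      have hsub : Finset.univ.image vB ⊆ T := by
        intro x hx
        obtain ⟨j', -, rfl⟩ := Finset.mem_image.1 hx
        obtain ⟨k, hk⟩ := blocks_trans j j'
        exact hk ▸ hTk k _ hj
      have := Finset.card_le_card hsub
      rw [Finset.card_image_of_injective _ vB_injective, Finset.card_fin, hTcard] at this
      omega
    · have hsub : T ⊆ insert v0 (Finset.univ.image vP) := by
        intro x hx
        rcases vertex_cases x with ⟨j, rfl⟩ | ⟨i, rfl⟩ | rfl
        · exact absurd ⟨j, hx⟩ hbk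
        · exact Finset.mem_insert_of_mem (Finset.mem_image_of_mem _ (Finset.mem_univ _))
        · exact Finset.mem_insert_self _ _
      have := (Finset.card_le_card hsub).trans (Finset.card_insert_le _ _)
      rw [Finset.card_image_of_injective _ vP_injective, Finset.card_fin, hTcard] at this
      omega
  · rw [eq_top_iff]
    intro g _
    obtain ⟨n, hn, hng⟩ := hall ((g : Equiv.Perm (Fin 100)) v0)
    have h1 : ((n⁻¹ * g : EvenHS) : Equiv.Perm (Fin 100)) v0 = v0 := by
      rw [Subgroup.coe_mul, Subgroup.coe_inv, Equiv.Perm.mul_apply, Equiv.Perm.inv_eq_iff_eq, hng]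
    obtain ⟨k, hk⟩ := hιrange _ h1
    have h2 : n⁻¹ * g ∈ N := hk ▸ (htop ▸ Subgroup.mem_top k : k ∈ N.comap ι)
    simpa using mul_mem hn h2

/-! ### Transfer to any design on 22 points -/

section

variable {α : Type*} [Fintype α] [DecidableEq α]

theorem exists_autEquiv (hα : Fintype.card α = 22) {B : Set (Finset α)} (hB : IsSteinerSystem 3 6 B) :
    Nonempty ((pointBlockGraph B ≃g pointBlockGraph B) ≃* AutHS) := by
  obtain ⟨f, hf⟩ := exists_model_equiv hα hB
  have hmem : ∀ g : pointBlockGraph B ≃g pointBlockGraph B, f.symm.permCongr g.toEquiv ∈ AutHS := by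
    intro g i j
    rw [Bool.eq_iff_iff, ← hf, ← hf]
    simp only [Equiv.permCongr_apply, Equiv.symm_symm, Equiv.apply_symm_apply]
    exact g.map_adj_iff
  refine ⟨{ toFun := fun g => ⟨_, hmem g⟩,
            invFun := fun s => ⟨f.permCongr s.1, fun {a b} => ?_⟩,
            left_inv := fun g => ?_, right_inv := fun s => ?_, map_mul' := fun g h => ?_ }⟩
  · obtain ⟨i, rfl⟩ := f.surjective a
    obtain ⟨j, rfl⟩ := f.surjective b
    simp only [Equiv.permCongr_apply, Equiv.symm_apply_apply]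
    rw [hf, hf, s.2]
  · ext a; simp [Equiv.permCongr_apply]
  · ext i; simp [Equiv.permCongr_apply]
  · apply Subtype.ext
    ext i
    simp [Equiv.permCongr_apply]

theorem natCard_graphAut (hα : Fintype.card α = 22) {B : Set (Finset α)} (hB : IsSteinerSystem 3 6 B) :
    Nat.card (pointBlockGraph B ≃g pointBlockGraph B) = 88704000 := by
  obtain ⟨e⟩ := exists_autEquiv hα hB
  rw [Nat.card_congr e.toEquiv, natCard_AutHS]

theorem exists_HS (hα : Fintype.card α = 22) {B : Set (Finset α)} (hB : IsSteinerSystem 3 6 B) :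
    ∃ H : Subgroup (pointBlockGraph B ≃g pointBlockGraph B), IsHS H := by
  obtain ⟨e⟩ := exists_autEquiv hα hB
  have e2 : ((EvenHS.subgroupOf AutHS).map e.symm.toMonoidHom) ≃* EvenHS :=
    ((EvenHS.subgroupOf AutHS).equivMapOfInjective _ e.symm.injective).symm.trans
      (Subgroup.subgroupOfEquivOfLe inf_le_left)
  refine ⟨(EvenHS.subgroupOf AutHS).map e.symm.toMonoidHom, ?_, ?_⟩
  · haveI := simple_EvenHS
    exact e2.isSimpleGroup
  · rw [Nat.card_congr e2.toEquiv, natCard_EvenHS]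

end

end CfsgLib.Steiner
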