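import Cfsg.Agent.Lib.Steiner.Aut
import Cfsg.Agent.Lib.Steiner.HyperovalData

/-!
Four-arcs and hyperovals of the projective plane of order 4, and the action of the automorphisms
fixing a hyperoval on its points.
-/

set_option autoImplicit false

namespace CfsgLib.Steiner

open Cfsg

/-- arcs of size at most `k`, built point by point -/
def growA (k : ℕ) : ℕ → List ℕ
  | 0 => [0]
  | i + 1 =>
    let ls := std21.filter fun l => l.testBit i
    (growA k i).flatMap fun m =>
      bif decide (fpop m < k) && ls.all (fun l => let x := l &&& m; x &&& (x - 1) == 0) then [m, m + 2 ^ i] else [m]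

/-- the arcs of size `k` -/
def arcs (k : ℕ) : List ℕ := (growA k 21).filter fun m => fpop m == k

theorem mem_arcs {k m : ℕ} (hm : m < 2 ^ 21) (hk : pop 21 m = k)
    (h : ∀ l ∈ std21, pop 21 (l &&& m) ≤ 2) : m ∈ arcs k := by
  refine List.mem_filter.2 ⟨?_, by rw [fpop_eq (by norm_num) hm, hk, beq_self_eq_true]⟩
  have key : ∀ i ≤ 21, m % 2 ^ i ∈ growA k i := by
    intro i
    induction i with
    | zero => intro _; simp [growA, Nat.mod_one]
    | succ i ih =>
      intro hi
      have hlt : m % 2 ^ i < 2 ^ i := Nat.mod_lt _ (Nat.two_pow_pos _)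
      rw [growA]
      refine List.mem_flatMap.2 ⟨_, ih (by omega), ?_⟩
      rw [mod_two_pow_succ]
      by_cases hb : m.testBit i = true
      · rw [if_pos hb]
        have hc : (decide (fpop (m % 2 ^ i) < k) && (std21.filter fun l => l.testBit i).all
            (fun l => let x := l &&& (m % 2 ^ i); x &&& (x - 1) == 0)) = true := by
          have h1 : ∀ x, pop i x + (bif x.testBit i then 1 else 0) ≤ pop 21 x := fun x =>
            (le_of_eq (by rw [pop])).trans (pop_mono_le x hi)
          simp only [Bool.and_eq_true, decide_eq_true_eq, List.all_eq_true, List.mem_filter, beq_iff_eq]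
          refine ⟨?_, fun l ⟨hl, hli⟩ => ?_⟩
          · have := h1 m
            rw [hb, hk, cond_true] at this
            rw [fpop_eq (by omega) hlt, pop_mod _ _ _ le_rfl]
            omega
          · have := h1 (l &&& m)
            rw [Nat.testBit_and, hli, hb, Bool.and_self, cond_true] at this
            have h2 := h l hl
            refine and_sub_one_eq_zero (n := i) (lt_of_le_of_lt Nat.and_le_right hlt) ?_
            rw [← pop_mod i i (l &&& (m % 2 ^ i)) le_rfl, Nat.and_mod_two_pow, Nat.mod_mod,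
              ← Nat.and_mod_two_pow, pop_mod _ _ _ le_rfl]
            omega
        rw [hc, cond_true]
        simp
      · rw [if_neg hb]
        cases (decide (fpop (m % 2 ^ i) < k) && (std21.filter fun l => l.testBit i).all
            fun l => let x := l &&& (m % 2 ^ i); x &&& (x - 1) == 0) <;> simp
  have := key 21 le_rfl
  rwa [Nat.mod_eq_of_lt hm] at this

theorem arcs4_length : (arcs 4).length = 2520 := by decide +kernel

theorem arcs6_mem : (arcs 6).all (fun m => hovals.contains m) = true := by decide +kernel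

theorem hovals_ok : (hovals.all fun m => decide (m < 2 ^ 21) && fpop m == 6 &&
      std21.all fun l => decide (fpop (l &&& m) ≤ 2)) = true ∧
    listOK 21 hovals = true ∧ hovals.length = 168 := by decide +kernel

theorem hovals_meet : (hovals.all fun g => hovals.all fun h => g == h || decide (fpop (g &&& h) ≤ 3)) = true := by
  decide +kernel

attribute [local irreducible] arcs hovals

/-- membership in the model of arcs of size `k` -/
def IsArc (k : ℕ) (s : Finset (Fin 21)) : Prop := s.card = k ∧ ∀ l ∈ sysL 21 std21, (l ∩ s).card ≤ 2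

theorem isArc_dN {k m : ℕ} : IsArc k (dN 21 m) ↔ pop 21 m = k ∧ ∀ l ∈ std21, pop 21 (l &&& m) ≤ 2 := by
  rw [IsArc, card_dN]
  refine and_congr Iff.rfl ⟨fun h l hl => ?_, fun h b hb => ?_⟩
  · rw [← card_dN, dN_and]; exact h _ (mem_sysL.2 ⟨l, hl, rfl⟩)
  · obtain ⟨l, hl, rfl⟩ := mem_sysL.1 hb
    rw [← dN_and, card_dN]; exact h l hl

theorem hovals_arc {m : ℕ} (hm : m ∈ hovals) : IsArc 6 (dN 21 m) := by
  have h := List.all_eq_true.1 hovals_ok.1 m hm
  simp only [Bool.and_eq_true, decide_eq_true_eq, List.all_eq_true, beq_iff_eq] at h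
  rw [isArc_dN, ← fpop_eq (by norm_num) h.1.1]
  refine ⟨h.1.2, fun l hl => ?_⟩
  rw [← fpop_eq (by norm_num) (lt_of_le_of_lt Nat.and_le_right h.1.1)]
  exact h.2 l hl

theorem isArc6_iff {s : Finset (Fin 21)} : IsArc 6 s ↔ s ∈ sysL 21 hovals := by
  have h1 := arcs6_mem
  simp only [List.all_eq_true, List.contains_iff_mem] at h1
  constructor
  · obtain ⟨m, hm, rfl⟩ := exists_mask s
    rw [isArc_dN, mem_sysL]
    exact fun h => ⟨m, h1 m (mem_arcs hm h.1 h.2), rfl⟩
  · rw [mem_sysL]
    rintro ⟨m, hm, rfl⟩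
    exact hovals_arc hm

theorem hovals_unique {g h : Finset (Fin 21)} (hg : g ∈ sysL 21 hovals) (hh : h ∈ sysL 21 hovals)
    (hc : 4 ≤ (g ∩ h).card) : g = h := by
  obtain ⟨a, ha, rfl⟩ := mem_sysL.1 hg
  obtain ⟨b, hb, rfl⟩ := mem_sysL.1 hh
  have hlt := (listOK_spec hovals_ok.2.1).1
  have := List.all_eq_true.1 (List.all_eq_true.1 hovals_meet a ha) b hb
  rw [← dN_and, card_dN, ← fpop_eq (by norm_num) (lt_of_le_of_lt Nat.and_le_left (hlt a ha))] at hc
  simp only [Bool.or_eq_true, beq_iff_eq, decide_eq_true_eq] at this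
  rcases this with rfl | h
  · rfl
  · omega

theorem four_arcs :
    ∃ A : Finset (Finset (Fin 21)), (∀ s, IsArc 4 s ↔ s ∈ A) ∧ A.card = 2520 ∧
      ∀ s ∈ A, ∃! h, h ∈ sysL 21 hovals ∧ s ⊆ h := by
  classical
  set A := (sysL 21 hovals).biUnion fun h => h.powersetCard 4 with hA
  have hmem : ∀ s, s ∈ A ↔ ∃ h ∈ sysL 21 hovals, s ⊆ h ∧ s.card = 4 := fun s => by
    simp [hA, Finset.mem_powersetCard]
  have hcard : A.card = 2520 := by
    rw [hA, Finset.card_biUnion]
    · have h15 : ∀ h ∈ sysL 21 hovals, (h.powersetCard 4).card = 15 := fun h hh => by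
        rw [Finset.card_powersetCard, (isArc6_iff.2 hh).1]; rfl
      rw [Finset.sum_congr rfl h15, Finset.sum_const, card_sysL hovals_ok.2.1, hovals_ok.2.2]
      rfl
    · intro g hg h hh hne
      rw [Function.onFun, Finset.disjoint_left]
      intro s hsg hsh
      rw [Finset.mem_powersetCard] at hsg hsh
      exact hne (hovals_unique hg hh (hsg.2 ▸ Finset.card_le_card (Finset.subset_inter hsg.1 hsh.1)))
  have hsub : A ⊆ sysL 21 (arcs 4) := fun s hs => by
    obtain ⟨h, hh, hsh, h4⟩ := (hmem s).1 hs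
    obtain ⟨m, hm, rfl⟩ := exists_mask s
    refine mem_sysL.2 ⟨m, mem_arcs hm (by rw [← card_dN, h4]) fun l hl => ?_, rfl⟩
    rw [← card_dN, dN_and]
    exact (Finset.card_le_card (Finset.inter_subset_inter_left hsh)).trans
      ((isArc6_iff.2 hh).2 _ (mem_sysL.2 ⟨l, hl, rfl⟩))
  have heq : A = sysL 21 (arcs 4) := Finset.eq_of_subset_of_card_le hsub (by
    rw [hcard, sysL]
    exact (List.toFinset_card_le _).trans (by rw [List.length_map, arcs4_length]))
  refine ⟨A, fun s => ⟨fun hs => ?_, fun hs => ?_⟩, hcard, fun s hs => ?_⟩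
  · obtain ⟨m, hm, rfl⟩ := exists_mask s
    rw [heq]
    rw [isArc_dN] at hs
    exact mem_sysL.2 ⟨m, mem_arcs hm hs.1 hs.2, rfl⟩
  · obtain ⟨h, hh, hsh, h4⟩ := (hmem s).1 hs
    exact ⟨h4, fun l hl => (Finset.card_le_card (Finset.inter_subset_inter_left hsh)).trans
      ((isArc6_iff.2 hh).2 l hl)⟩
  · obtain ⟨h, hh, hsh, h4⟩ := (hmem s).1 hs
    exact ⟨h, ⟨hh, hsh⟩, fun g hg => hovals_unique hg.1 hh
      (h4 ▸ Finset.card_le_card (Finset.subset_inter hg.2 hsh))⟩

section Transfer

variable {α : Type*} [Fintype α] [DecidableEq α]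

theorem arc_transfer {L : Set (Finset α)} {e : Fin 21 ≃ α}
    (he : pullback e L = (sysL 21 std21 : Set (Finset (Fin 21)))) (k : ℕ) (s : Finset (Fin 21)) :
    ((s.image e).card = k ∧ ∀ l ∈ L, (l ∩ s.image e).card ≤ 2) ↔ IsArc k s := by
  rw [IsArc, Finset.card_image_of_injective _ e.injective]
  refine and_congr Iff.rfl ⟨fun h b hb => ?_, fun h l hl => ?_⟩
  · rw [← Finset.mem_coe, ← he, mem_pullback] at hb
    have := h _ hb
    rwa [← Finset.image_inter _ _ e.injective, Finset.card_image_of_injective _ e.injective] at this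
  · rw [← image_symm_image e l, ← Finset.image_inter _ _ e.injective,
      Finset.card_image_of_injective _ e.injective]
    refine h _ ?_
    rw [← Finset.mem_coe, ← he, mem_pullback, image_symm_image]
    exact hl

theorem setOf_arc {L : Set (Finset α)} {e : Fin 21 ≃ α}
    (he : pullback e L = (sysL 21 std21 : Set (Finset (Fin 21)))) (k : ℕ) (M : Finset (Finset (Fin 21)))
    (hM : ∀ s, IsArc k s ↔ s ∈ M) :
    {S : Finset α | S.card = k ∧ ∀ l ∈ L, (l ∩ S).card ≤ 2}.ncard = M.card := by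
  have hset : {S : Finset α | S.card = k ∧ ∀ l ∈ L, (l ∩ S).card ≤ 2} =
      (fun s : Finset (Fin 21) => s.image e) '' (M : Set (Finset (Fin 21))) := by
    ext S
    simp only [Set.mem_image, Finset.mem_coe, Set.mem_setOf_eq]
    constructor
    · intro h
      refine ⟨S.image e.symm, (hM _).1 ((arc_transfer he k _).1 ?_), image_symm_image e S⟩
      rwa [image_symm_image]
    · rintro ⟨s, hs, rfl⟩
      exact (arc_transfer he k s).2 ((hM s).2 hs)
  rw [hset, Set.ncard_image_of_injective _ (Finset.image_injective e.injective), Set.ncard_coe_finset]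

theorem arcs_count (hα : Fintype.card α = 21) (L : Set (Finset α)) (hL : IsSteinerSystem 2 5 L) :
    {S : Finset α | (S.card = 4 ∧ ∀ l ∈ L, (l ∩ S).card ≤ 2)}.ncard = 2520 ∧
      {H : Finset α | (H.card = 6 ∧ ∀ l ∈ L, (l ∩ H).card ≤ 2)}.ncard = 168 ∧
      ∀ S : Finset α, (S.card = 4 ∧ ∀ l ∈ L, (l ∩ S).card ≤ 2) →
        ∃! H : Finset α, (H.card = 6 ∧ ∀ l ∈ L, (l ∩ H).card ≤ 2) ∧ S ⊆ H := by
  obtain ⟨e, he⟩ := lab21 hα hL
  obtain ⟨A, hA, hAc, huniqA⟩ := four_arcs
  refine ⟨(setOf_arc he 4 A hA).trans hAc, (setOf_arc he 6 _ (fun _ => isArc6_iff)).trans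
    ((card_sysL hovals_ok.2.1).trans hovals_ok.2.2), fun S hS => ?_⟩
  rw [← image_symm_image e S, arc_transfer he, hA] at hS
  obtain ⟨h, ⟨hh, hsub⟩, huniq⟩ := huniqA _ hS
  refine ⟨h.image e, ⟨(arc_transfer he 6 _).2 (isArc6_iff.2 hh), ?_⟩, ?_⟩
  · rw [← image_symm_image e S]; exact Finset.image_subset_image hsub
  · rintro H ⟨hH, hsH⟩
    rw [← image_symm_image e H, arc_transfer he, isArc6_iff] at hH
    rw [← huniq _ ⟨hH, Finset.image_subset_image hsH⟩, image_symm_image]

end Transfer

/-! ### Automorphisms fixing a hyperoval -/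

theorem hgens_ok : hgens.all (fun p => carriesOK 21 p.1 p.2 std21 std21) = true := by decide +kernel

theorem exists_gen {p : List ℕ × List ℕ} (hp : p ∈ hgens) :
    ∃ g ∈ setSystemAut (sysL 21 std21 : Set (Finset (Fin 21))), ∀ i : Fin 21, (g i).val = p.1.getD i.val 21 := by
  obtain ⟨σ, hσ, hpull⟩ := exists_carry (List.all_eq_true.1 hgens_ok p hp)
  exact ⟨σ, mem_aut_iff.2 fun s => Set.ext_iff.1 hpull s, hσ⟩

/-- the orbit tree is correct -/
def hstepsOK : Bool :=
  hsteps.length == hovals.length && (List.range hovals.length).all fun j => j == 0 ||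
    let st := hsteps.getD j (0, 0)
    decide (st.2 < j) && decide (st.1 < hgens.length) &&
      ((hgens.getD st.1 ([], [])).1.length == 21 &&
        mapM (hgens.getD st.1 ([], [])).1 21 (hovals.getD st.2 0) == hovals.getD j 0)

theorem hsteps_ok : hstepsOK = true := by decide +kernel

theorem hoval_reach : ∀ j < hovals.length, ∃ g ∈ setSystemAut (sysL 21 std21 : Set (Finset (Fin 21))),
    (dN 21 (hovals.getD 0 0)).image g = dN 21 (hovals.getD j 0) := by
  intro j
  induction j using Nat.strong_induction_on with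
  | _ j ih =>
    intro hj
    rcases Nat.eq_zero_or_pos j with rfl | hpos
    · exact ⟨1, one_mem _, by ext; simp⟩
    · have h := hsteps_ok
      simp only [hstepsOK, Bool.and_eq_true, List.all_eq_true, List.mem_range, Bool.or_eq_true,
        beq_iff_eq, decide_eq_true_eq] at h
      obtain ⟨⟨hpar, hgen⟩, hlen, hmap⟩ := (h.2 j hj).resolve_left (by omega)
      set st := hsteps.getD j (0, 0)
      obtain ⟨g, hg, hgi⟩ := ih st.2 hpar (by omega)
      have hp : hgens.getD st.1 ([], []) ∈ hgens := by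
        rw [List.getD_eq_getElem _ _ hgen]; exact List.getElem_mem _
      obtain ⟨a, ha, hai⟩ := exists_gen hp
      refine ⟨a * g, mul_mem ha hg, ?_⟩
      rw [Equiv.Perm.coe_mul, ← Finset.image_image, hgi, image_dN hai hlen, hmap]

/-- exchanging automorphisms for the first hyperoval -/
def hswapsOK : Bool :=
  let h0 := hovals.getD 0 0
  decide (hpairs.length ≤ hgens.length) &&
    ((List.range 21).all fun x => (List.range 21).all fun y =>
      !(h0.testBit x && h0.testBit y && decide (x < y)) || hpairs.contains (x, y)) &&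
    (List.range hpairs.length).all fun j =>
      let f := (hgens.getD j ([], [])).1
      let x := (hpairs.getD j (0, 0)).1
      let y := (hpairs.getD j (0, 0)).2
      (List.range 21).all fun i =>
        !h0.testBit i || f.getD i 21 == (if i == x then y else if i == y then x else i)

theorem hswaps_ok : hswapsOK = true := by decide +kernel

theorem exists_swap0 {x y : Fin 21} (hx : x ∈ dN 21 (hovals.getD 0 0)) (hy : y ∈ dN 21 (hovals.getD 0 0)) :
    ∃ g ∈ setSystemAut (sysL 21 std21 : Set (Finset (Fin 21))),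
      ∀ p ∈ dN 21 (hovals.getD 0 0), g p = Equiv.swap x y p := by
  wlog hxy : x.val ≤ y.val generalizing x y
  · rw [Equiv.swap_comm]; exact this hy hx (le_of_not_ge hxy)
  rcases Nat.eq_or_lt_of_le hxy with he | hlt
  · exact ⟨1, one_mem _, fun p _ => by rw [Fin.ext he, Equiv.swap_self]; rfl⟩
  · rw [mem_dN] at hx hy
    have h := hswaps_ok
    simp only [hswapsOK, Bool.and_eq_true, List.all_eq_true, List.mem_range, Bool.or_eq_true,
      Bool.not_eq_true', beq_iff_eq, decide_eq_true_eq, List.contains_iff_mem, Bool.and_eq_false_iff,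
      decide_eq_false_iff_not] at h
    obtain ⟨⟨hle, hall⟩, hsw⟩ := h
    have hmem := (hall x.val x.2 y.val y.2).resolve_left (by rw [hx, hy]; simp [hlt])
    obtain ⟨j, hj, hje⟩ := List.mem_iff_getElem.1 hmem
    obtain ⟨g, hg, hgi⟩ := exists_gen (p := hgens.getD j ([], []))
      (by rw [List.getD_eq_getElem _ _ (hj.trans_le hle)]; exact List.getElem_mem _)
    refine ⟨g, hg, fun p hp => Fin.ext ?_⟩
    rw [mem_dN] at hp
    rw [hgi, (hsw j hj p.val p.2).resolve_left (by rw [hp]; simp), List.getD_eq_getElem _ _ hj, hje,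
      Equiv.swap_apply_def]
    simp only [Fin.val_inj]
    split_ifs <;> rfl

theorem steiner21 : IsSteinerSystem 2 5 (sysL 21 std21 : Set (Finset (Fin 21))) :=
  derived_steiner (derived_of_ok (std' := std22) (by decide +kernel)) (derived_steiner derived22 steiner23)

/-- every point off a hyperoval is where two secants meet -/
theorem secants_ok : (hovals.all fun h =>
    let S := std21.filter fun l => fpop (l &&& h) == 2
    (List.range 21).all fun i => h.testBit i || S.any fun a => S.any fun b => a &&& b == 2 ^ i) = true := by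
  decide +kernel

theorem fix_hoval_trivial {h : ℕ} (hh : h ∈ hovals) {g : Equiv.Perm (Fin 21)}
    (hg : g ∈ setSystemAut (sysL 21 std21 : Set (Finset (Fin 21)))) (hfix : ∀ p ∈ dN 21 h, g p = p) :
    g = 1 := by
  have hlt : h < 2 ^ 21 := (listOK_spec hovals_ok.2.1).1 h hh
  have hline : ∀ l ∈ std21, fpop (l &&& h) = 2 → (dN 21 l).image g = dN 21 l := by
    intro l hl h2
    have hst := steiner21
    have hmem : (dN 21 l).image g ∈ (sysL 21 std21 : Set (Finset (Fin 21))) :=
      (mem_aut_iff.1 hg _).2 (mem_sysL.2 ⟨l, hl, rfl⟩)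
    obtain ⟨b, -, huniq⟩ := hst.2 (dN 21 (l &&& h)) (by
      rw [card_dN, ← fpop_eq (by norm_num) (lt_of_le_of_lt Nat.and_le_right hlt), h2])
    rw [huniq _ ⟨hmem, ?_⟩, ← huniq (dN 21 l) ⟨mem_sysL.2 ⟨l, hl, rfl⟩, ?_⟩]
    · intro i hi
      rw [dN_and, Finset.mem_inter] at hi
      exact hi.1
    · intro i hi
      rw [dN_and, Finset.mem_inter] at hi
      exact Finset.mem_image.2 ⟨i, hi.1, hfix i hi.2⟩
  ext i
  by_cases hi : i ∈ dN 21 h
  · rw [hfix i hi]; rfl
  · have hc := List.all_eq_true.1 secants_ok h hh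
    simp only [List.all_eq_true, List.mem_range, Bool.or_eq_true, List.any_eq_true, List.mem_filter,
      beq_iff_eq] at hc
    obtain ⟨a, ⟨ha, ha2⟩, b, ⟨hb, hb2⟩, hab⟩ := (hc i.val i.2).resolve_left (by simpa [mem_dN] using hi)
    have hiab : i ∈ dN 21 a ∩ dN 21 b := by
      rw [← dN_and, hab, mem_dN, Nat.testBit_two_pow]; simp
    rw [Finset.mem_inter] at hiab
    have h1 : g i ∈ dN 21 (a &&& b) := by
      rw [dN_and, Finset.mem_inter]
      exact ⟨(hline a ha ha2) ▸ Finset.mem_image_of_mem g hiab.1,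
        (hline b hb hb2) ▸ Finset.mem_image_of_mem g hiab.2⟩
    rw [hab, mem_dN, Nat.testBit_two_pow, decide_eq_true_eq] at h1
    simp [← h1]

theorem exists_swap {h : ℕ} (hh : h ∈ hovals) {x y : Fin 21} (hx : x ∈ dN 21 h) (hy : y ∈ dN 21 h) :
    ∃ g ∈ setSystemAut (sysL 21 std21 : Set (Finset (Fin 21))),
      ∀ p ∈ dN 21 h, g p = Equiv.swap x y p := by
  obtain ⟨j, hj, rfl⟩ := List.mem_iff_getElem.1 hh
  obtain ⟨t, ht, htj⟩ := hoval_reach j hj
  rw [List.getD_eq_getElem _ _ hj] at htj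
  rw [← htj] at hx hy
  obtain ⟨x', hx', rfl⟩ := Finset.mem_image.1 hx
  obtain ⟨y', hy', rfl⟩ := Finset.mem_image.1 hy
  obtain ⟨g, hg, hgp⟩ := exists_swap0 hx' hy'
  refine ⟨t * g * t⁻¹, mul_mem (mul_mem ht hg) (inv_mem ht), fun p hp => ?_⟩
  rw [← htj] at hp
  obtain ⟨p', hp', rfl⟩ := Finset.mem_image.1 hp
  rw [Equiv.Perm.mul_apply, Equiv.Perm.mul_apply, Equiv.Perm.coe_inv, Equiv.symm_apply_apply, hgp p' hp']
  exact t.injective.map_swap x' y' p'

theorem exists_extend {h : ℕ} (hh : h ∈ hovals) (σ : Equiv.Perm {p // p ∈ dN 21 h}) :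
    ∃ g ∈ setSystemAut (sysL 21 std21 : Set (Finset (Fin 21))), ∀ p : {p // p ∈ dN 21 h}, g p = σ p := by
  induction σ using Equiv.Perm.swap_induction_on with
  | one => exact ⟨1, one_mem _, fun p => rfl⟩
  | swap_mul f x y _ ih =>
    obtain ⟨g, hg, hgp⟩ := ih
    obtain ⟨w, hw, hwp⟩ := exists_swap hh x.2 y.2
    refine ⟨w * g, mul_mem hw hg, fun p => ?_⟩
    rw [Equiv.Perm.mul_apply, hgp, hwp _ (f p).2, Equiv.Perm.mul_apply]
    exact (Subtype.val_injective.map_swap x y (f p)).symm

theorem hoval_sym {α : Type*} [Fintype α] [DecidableEq α] (hα : Fintype.card α = 21) (L : Set (Finset α))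
    (hL : IsSteinerSystem 2 5 L) (H : Finset α) (hH : H.card = 6 ∧ ∀ l ∈ L, (l ∩ H).card ≤ 2)
    (σ : Equiv.Perm ↥H) : ∃! g : Equiv.Perm α, g ∈ setSystemAut L ∧ ∀ p : ↥H, g p = σ p := by
  obtain ⟨e, he⟩ := lab21 hα hL
  rw [← image_symm_image e H, arc_transfer he, isArc6_iff, mem_sysL] at hH
  obtain ⟨h, hh, hhe⟩ := hH
  have hHe : ∀ i, i ∈ dN 21 h ↔ e i ∈ H := fun i => by
    rw [hhe]
    exact ⟨fun hi => by
      obtain ⟨a, ha, rfl⟩ := Finset.mem_image.1 hi
      rwa [e.apply_symm_apply], fun hi => Finset.mem_image.2 ⟨_, hi, e.symm_apply_apply i⟩⟩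
  have haut : ∀ g, g ∈ setSystemAut (sysL 21 std21 : Set (Finset (Fin 21))) ↔ e.permCongr g ∈ setSystemAut L :=
    fun g => by rw [← he]; exact mem_aut_pullback e L g
  let ε : {i // i ∈ dN 21 h} ≃ ↥H := e.subtypeEquiv hHe
  obtain ⟨g, hg, hgp⟩ := exists_extend hh (ε.symm.permCongr σ)
  refine ⟨e.permCongr g, ⟨(haut g).1 hg, fun p => ?_⟩, fun g' hg' => ?_⟩
  · obtain ⟨i, rfl⟩ := ε.surjective p
    rw [Equiv.permCongr_apply, show (ε i : α) = e i.1 from rfl, e.symm_apply_apply, hgp i]
    show e ((ε.symm (σ (ε i))).1) = _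
    exact congrArg Subtype.val (ε.apply_symm_apply (σ (ε i)))
  · have hgp' : ∀ i : {i // i ∈ dN 21 h}, g (i : Fin 21) = e.symm.permCongr g' i := fun i => by
      rw [hgp, Equiv.permCongr_apply, Equiv.symm_symm]
      show _ = e.symm (g' (ε i : α))
      rw [hg'.2]
      rfl
    have hfix := fix_hoval_trivial hh (mul_mem (inv_mem hg) ((haut (e.symm.permCongr g')).2 (by
      convert hg'.1 using 1
      ext a; simp [Equiv.permCongr_apply]))) (fun p hp => by
        rw [Equiv.Perm.mul_apply, Equiv.Perm.inv_eq_iff_eq, hgp' ⟨p, hp⟩])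
    rw [inv_mul_eq_one.1 hfix]
    ext a
    simp [Equiv.permCongr_apply]

end CfsgLib.Steiner
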