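import Cfsg.Agent.Lib.Classical.Card
import Cfsg.Agent.Lib.Classical.Transvection
import Cfsg.Agent.Lib.Steiner.Hyperoval
import Cfsg.Agent.Lib.Steiner.HS

/-!
The stabilizer of three points in the group of the code is the projective special linear group of
the plane over the field of order 4.
-/

set_option autoImplicit false

namespace CfsgLib.Steiner

open Cfsg
open scoped Pointwise

/-! ### The automorphism group of the model plane -/

theorem hoval0_mem : hovals.getD 0 0 ∈ hovals := by
  have h : 0 < hovals.length := by rw [hovals_ok.2.2]; norm_num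
  rw [List.getD_eq_getElem _ _ h]
  exact List.getElem_mem _

theorem natCard_aut21_le : Nat.card (setSystemAut (sysL 21 std21 : Set (Finset (Fin 21)))) ≤ 120960 := by
  classical
  set H0 := dN 21 (hovals.getD 0 0)
  have h6 : ∀ h ∈ sysL 21 hovals, h.card = 6 := fun h hh => (isArc6_iff.2 hh).1
  have h0 : H0 ∈ sysL 21 hovals := mem_sysL.2 ⟨_, hoval0_mem, rfl⟩
  have hmem : ∀ g : setSystemAut (sysL 21 std21 : Set (Finset (Fin 21))),
      H0.image (g : Equiv.Perm (Fin 21)) ∈ sysL 21 hovals := by
    intro g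
    rw [← isArc6_iff]
    obtain ⟨hc, hl⟩ := isArc6_iff.2 h0
    refine ⟨by rw [Finset.card_image_of_injective _ (g : Equiv.Perm (Fin 21)).injective, hc], fun l hl' => ?_⟩
    have h1 : (l.image (g : Equiv.Perm (Fin 21)).symm) ∈ (sysL 21 std21 : Set (Finset (Fin 21))) := by
      rw [← mem_aut_iff.1 g.2, image_symm_image]; exact hl'
    have h2 := hl _ h1
    rw [← Finset.card_image_of_injective _ (g : Equiv.Perm (Fin 21)).injective, Finset.image_inter _ _ (g : Equiv.Perm (Fin 21)).injective,
      image_symm_image] at h2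
    exact h2
  let en : ∀ h : sysL 21 hovals, Fin 6 ≃ (h.1 : Finset (Fin 21)) := fun h => (Finset.equivFinOfCardEq (h6 h.1 h.2)).symm
  let F : setSystemAut (sysL 21 std21 : Set (Finset (Fin 21))) → (sysL 21 hovals : Finset _) × Equiv.Perm (Fin 6) :=
    fun g => (⟨_, hmem g⟩, ((en ⟨H0, h0⟩).trans
      ((g : Equiv.Perm (Fin 21)).subtypeEquiv fun p =>
        ((g : Equiv.Perm (Fin 21)).injective.mem_finset_image).symm)).trans (en ⟨_, hmem g⟩).symm)
  have hF : Function.Injective F := by
    intro g g' h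
    simp only [F, Prod.mk.injEq, Subtype.mk.injEq] at h
    obtain ⟨hi, hp⟩ := h
    have hen : ∀ (a b : sysL 21 hovals), a = b → ∀ x : Fin 6, ((en a x : _) : Fin 21) = (en b x : Fin 21) := by
      rintro a b rfl x; rfl
    have hfix : ∀ p ∈ H0, (g : Equiv.Perm (Fin 21)) p = (g' : Equiv.Perm (Fin 21)) p := by
      intro p hp0
      obtain ⟨x, hx⟩ := (en ⟨H0, h0⟩).surjective ⟨p, hp0⟩
      have h1 := DFunLike.congr_fun hp x
      simp only [Equiv.trans_apply, hx] at h1
      have h2 := hen ⟨_, hmem g⟩ ⟨_, hmem g'⟩ (Subtype.ext hi)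
        ((en ⟨_, hmem g⟩).symm (((g : Equiv.Perm (Fin 21)).subtypeEquiv fun q =>
          ((g : Equiv.Perm (Fin 21)).injective.mem_finset_image).symm) ⟨p, hp0⟩))
      rw [Equiv.apply_symm_apply] at h2
      rw [h1, Equiv.apply_symm_apply] at h2
      exact h2
    have h3 := fix_hoval_trivial hoval0_mem (mul_mem (inv_mem g'.2) g.2) fun p hp0 => by
      rw [Equiv.Perm.mul_apply, hfix p hp0, Equiv.Perm.inv_eq_iff_eq]
    exact Subtype.ext (inv_mul_eq_one.1 h3).symm
  refine (Nat.card_le_card_of_injective F hF).trans (le_of_eq ?_)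
  rw [Nat.card_prod, Nat.card_eq_finsetCard, card_sysL hovals_ok.2.1, hovals_ok.2.2, Nat.card_perm,
    Nat.card_eq_fintype_card, Fintype.card_fin]
  rfl

/-! ### The stabilizer of three points inside it -/

/-- the automorphisms of the plane extending three times into the group of the code -/
def J21 : Subgroup (Equiv.Perm (Fin 21)) :=
  (K22.map (Subgroup.subtype _)).comap (extHom 21)

theorem J21_le : J21 ≤ setSystemAut (sysL 21 std21 : Set (Finset (Fin 21))) := by
  rintro τ ⟨σ, -, hσ⟩
  exact aut_of_extHom (derived_of_ok (std' := std22) (by decide +kernel)) (hσ ▸ σ.2)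

/-- the stabilizer of a point in the simple group on 22 points -/
def S21 : Subgroup K22 where
  carrier := {k | (k.1.1 : Equiv.Perm (Fin 22)) (Fin.last 21) = Fin.last 21}
  one_mem' := rfl
  mul_mem' {a b} ha hb := by
    show (a.1.1 * b.1.1 : Equiv.Perm (Fin 22)) (Fin.last 21) = Fin.last 21
    rw [Equiv.Perm.mul_apply, hb, ha]
  inv_mem' {a} ha := by
    show (a.1.1⁻¹ : Equiv.Perm (Fin 22)) (Fin.last 21) = Fin.last 21
    rw [Equiv.Perm.inv_eq_iff_eq, ha]

theorem mem_S21 {k : K22} : k ∈ S21 ↔ (k.1.1 : Equiv.Perm (Fin 22)) (Fin.last 21) = Fin.last 21 := Iff.rfl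

theorem natCard_S21 : Nat.card S21 = 20160 := by
  letI : MulAction K22 (Fin 22) := MulAction.compHom _ ((Subgroup.subtype _).comp K22.subtype)
  have hsm : ∀ (k : K22) (i : Fin 22), k • i = (k.1.1 : Equiv.Perm (Fin 22)) i := fun _ _ => rfl
  have hpre : MulAction.IsPretransitive K22 (Fin 22) := ⟨fun a b => by
    obtain ⟨k, hk⟩ := points_trans a b
    refine ⟨k, vP_injective ?_⟩
    rw [hsm, ← (θ_spec k.1).2.2, hk]⟩
  have h1 := Subgroup.card_mul_index (MulAction.stabilizer K22 (Fin.last 21))
  rw [MulAction.index_stabilizer_of_transitive, natCard_K22.1, Nat.card_eq_fintype_card (α := Fin 22),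
    Fintype.card_fin] at h1
  have e : MulAction.stabilizer K22 (Fin.last 21) = S21 := rfl
  rw [e] at h1
  omega

theorem natCard_J21 : Nat.card J21 = 20160 := by
  rw [← natCard_S21]
  refine Nat.card_congr (Equiv.ofBijective (fun τ : J21 => (⟨⟨⟨extHom 21 τ.1, ?_⟩, ?_⟩, ?_⟩ : S21)) ⟨?_, ?_⟩)
  · obtain ⟨σ, -, hσ⟩ := τ.2; exact hσ ▸ σ.2
  · obtain ⟨σ, hσK, hσ⟩ := τ.2
    have hs : (⟨extHom 21 τ.1, hσ ▸ σ.2⟩ : setSystemAut (sysL 22 std22 : Set (Finset (Fin 22)))) = σ :=
      Subtype.ext hσ.symm
    rw [← hs] at hσK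
    exact hσK
  · exact extHom_last _
  · intro a b h
    exact Subtype.ext (extHom_injective (congrArg (fun z : S21 => (z.1.1.1 : Equiv.Perm (Fin 22))) h))
  · rintro ⟨k, hk⟩
    obtain ⟨τ, hτ⟩ := exists_extHom (mem_S21.1 hk)
    refine ⟨⟨τ, ⟨k.1, k.2, hτ.symm⟩⟩, ?_⟩
    exact Subtype.ext (Subtype.ext (Subtype.ext hτ))

theorem subgroup_eq_of_simple {G : Type*} [Group G] [Finite G] {A B : Subgroup G} (hA : IsSimpleGroup A)
    (hcard : Nat.card A = Nat.card B) (hidx : B.index ≤ 6) (hbig : 720 < Nat.card A) : A = B := by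
  refine Subgroup.eq_of_le_of_card_ge (fun a ha => ?_) hcard.symm.le
  haveI := Fintype.ofFinite (G ⧸ B)
  let π : A →* Equiv.Perm (G ⧸ B) := (MulAction.toPermHom G (G ⧸ B)).comp A.subtype
  rcases (MonoidHom.normal_ker π).eq_bot_or_eq_top with h | h
  · exfalso
    have h1 := Nat.card_le_card_of_injective π ((MonoidHom.ker_eq_bot_iff π).1 h)
    rw [Nat.card_perm] at h1
    have h2 : (Nat.card (G ⧸ B)).factorial ≤ Nat.factorial 6 := Nat.factorial_le hidx
    rw [show Nat.factorial 6 = 720 from rfl] at h2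
    omega
  · have h1 : π ⟨a, ha⟩ = 1 := MonoidHom.mem_ker.1 (h ▸ Subgroup.mem_top _)
    have h2 := DFunLike.congr_fun h1 ((1 : G) : G ⧸ B)
    simp only [π, MonoidHom.coe_comp, Subgroup.coe_subtype, Function.comp_apply, MulAction.toPermHom_apply,
      MulAction.toPerm_apply, Equiv.Perm.one_apply, MulAction.Quotient.smul_coe, smul_eq_mul, mul_one] at h2
    rw [QuotientGroup.eq, mul_one] at h2
    exact (inv_mem_iff).1 h2

/-! ### The projective plane over a field of order 4 -/

section Plane

variable (F : Type) [Field F] [Fintype F]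

open scoped LinearAlgebra.Projectivization

theorem natCard_PSL34 (hF : Fintype.card F = 4) :
    Nat.card (Matrix.ProjectiveSpecialLinearGroup (Fin 3) F) = 20160 := by
  classical
  have h := CfsgLib.Classical.sub_one_mul_card_SL (F := F) (n := 3) (by norm_num)
  rw [CfsgLib.Classical.card_SL_eq_gcd_mul_card_PSL, Nat.card_eq_fintype_card (α := F), hF,
    Fintype.card_fin, Fin.prod_univ_three, show Nat.gcd 3 (4 - 1) = 3 from rfl] at h
  norm_num [-Nat.card_eq_fintype_card] at h
  omega

/-- the point sets of the two-dimensional subspaces -/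
def planeLines [Fintype (ℙ F (Fin 3 → F))] : Set (Finset (ℙ F (Fin 3 → F))) :=
  {s | ∃ W : Submodule F (Fin 3 → F), Module.finrank F W = 2 ∧ ∀ p, p ∈ s ↔ p.submodule ≤ W}

theorem card_line (hF : Fintype.card F = 4) [Fintype (ℙ F (Fin 3 → F))] (W : Submodule F (Fin 3 → F))
    (hW : Module.finrank F W = 2) [DecidablePred fun p : ℙ F (Fin 3 → F) => p.submodule ≤ W] :
    (Finset.univ.filter fun p : ℙ F (Fin 3 → F) => p.submodule ≤ W).card = 5 := by
  have hc : Nat.card (ℙ F W) = 5 := by
    rw [Projectivization.card_of_finrank_two _ _ hW, Nat.card_eq_fintype_card, hF]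
  rw [← hc, ← Nat.card_eq_finsetCard]
  refine Nat.card_congr (Equiv.ofBijective (fun p : ℙ F W => (⟨p.map W.subtype W.injective_subtype, ?_⟩ :
    (Finset.univ.filter fun p : ℙ F (Fin 3 → F) => p.submodule ≤ W))) ⟨?_, ?_⟩).symm
  · rw [Finset.mem_filter]
    refine ⟨Finset.mem_univ _, ?_⟩
    induction p using Projectivization.ind with
    | h v hv =>
      rw [Projectivization.map_mk, Projectivization.submodule_mk, Submodule.span_singleton_le_iff_mem]
      exact v.2
  · intro a b h
    exact Projectivization.map_injective W.subtype W.injective_subtype (congrArg Subtype.val h)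
  · rintro ⟨p, hp⟩
    induction p using Projectivization.ind with
    | h v hv =>
      simp only [Finset.mem_filter, Finset.mem_univ, true_and, Projectivization.submodule_mk,
        Submodule.span_singleton_le_iff_mem] at hp
      exact ⟨Projectivization.mk F ⟨v, hp⟩ (fun h => hv (congrArg Subtype.val h)),
        Subtype.ext (Projectivization.map_mk W.subtype W.injective_subtype _ _)⟩

theorem planeLines_steiner (hF : Fintype.card F = 4) [Fintype (ℙ F (Fin 3 → F))] :
    IsSteinerSystem 2 5 (planeLines F) := by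
  classical
  refine ⟨?_, fun s hs => ?_⟩
  · rintro b ⟨W, hW, hb⟩
    rw [← card_line F hF W hW]
    congr 1
    ext p
    simp [hb]
  · obtain ⟨p, q, hpq, rfl⟩ := Finset.card_eq_two.1 hs
    set W := p.submodule ⊔ q.submodule with hWdef
    have hinf : p.submodule ⊓ q.submodule = ⊥ := by
      by_contra hne
      have h1 : 1 ≤ Module.finrank F ↥(p.submodule ⊓ q.submodule) :=
        Submodule.one_le_finrank_iff.2 hne
      have h2 := Submodule.eq_of_le_of_finrank_le (inf_le_left : p.submodule ⊓ q.submodule ≤ p.submodule)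
        (by rw [p.finrank_submodule]; exact h1)
      have h3 := Submodule.eq_of_le_of_finrank_le (inf_le_right : p.submodule ⊓ q.submodule ≤ q.submodule)
        (by rw [q.finrank_submodule]; exact h1)
      exact hpq (Projectivization.submodule_injective (h2.symm.trans h3))
    have hW : Module.finrank F W = 2 := by
      have h := Submodule.finrank_sup_add_finrank_inf_eq p.submodule q.submodule
      rw [hinf, finrank_bot, p.finrank_submodule, q.finrank_submodule, ← hWdef] at h
      omega
    refine ⟨Finset.univ.filter fun r => r.submodule ≤ W, ⟨⟨W, hW, fun r => by simp⟩, ?_⟩, ?_⟩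
    · rw [Finset.insert_subset_iff, Finset.singleton_subset_iff]
      simp only [Finset.mem_filter, Finset.mem_univ, true_and]
      exact ⟨le_sup_left, le_sup_right⟩
    · rintro b ⟨⟨W', hW', hb⟩, hsub⟩
      rw [Finset.insert_subset_iff, Finset.singleton_subset_iff, hb, hb] at hsub
      ext r
      have heq : W = W' := Submodule.eq_of_le_of_finrank_le (sup_le hsub.1 hsub.2) (by rw [hW, hW'])
      simp [hb, heq]

theorem planeLines_image [Fintype (ℙ F (Fin 3 → F))] [DecidableEq (ℙ F (Fin 3 → F))]
    (g : Matrix.SpecialLinearGroup (Fin 3) F) {s : Finset (ℙ F (Fin 3 → F))} (hs : s ∈ planeLines F) :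
    s.image (MulAction.toPerm g) ∈ planeLines F := by
  classical
  obtain ⟨W, hW, hsW⟩ := hs
  let e : (Fin 3 → F) ≃ₗ[F] (Fin 3 → F) := Matrix.SpecialLinearGroup.toLin' g
  refine ⟨W.map (e : (Fin 3 → F) →ₗ[F] (Fin 3 → F)), by rw [LinearEquiv.finrank_map_eq, hW], ?_⟩
  have hsub : ∀ p : ℙ F (Fin 3 → F), (g • p).submodule = p.submodule.map (e : (Fin 3 → F) →ₗ[F] (Fin 3 → F)) := by
    intro p
    induction p using Projectivization.ind with
    | h v hv =>
      rw [Projectivization.smul_mk, Projectivization.submodule_mk, Projectivization.submodule_mk,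
        Submodule.map_span, Set.image_singleton]
      rfl
  intro p
  obtain ⟨q, rfl⟩ := MulAction.surjective g p
  show MulAction.toPerm g q ∈ _ ↔ (g • q).submodule ≤ _
  rw [(MulAction.toPerm g).injective.mem_finset_image]
  simp only [MulAction.toPerm_apply, hsub, hsW]
  exact ⟨fun h => Submodule.map_mono h, fun h => (Submodule.map_le_map_iff_of_injective e.injective _ _).1 h⟩

theorem exists_embedding (hF : Fintype.card F = 4) :
    ∃ A : Subgroup (setSystemAut (sysL 21 std21 : Set (Finset (Fin 21)))),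
      Nonempty (A ≃* Matrix.ProjectiveSpecialLinearGroup (Fin 3) F) := by
  classical
  haveI := Fintype.ofFinite (ℙ F (Fin 3 → F))
  have hP : Fintype.card (ℙ F (Fin 3 → F)) = 21 := by
    rw [← Nat.card_eq_fintype_card, Projectivization.card_of_finrank F _ (n := 3) (by simp),
      Nat.card_eq_fintype_card, hF]
    rfl
  obtain ⟨e, he⟩ := lab21 hP (planeLines_steiner F hF)
  have hmem : ∀ x : Matrix.ProjectiveSpecialLinearGroup (Fin 3) F,
      (Projectivization.PSLAction.toPermHom x : Equiv.Perm (ℙ F (Fin 3 → F))) ∈ setSystemAut (planeLines F) := by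
    intro x
    obtain ⟨g, rfl⟩ := QuotientGroup.mk_surjective x
    rw [mem_aut_iff]
    intro s
    refine ⟨fun h => ?_, fun h => planeLines_image F g h⟩
    have h1 := planeLines_image F g⁻¹ h
    rw [Finset.image_image] at h1
    convert h1
    rw [show (⇑(MulAction.toPerm g⁻¹) ∘ ⇑(Projectivization.PSLAction.toPermHom
      (g : Matrix.ProjectiveSpecialLinearGroup (Fin 3) F))) = id from funext fun p => inv_smul_smul g p,
      Finset.image_id]
  let emb : Matrix.ProjectiveSpecialLinearGroup (Fin 3) F →* setSystemAut (sysL 21 std21 : Set (Finset (Fin 21))) :=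
    ((MulEquiv.subgroupCongr (by rw [he])).trans (autEquiv e (planeLines F))).symm.toMonoidHom.comp
      (Projectivization.PSLAction.toPermHom.codRestrict _ hmem)
  have hinj : Function.Injective emb := by
    intro a b h
    simp only [emb, MonoidHom.coe_comp, Function.comp_apply, MulEquiv.coe_toMonoidHom, EmbeddingLike.apply_eq_iff_eq] at h
    exact Matrix.ProjectiveSpecialLinearGroup.toPermHom_injective (congrArg Subtype.val h)
  exact ⟨emb.range, ⟨(MonoidHom.ofInjective hinj).symm⟩⟩

theorem nonempty_J21_PSL (hF : Fintype.card F = 4) :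
    Nonempty (J21 ≃* Matrix.ProjectiveSpecialLinearGroup (Fin 3) F) := by
  obtain ⟨A, ⟨eA⟩⟩ := exists_embedding F hF
  haveI : IsSimpleGroup (Matrix.ProjectiveSpecialLinearGroup (Fin 3) F) :=
    CfsgLib.Classical.isSimpleGroup_PSL (Or.inl (by simp))
  have hAc : Nat.card A = 20160 := by rw [Nat.card_congr eA.toEquiv, natCard_PSL34 F hF]
  set B := J21.subgroupOf (setSystemAut (sysL 21 std21 : Set (Finset (Fin 21))))
  have hBc : Nat.card B = 20160 := by
    rw [Nat.card_congr (Subgroup.subgroupOfEquivOfLe J21_le).toEquiv, natCard_J21]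
  have hidx : B.index ≤ 6 := by
    have h1 := Subgroup.card_mul_index B
    have h2 := natCard_aut21_le
    rw [hBc] at h1
    omega
  have hAB : A = B := subgroup_eq_of_simple eA.isSimpleGroup (hAc.trans hBc.symm) hidx (by omega)
  exact ⟨(Subgroup.subgroupOfEquivOfLe J21_le).symm.trans ((MulEquiv.subgroupCongr hAB.symm).trans eA)⟩

end Plane

/-! ### In the group of the code -/

/-- the three top positions -/
def triple : Fin 3 ↪ GolayPt :=
  ⟨![E24 (Fin.last 23), E24 (Fin.last 22).castSucc, E24 (Fin.last 21).castSucc.castSucc], by decide +kernel⟩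

/-- the map into the group of the code -/
noncomputable def f21 : S21 →* M24 := f22.comp S21.subtype

theorem f21_range : f21.range = MulAction.stabilizer M24 triple := by
  ext g
  rw [MonoidHom.mem_range, MulAction.mem_stabilizer_iff]
  constructor
  · rintro ⟨k, rfl⟩
    refine Function.Embedding.ext fun i => ?_
    show (f22 k.1 : Equiv.Perm GolayPt) (triple i) = triple i
    have hk := mem_S21.1 k.2
    match i with
    | 0 =>
      show (f22 k.1 : Equiv.Perm GolayPt) (E24 (Fin.last 23)) = E24 (Fin.last 23)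
      rw [f22_apply, extHom_last]
    | 1 =>
      show (f22 k.1 : Equiv.Perm GolayPt) (E24 (Fin.last 22).castSucc) = E24 (Fin.last 22).castSucc
      rw [f22_apply, extHom_castSucc, extHom_last]
    | 2 =>
      show (f22 k.1 : Equiv.Perm GolayPt) (E24 (Fin.last 21).castSucc.castSucc) = E24 (Fin.last 21).castSucc.castSucc
      rw [f22_apply, extHom_castSucc, extHom_castSucc, hk]
  · intro hg
    have h : ∀ i, (g : Equiv.Perm GolayPt) (triple i) = triple i := fun i => DFunLike.congr_fun hg i
    obtain ⟨k, rfl⟩ : g ∈ f22.range := by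
      rw [f22_range, Subgroup.mem_inf, CfsgLib.Golay.mem_stab_point, CfsgLib.Golay.mem_stab_point]
      exact ⟨h 0, h 1⟩
    refine ⟨⟨k, mem_S21.2 ?_⟩, rfl⟩
    have h2 := h 2
    simp only [triple, Function.Embedding.coeFn_mk] at h2
    rw [show (![E24 (Fin.last 23), E24 (Fin.last 22).castSucc, E24 (Fin.last 21).castSucc.castSucc] : Fin 3 → GolayPt) 2 =
      E24 (Fin.last 21).castSucc.castSucc from rfl, f22_apply, extHom_castSucc, extHom_castSucc,
      E24.injective.eq_iff, Fin.castSucc_inj, Fin.castSucc_inj] at h2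
    exact h2

theorem stab_three_PSL (p q r : GolayPt) (hpq : p ≠ q) (hpr : p ≠ r) (hqr : q ≠ r) (F : Type) [Field F]
    [Fintype F] (hF : Fintype.card F = 4) :
    Nonempty (↥(MulAction.stabilizer M24 p ⊓ MulAction.stabilizer M24 q ⊓ MulAction.stabilizer M24 r) ≃*
      Matrix.ProjectiveSpecialLinearGroup (Fin 3) F) := by
  have hinj : Function.Injective ![p, q, r] := by
    intro i j h
    fin_cases i <;> fin_cases j <;> simp_all [eq_comm]
  let x : Fin 3 ↪ GolayPt := ⟨![p, q, r], hinj⟩
  haveI := CfsgLib.Golay.five_pretransitive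
  haveI : MulAction.IsMultiplyPretransitive M24 GolayPt 3 :=
    MulAction.isMultiplyPretransitive_of_le (n := 5) (by norm_num) (by simp)
  obtain ⟨g, hg⟩ := MulAction.exists_smul_eq M24 triple x
  have e1 : MulAction.stabilizer M24 triple ≃* MulAction.stabilizer M24 x :=
    MulAction.stabilizerEquivStabilizer hg.symm
  have e2 : MulAction.stabilizer M24 x =
      MulAction.stabilizer M24 p ⊓ MulAction.stabilizer M24 q ⊓ MulAction.stabilizer M24 r := by
    ext m
    simp only [Subgroup.mem_inf, MulAction.mem_stabilizer_iff]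
    constructor
    · intro h
      exact ⟨⟨DFunLike.congr_fun h 0, DFunLike.congr_fun h 1⟩, DFunLike.congr_fun h 2⟩
    · rintro ⟨⟨h0, h1⟩, h2⟩
      refine Function.Embedding.ext fun i => ?_
      fin_cases i
      exacts [h0, h1, h2]
  obtain ⟨eJ⟩ := nonempty_J21_PSL F hF
  have e3 : S21 ≃* MulAction.stabilizer M24 triple :=
    (MonoidHom.ofInjective (f := f21) (f22_injective.comp Subtype.val_injective)).trans (MulEquiv.subgroupCongr f21_range)
  have hmem : ∀ τ : J21, ∃ k : S21, (k.1.1.1 : Equiv.Perm (Fin 22)) = extHom 21 τ.1 := by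
    rintro ⟨τ, σ, hσK, hσ⟩
    refine ⟨⟨⟨σ, hσK⟩, mem_S21.2 ?_⟩, hσ⟩
    show (σ.1 : Equiv.Perm (Fin 22)) (Fin.last 21) = Fin.last 21
    rw [show (σ.1 : Equiv.Perm (Fin 22)) = extHom 21 τ from hσ, extHom_last]
  choose k hk using hmem
  let φ : J21 →* S21 :=
    { toFun := k
      map_one' := Subtype.ext (Subtype.ext (Subtype.ext (by rw [hk, Subgroup.coe_one, map_one]; rfl)))
      map_mul' := fun a b => Subtype.ext (Subtype.ext (Subtype.ext (by
        rw [hk, Subgroup.coe_mul, map_mul, ← hk a, ← hk b]; rfl))) }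
  have hφ : Function.Bijective φ := (Nat.bijective_iff_injective_and_card φ).2
    ⟨fun a b h => Subtype.ext (extHom_injective (by rw [← hk a, ← hk b]; exact congrArg (fun z : S21 => (z.1.1.1 : Equiv.Perm (Fin 22))) h)),
      by rw [natCard_J21, natCard_S21]⟩
  exact ⟨((MulEquiv.subgroupCongr e2.symm).trans e1.symm).trans
    (e3.symm.trans ((MulEquiv.ofBijective φ hφ).symm.trans eJ))⟩

end CfsgLib.Steiner
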