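import Cfsg.Agent.Lib.Steiner.Step
import Cfsg.Agent.Lib.Steiner.Data

/-!
Certificates for the classification of the small Steiner systems.
-/

set_option autoImplicit false

namespace CfsgLib.Steiner

/-- all masks on `i` positions satisfying a predicate at every truncation -/
def growF (P : ℕ → Bool) : ℕ → List ℕ
  | 0 => [0]
  | i + 1 => ((growF P i).flatMap fun m => [m, m + 2 ^ i]).filter P

/-- few points and at most one point on each given block -/
def smallOK (k : ℕ) (F : List ℕ) (m : ℕ) : Bool :=
  decide (fpop m ≤ k) && F.all fun f => let x := m &&& f; x &&& (x - 1) == 0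

/-- possible further blocks -/
def baseCands (n k : ℕ) (F : List ℕ) : List ℕ :=
  (growF (smallOK k F) n).filter fun m => fpop m == k

/-- pairs not on a given block -/
def baseTargets (n : ℕ) (F : List ℕ) : List ℕ :=
  ((List.range n).flatMap fun j => (List.range j).map fun i => 2 ^ i + 2 ^ j).filter fun t =>
    F.all fun f => !(t &&& f == t)

/-- the certificate of a base case -/
def baseOK (n k : ℕ) (std F : List ℕ) (Vs : List (List ℕ)) (Ps : List (List ℕ × List ℕ)) : Bool :=
  listOK n F &&
  ((srch (fun a b => (3 : ℕ).testBit (fpop (a &&& b))) (baseTargets n F).length (baseCands n k F)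
      (baseTargets n F)).all fun sol => Vs.contains sol && decide sol.Nodup &&
        (sol.length + F.length == std.length)) &&
  (List.range Vs.length).all fun i =>
    carriesOK n (Ps.getD i ([], [])).1 (Ps.getD i ([], [])).2 std (F ++ Vs.getD i [])

theorem base9_ok : baseOK 9 3 std9 fixed9 rests9 perms9 = true := by decide +kernel

theorem base21_ok : baseOK 21 5 std21 fixed21 rests21 perms21 = true := by decide +kernel

/-- the relabellings of the extensions -/
def permsOK (n : ℕ) (der std : List ℕ) (Vs : List (List ℕ)) (Ps : List (List ℕ × List ℕ)) : Bool :=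
  (List.range Vs.length).all fun i =>
    carriesOK (n + 1) (Ps.getD i ([], [])).1 (Ps.getD i ([], [])).2 std
      (Vs.getD i [] ++ der.map (· + 2 ^ n))

/-- sets of the given size contained in no block of the derived system -/
def stepTargets (n T : ℕ) (der : List ℕ) : List ℕ :=
  (List.range (2 ^ n)).filter fun t => pop n t == T && der.all fun d => !(t &&& d == t)

/-- the certificate of an extension step done by search -/
def searchOK (n T K A : ℕ) (der : List ℕ) (Vs : List (List ℕ)) (r : ℕ) : Bool :=
  (srch (fun a b => A.testBit (fpop (a &&& b))) (stepTargets n T der).length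
    (cands n K A 0 der []) (stepTargets n T der)).all
      fun sol => Vs.contains sol && decide sol.Nodup && sol.length == r

/-- the certificate of an extension step done by classes, apart from the candidates -/
def classOK (n A c : ℕ) (der : List ℕ) (rules : List (ℕ × List ℕ)) (Vs : List (List ℕ)) (r : ℕ) : Bool :=
  rulesOK n der rules && ((List.range (n + 1)).all fun j => !A.testBit j || j % 2 == c % 2) &&
    decide ((enum der c rules n).length ≤ 2048) &&
    (Vs.all fun V => V.length == r) &&
    Vs.all fun V => Vs.all fun W => V == W ||
      V.all fun a => W.all fun b => a != b && !A.testBit (fpop (a &&& b))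

/-- the candidates in one part of the enumeration lie in the classes -/
def candOK (n K A c : ℕ) (der : List ℕ) (rules : List (ℕ × List ℕ)) (Vs : List (List ℕ)) (i : ℕ) : Bool :=
  (((enum der c rules n).drop (256 * i)).take 256).all fun m =>
    !(fpop m == K) || (Vs.any fun V => V.contains m) || !(der.all fun d => A.testBit (fpop (m &&& d)))

theorem mem_of_candOK {n K A c : ℕ} {der : List ℕ} {rules : List (ℕ × List ℕ)} {Vs : List (List ℕ)}
    (hlen : (enum der c rules n).length ≤ 2048) (h : ∀ i < 8, candOK n K A c der rules Vs i = true)
    {m : ℕ} (hm : m ∈ cands n K A c der rules) : ∃ V ∈ Vs, m ∈ V := by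
  obtain ⟨hm, hp⟩ := List.mem_filter.1 hm
  obtain ⟨j, hj, rfl⟩ := List.mem_iff_getElem.1 hm
  have hi := h (j / 256) (by omega)
  simp only [candOK, List.all_eq_true] at hi
  have := hi (enum der c rules n)[j] (List.mem_iff_getElem.2 ⟨j % 256, by
    simp only [List.length_take, List.length_drop]; omega, by
    simp only [List.getElem_take, List.getElem_drop]; congr 1; omega⟩)
  simp only [Bool.and_eq_true] at hp
  simp only [hp.1, hp.2, Bool.not_true, Bool.false_or, Bool.or_false, List.any_eq_true,
    List.contains_iff_mem] at this
  exact this

theorem listOK9 : listOK 9 std9 = true := by decide +kernel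
theorem listOK10 : listOK 10 std10 = true := by decide +kernel
theorem listOK11 : listOK 11 std11 = true := by decide +kernel
theorem listOK12 : listOK 12 std12 = true := by decide +kernel
theorem listOK21 : listOK 21 std21 = true := by decide +kernel
theorem listOK22 : listOK 22 std22 = true := by decide +kernel
theorem listOK23 : listOK 23 std23 = true := by decide +kernel
theorem listOK24 : listOK 24 std24 = true := by decide +kernel

theorem search10_ok : searchOK 9 3 4 7 std9 rests10 18 = true := by decide +kernel
theorem search11_ok : searchOK 10 4 5 14 std10 rests11 36 = true := by decide +kernel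
theorem class22_ok : classOK 21 5 0 std21 rules22 rests22 56 = true := by decide +kernel
theorem cand22_0 : candOK 21 6 5 0 std21 rules22 rests22 0 = true := by decide +kernel
theorem cand22_1 : candOK 21 6 5 0 std21 rules22 rests22 1 = true := by decide +kernel
theorem cand22_2 : candOK 21 6 5 0 std21 rules22 rests22 2 = true := by decide +kernel
theorem cand22_3 : candOK 21 6 5 0 std21 rules22 rests22 3 = true := by decide +kernel
theorem cand22_4 : candOK 21 6 5 0 std21 rules22 rests22 4 = true := by decide +kernel
theorem cand22_5 : candOK 21 6 5 0 std21 rules22 rests22 5 = true := by decide +kernel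
theorem cand22_6 : candOK 21 6 5 0 std21 rules22 rests22 6 = true := by decide +kernel
theorem cand22_7 : candOK 21 6 5 0 std21 rules22 rests22 7 = true := by decide +kernel
theorem cand22_ok : ∀ i < 8, candOK 21 6 5 0 std21 rules22 rests22 i = true
  | 0, _ => cand22_0 | 1, _ => cand22_1 | 2, _ => cand22_2 | 3, _ => cand22_3
  | 4, _ => cand22_4 | 5, _ => cand22_5 | 6, _ => cand22_6 | 7, _ => cand22_7
  | _ + 8, h => absurd h (by omega)
theorem class23_ok : classOK 22 10 1 std22 rules23 rests23 176 = true := by decide +kernel
theorem cand23_0 : candOK 22 7 10 1 std22 rules23 rests23 0 = true := by decide +kernel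
theorem cand23_1 : candOK 22 7 10 1 std22 rules23 rests23 1 = true := by decide +kernel
theorem cand23_2 : candOK 22 7 10 1 std22 rules23 rests23 2 = true := by decide +kernel
theorem cand23_3 : candOK 22 7 10 1 std22 rules23 rests23 3 = true := by decide +kernel
theorem cand23_4 : candOK 22 7 10 1 std22 rules23 rests23 4 = true := by decide +kernel
theorem cand23_5 : candOK 22 7 10 1 std22 rules23 rests23 5 = true := by decide +kernel
theorem cand23_6 : candOK 22 7 10 1 std22 rules23 rests23 6 = true := by decide +kernel
theorem cand23_7 : candOK 22 7 10 1 std22 rules23 rests23 7 = true := by decide +kernel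
theorem cand23_ok : ∀ i < 8, candOK 22 7 10 1 std22 rules23 rests23 i = true
  | 0, _ => cand23_0 | 1, _ => cand23_1 | 2, _ => cand23_2 | 3, _ => cand23_3
  | 4, _ => cand23_4 | 5, _ => cand23_5 | 6, _ => cand23_6 | 7, _ => cand23_7
  | _ + 8, h => absurd h (by omega)
theorem class24_ok : classOK 23 21 0 std23 rules24 rests24 506 = true := by decide +kernel
theorem cand24_0 : candOK 23 8 21 0 std23 rules24 rests24 0 = true := by decide +kernel
theorem cand24_1 : candOK 23 8 21 0 std23 rules24 rests24 1 = true := by decide +kernel
theorem cand24_2 : candOK 23 8 21 0 std23 rules24 rests24 2 = true := by decide +kernel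
theorem cand24_3 : candOK 23 8 21 0 std23 rules24 rests24 3 = true := by decide +kernel
theorem cand24_4 : candOK 23 8 21 0 std23 rules24 rests24 4 = true := by decide +kernel
theorem cand24_5 : candOK 23 8 21 0 std23 rules24 rests24 5 = true := by decide +kernel
theorem cand24_6 : candOK 23 8 21 0 std23 rules24 rests24 6 = true := by decide +kernel
theorem cand24_7 : candOK 23 8 21 0 std23 rules24 rests24 7 = true := by decide +kernel
theorem cand24_ok : ∀ i < 8, candOK 23 8 21 0 std23 rules24 rests24 i = true
  | 0, _ => cand24_0 | 1, _ => cand24_1 | 2, _ => cand24_2 | 3, _ => cand24_3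
  | 4, _ => cand24_4 | 5, _ => cand24_5 | 6, _ => cand24_6 | 7, _ => cand24_7
  | _ + 8, h => absurd h (by omega)

theorem perms10_ok : permsOK 9 std9 std10 rests10 perms10 = true := by decide +kernel
theorem perms11_ok : permsOK 10 std10 std11 rests11 perms11 = true := by decide +kernel
theorem perms22_ok : permsOK 21 std21 std22 rests22 perms22 = true := by decide +kernel
theorem perms23_ok : permsOK 22 std22 std23 rests23 perms23 = true := by decide +kernel
theorem std24_split : rests24.length = 1 ∧ rests24.getD 0 [] ++ std23.map (· + 2 ^ 23) = std24 := by decide +kernel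

/-- The complements of the blocks through the last point are the other blocks. -/
theorem compl12_ok : ((std11.map fun d => (d + 2 ^ 11) ^^^ 4095).all fun m => std12.contains m) = true ∧
    ((std11.map (· + 2 ^ 11)).all fun m => std12.contains m) = true ∧
    listOK 12 (std11.map (· + 2 ^ 11) ++ std11.map fun d => (d + 2 ^ 11) ^^^ 4095) = true ∧
    std12.length = 132 := by
  decide +kernel

end CfsgLib.Steiner
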