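import Cfsg.Agent.S0352
import Cfsg.Agent.S0355
import Cfsg.Agent.S0356
import Cfsg.Agent.S0357
import Cfsg.Agent.Lib.Steiner.Cert

/-!
Every Steiner system with the parameters of the small or large Witt designs, and of their derived
designs down to the planes of order 3 and 4, is a relabelling of the model list.
-/

set_option autoImplicit false

namespace CfsgLib.Steiner

open Cfsg

universe u

/-- two distinct blocks share fewer than `t` points -/
theorem card_inter_lt {α : Type*} [DecidableEq α] {t k : ℕ} {B : Set (Finset α)}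
    (hB : IsSteinerSystem t k B) {b c : Finset α} (hb : b ∈ B) (hc : c ∈ B) (hne : b ≠ c) :
    (b ∩ c).card < t := by
  by_contra h
  obtain ⟨S, hS, hSc⟩ := Finset.exists_subset_card_eq (not_lt.mp h)
  obtain ⟨d, -, huniq⟩ := hB.2 S hSc
  exact hne ((huniq b ⟨hb, hS.trans Finset.inter_subset_left⟩).trans
    (huniq c ⟨hc, hS.trans Finset.inter_subset_right⟩).symm)

theorem pop_mono_le (m : ℕ) : ∀ {i n : ℕ}, i ≤ n → pop i m ≤ pop n m := by
  intro i n h
  obtain ⟨j, rfl⟩ := Nat.exists_eq_add_of_le h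
  rw [pop_add]
  exact Nat.le_add_right _ _

theorem and_sub_one_eq_zero {n x : ℕ} (hx : x < 2 ^ n) (h : pop n x ≤ 1) : x &&& (x - 1) = 0 := by
  rw [← card_dN] at h
  rcases Finset.eq_empty_or_nonempty (dN n x) with he | ⟨j, hj⟩
  · rw [dN_injective hx (Nat.two_pow_pos n) (he.trans (by ext; simp [mem_dN]))]; rfl
  · have he : x = 2 ^ j.val := by
      refine dN_injective hx (Nat.pow_lt_pow_right (by norm_num) j.2) ?_
      ext i
      rw [mem_dN (m := 2 ^ j.val), Nat.testBit_two_pow, decide_eq_true_eq, Fin.val_inj]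
      exact ⟨fun hi => (Finset.card_le_one.1 h i hi j hj).symm, fun e => e ▸ hj⟩
    rw [he, Nat.and_two_pow_sub_one_eq_mod, Nat.mod_self]

theorem mem_baseCands {n k m : ℕ} {F : List ℕ} (h24 : n ≤ 24) (hm : m < 2 ^ n) (hk : pop n m = k)
    (hF : ∀ f ∈ F, pop n (m &&& f) ≤ 1) : m ∈ baseCands n k F := by
  refine List.mem_filter.2 ⟨?_, by rw [fpop_eq h24 hm, hk, beq_self_eq_true]⟩
  have key : ∀ i ≤ n, m % 2 ^ i ∈ growF (smallOK k F) i := by
    intro i
    induction i with
    | zero => intro _; simp [growF, Nat.mod_one]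
    | succ i ih =>
      intro hi
      rw [growF]
      refine List.mem_filter.2 ⟨List.mem_flatMap.2 ⟨_, ih (by omega), ?_⟩, ?_⟩
      · rw [mod_two_pow_succ]; split <;> simp
      · have hlt : m % 2 ^ (i + 1) < 2 ^ (i + 1) := Nat.mod_lt _ (Nat.two_pow_pos _)
        simp only [smallOK, Bool.and_eq_true, decide_eq_true_eq, List.all_eq_true, beq_iff_eq]
        refine ⟨?_, fun f hf => ?_⟩
        · rw [fpop_eq (by omega) hlt, pop_mod _ _ _ le_rfl, ← hk]
          exact pop_mono_le m hi
        · refine and_sub_one_eq_zero (n := i + 1) (lt_of_le_of_lt Nat.and_le_left hlt) ?_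
          rw [← pop_mod (i + 1) (i + 1) (m % 2 ^ (i + 1) &&& f) le_rfl, Nat.and_mod_two_pow, Nat.mod_mod,
            ← Nat.and_mod_two_pow, pop_mod _ _ _ le_rfl]
          exact (pop_mono_le _ hi).trans (hF f hf)
  simpa [Nat.mod_eq_of_lt hm] using key n le_rfl

theorem base_step {n k : ℕ} {std F : List ℕ} {Vs : List (List ℕ)} {Ps : List (List ℕ × List ℕ)}
    (h24 : n ≤ 24) (hok : baseOK n k std F Vs Ps = true)
    (hcount : std.length * k.choose 2 = n.choose 2) (hk : 2 ≤ k) {B : Set (Finset (Fin n))}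
    (hB : IsSteinerSystem 2 k B) (hFB : ∀ f ∈ F, dN n f ∈ B) :
    ∃ σ : Equiv.Perm (Fin n), pullback σ B = (sysL n std : Set (Finset (Fin n))) := by
  classical
  simp only [baseOK, Bool.and_eq_true, List.all_eq_true, List.mem_range] at hok
  obtain ⟨⟨hlF, hsrch⟩, hperm⟩ := hok
  obtain ⟨hF0, hFnd⟩ := listOK_spec hlF
  let R := (Finset.range (2 ^ n)).filter fun m => dN n m ∈ B ∧ m ∉ F
  have hR : ∀ m, m ∈ R ↔ m < 2 ^ n ∧ dN n m ∈ B ∧ m ∉ F := fun m => by simp [R]
  have hFR : Disjoint F.toFinset R := Finset.disjoint_left.2 fun m hm hm' =>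
    ((hR m).1 hm').2.2 (List.mem_toFinset.1 hm)
  obtain ⟨B', hBB', hB'⟩ := CfsgLib.Design.exists_finset hB
  have hB'eq : B' = (F.toFinset ∪ R).image (dN n) := by
    ext b
    rw [← Finset.mem_coe, hBB', Finset.mem_image]
    constructor
    · intro hb
      obtain ⟨m, hm, rfl⟩ := exists_mask b
      refine ⟨m, ?_, rfl⟩
      rw [Finset.mem_union, List.mem_toFinset, hR]
      tauto
    · rintro ⟨m, hm, rfl⟩
      rcases Finset.mem_union.1 hm with hm | hm
      · exact hFB m (List.mem_toFinset.1 hm)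
      · exact ((hR m).1 hm).2.1
  have hinj : Set.InjOn (dN n) ↑(F.toFinset ∪ R) := by
    have hlt : ∀ a ∈ F.toFinset ∪ R, a < 2 ^ n := fun a ha => by
      rcases Finset.mem_union.1 ha with ha | ha
      exacts [hF0 a (List.mem_toFinset.1 ha), ((hR a).1 ha).1]
    exact fun a ha b hb e => dN_injective (hlt a ha) (hlt b hb) e
  have hc := CfsgLib.Design.blocks_through hB' ∅ (Nat.zero_le _)
  simp only [Finset.card_empty, Nat.sub_zero, Fintype.card_fin, Finset.empty_subset,
    Finset.filter_true] at hc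
  rw [hB'eq, Finset.card_image_of_injOn hinj, Finset.card_union_of_disjoint hFR,
    List.toFinset_card_of_nodup hFnd, ← hcount] at hc
  have hcard : R.card = std.length - F.length := by
    have := Nat.eq_of_mul_eq_mul_right (Nat.choose_pos hk) hc
    omega
  have hsrch' : (srch (fun a b => (3 : ℕ).testBit (fpop (a &&& b))) (baseTargets n F).length
      (baseCands n k F) (baseTargets n F)).all
        (fun sol => Vs.contains sol && decide sol.Nodup && sol.length == std.length - F.length) = true := by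
    refine List.all_eq_true.2 fun sol hsol => ?_
    have h := hsrch sol hsol
    simp only [Bool.and_eq_true, beq_iff_eq, decide_eq_true_eq] at h ⊢
    exact ⟨h.1, by omega⟩
  have hmeet : ∀ {a b : ℕ}, dN n a ∈ B → dN n b ∈ B → dN n a ≠ dN n b → pop n (a &&& b) ≤ 1 := by
    intro a b ha hb hne
    rw [← card_dN, dN_and]
    exact Nat.lt_succ_iff.1 (card_inter_lt hB ha hb hne)
  obtain ⟨V, hV, hVR⟩ := eq_search h24 (fun m hm => ((hR m).1 hm).1) (baseCands n k F) (baseTargets n F)
    Vs (A := 3) (R := R) (fun m hm => by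
      obtain ⟨hlt, hmB, hmF⟩ := (hR m).1 hm
      refine mem_baseCands h24 hlt (by rw [← card_dN, hB.1 _ hmB]) fun f hf =>
        hmeet hmB (hFB f hf) fun e => hmF ?_
      rwa [dN_injective hlt (hF0 f hf) e])
    (fun a ha b hb hne => by
      have h := hmeet ((hR a).1 ha).2.1 ((hR b).1 hb).2.1
        fun e => hne (dN_injective ((hR a).1 ha).1 ((hR b).1 hb).1 e)
      interval_cases (pop n (a &&& b)) <;> rfl)
    (fun t ht => by
      obtain ⟨ht, htF⟩ := List.mem_filter.1 ht
      simp only [List.mem_flatMap, List.mem_map, List.mem_range] at ht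
      obtain ⟨j, hj, i, hi, rfl⟩ := ht
      obtain ⟨c, ⟨hc', hsub⟩, -⟩ := hB.2 {(⟨i, by omega⟩ : Fin n), ⟨j, hj⟩}
        (Finset.card_pair (fun e => by simp only [Fin.mk.injEq] at e; omega))
      obtain ⟨m, hm, rfl⟩ := exists_mask c
      have hbit : ∀ l, (2 ^ i + 2 ^ j).testBit l = true → l = i ∨ l = j := by
        intro l hl
        rw [testBit_add_top (Nat.pow_lt_pow_right (by norm_num) hi)] at hl
        simp only [Bool.or_eq_true, decide_eq_true_eq, Nat.testBit_two_pow] at hl
        tauto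
      have hlt : 2 ^ i + 2 ^ j < 2 ^ n := Nat.lt_pow_two_of_testBit _ fun l hl => by
        by_contra h
        rcases hbit l (by simpa using h) with e | e <;> omega
      have hsubt : (2 ^ i + 2 ^ j) &&& m = 2 ^ i + 2 ^ j := by
        rw [subset_iff hlt]
        intro l hl
        apply hsub
        rcases hbit l.val (mem_dN.1 hl) with e | e <;> simp [Fin.ext_iff, e]
      refine ⟨m, (hR m).2 ⟨hm, hc', fun hmF => ?_⟩, hsubt⟩
      have := List.all_eq_true.1 htF m hmF
      simp [hsubt] at this)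
    _ hcard hsrch'
  obtain ⟨i, hi, rfl⟩ := List.mem_iff_getElem.1 hV
  have hcarry := hperm i hi
  rw [List.getD_eq_getElem _ _ hi] at hcarry
  obtain ⟨σ, -, hσ⟩ := exists_carry hcarry
  refine ⟨σ, ?_⟩
  rw [← hσ]
  congr 1
  rw [← hBB', hB'eq]
  ext s
  simp [mem_sysL, ← hVR]

theorem exists_perm_of_permsOK {n : ℕ} {der std : List ℕ} {Vs : List (List ℕ)}
    {Ps : List (List ℕ × List ℕ)} (h : permsOK n der std Vs Ps = true) {B : Set (Finset (Fin (n + 1)))}
    {V : List ℕ} (hV : V ∈ Vs) (hB : B = (sysL (n + 1) (V ++ der.map (· + 2 ^ n)) : Set _)) :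
    ∃ σ : Equiv.Perm (Fin (n + 1)), pullback σ B = (sysL (n + 1) std : Set _) := by
  obtain ⟨i, hi, rfl⟩ := List.mem_iff_getElem.1 hV
  have hcarry := List.all_eq_true.1 h i (List.mem_range.2 hi)
  rw [List.getD_eq_getElem _ _ hi] at hcarry
  obtain ⟨σ, -, hσ⟩ := exists_carry hcarry
  exact ⟨σ, by rw [hB]; exact hσ⟩

theorem search_step {n T K A r : ℕ} {der : List ℕ} {Vs : List (List ℕ)} (h24 : n ≤ 24)
    (hder : listOK n der = true) (hok : searchOK n T K A der Vs r = true) (hT : T ≤ K)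
    (hcount : (r + der.length) * K.choose T = (n + 1).choose T) {B : Set (Finset (Fin (n + 1)))}
    (hext : Ext n T K der B)
    (hinter : ∀ b ∈ B, ∀ c ∈ B, b ≠ c → A.testBit (b ∩ c).card = true) :
    ∃ V ∈ Vs, B = (sysL (n + 1) (V ++ der.map (· + 2 ^ n)) : Set _) := by
  obtain ⟨R, hmem, hpair, hcov, hcard, hsys⟩ := hext.exists_rest A hinter hder
  have hr : R.card = r := by
    have := Nat.eq_of_mul_eq_mul_right (Nat.choose_pos hT) (hcard.trans hcount.symm)
    omega
  obtain ⟨V, hV, hVR⟩ := eq_search h24 (fun m hm => (hmem m hm).1) (cands n K A 0 der [])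
    (stepTargets n T der) Vs (fun m hm => mem_cands h24 rfl (Or.inl rfl) (hmem m hm)) hpair
    (fun t ht => by
      simp only [stepTargets, List.mem_filter, List.mem_range, Bool.and_eq_true, beq_iff_eq,
        List.all_eq_true, Bool.not_eq_true', beq_eq_false_iff_ne] at ht
      exact hcov t ht.1 ht.2.1 ht.2.2) r hr hok
  exact ⟨V, hV, hsys V hVR⟩

theorem class_step {n T K A c r : ℕ} {der : List ℕ} {rules : List (ℕ × List ℕ)} {Vs : List (List ℕ)}
    (h24 : n ≤ 24) (hder : listOK n der = true) (hok : classOK n A c der rules Vs r = true)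
    (hcand : ∀ i < 8, candOK n K A c der rules Vs i = true) (hT : T ≤ K) (hr0 : 0 < r)
    (hcount : (r + der.length) * K.choose T = (n + 1).choose T) {B : Set (Finset (Fin (n + 1)))}
    (hext : Ext n T K der B)
    (hinter : ∀ b ∈ B, ∀ c ∈ B, b ≠ c → A.testBit (b ∩ c).card = true) :
    ∃ V ∈ Vs, B = (sysL (n + 1) (V ++ der.map (· + 2 ^ n)) : Set _) := by
  obtain ⟨R, hmem, hpair, -, hcard, hsys⟩ := hext.exists_rest A hinter hder
  have hr : R.card = r := by
    have := Nat.eq_of_mul_eq_mul_right (Nat.choose_pos hT) (hcard.trans hcount.symm)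
    omega
  rw [classOK, Bool.and_eq_true, Bool.and_eq_true, Bool.and_eq_true, Bool.and_eq_true] at hok
  obtain ⟨⟨⟨⟨hrules, hpar⟩, hlen⟩, hVlen⟩, hsep⟩ := hok
  rw [decide_eq_true_eq] at hlen
  obtain ⟨V, hV, hVR⟩ := eq_class h24 (fun m hm => (hmem m hm).1) Vs r hr hr0
    (fun m hm => mem_of_candOK hlen hcand (mem_cands h24 hrules (Or.inr fun j hj hA => by
      have h := List.all_eq_true.1 hpar j (List.mem_range.2 (by omega))
      simpa [hA] using h) (hmem m hm))) hpair
    (fun V hV => by simpa using List.all_eq_true.1 hVlen V hV) hsep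
  exact ⟨V, hV, hsys V hVR⟩

/-- lines of the affine plane of order 3 -/
theorem lab9 : Lab.{u} 9 2 3 std9 := by
  intro α _ _ hα B hB
  classical
  obtain ⟨p⟩ : Nonempty α := Fintype.card_pos_iff.1 (by omega)
  obtain ⟨B', hBB', hB'⟩ := CfsgLib.Design.exists_finset hB
  subst hBB'
  have hc := CfsgLib.Design.blocks_through hB' {p} (by simp)
  simp only [Finset.card_singleton, hα, Nat.choose_one_right, Nat.reduceSub] at hc
  have hc4 : (B'.filter ({p} ⊆ ·)).card = 4 := by omega
  let ℓ : Fin 4 → Finset α := fun r => ((Finset.equivFinOfCardEq hc4).symm r).1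
  have hℓ : ∀ r, ℓ r ∈ B' ∧ p ∈ ℓ r := fun r => by
    simpa using Finset.mem_filter.1 ((Finset.equivFinOfCardEq hc4).symm r).2
  have hℓinj : Function.Injective ℓ :=
    fun a b h => (Finset.equivFinOfCardEq hc4).symm.injective (Subtype.ext h)
  have h2 : ∀ r, ((ℓ r).erase p).card = 2 := fun r => by
    rw [Finset.card_erase_of_mem (hℓ r).2, hB'.1 _ (hℓ r).1]
  let q : Fin 4 → Fin 2 → α := fun r s => ((Finset.equivFinOfCardEq (h2 r)).symm s).1
  have hq : ∀ r s, q r s ≠ p ∧ q r s ∈ ℓ r := fun r s =>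
    Finset.mem_erase.1 ((Finset.equivFinOfCardEq (h2 r)).symm s).2
  let f : Fin 9 → α := ![p, q 0 0, q 0 1, q 1 0, q 1 1, q 2 0, q 2 1, q 3 0, q 3 1]
  have hsurj : Function.Surjective f := by
    intro a
    by_cases ha : a = p
    · exact ⟨0, ha.symm⟩
    obtain ⟨b, ⟨hb, hsub⟩, -⟩ := hB'.2 {p, a} (Finset.card_pair (Ne.symm ha))
    rw [Finset.insert_subset_iff, Finset.singleton_subset_iff] at hsub
    obtain ⟨r, hr⟩ : ∃ r, ℓ r = b := ⟨Finset.equivFinOfCardEq hc4 ⟨b, Finset.mem_filter.2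
      ⟨hb, Finset.singleton_subset_iff.2 hsub.1⟩⟩, by simp [ℓ]⟩
    obtain ⟨s, hs⟩ : ∃ s, q r s = a := ⟨Finset.equivFinOfCardEq (h2 r) ⟨a, Finset.mem_erase.2
      ⟨ha, hr ▸ hsub.2⟩⟩, by simp [q]⟩
    refine ⟨⟨2 * r.val + s.val + 1, by omega⟩, ?_⟩
    rw [← hs]
    fin_cases r <;> fin_cases s <;> rfl
  have hbij : Function.Bijective f :=
    (Fintype.bijective_iff_surjective_and_card f).2 ⟨hsurj, by simp [hα]⟩
  let e := Equiv.ofBijective f hbij
  have hmask : ∀ r : Fin 4, (dN 9 ([7, 25, 97, 385].getD r.val 0)).image e = ℓ r := by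
    intro r
    refine Finset.eq_of_subset_of_card_le (fun x hx => ?_) ?_
    · obtain ⟨i, hi, rfl⟩ := Finset.mem_image.1 hx
      change f i ∈ ℓ r
      rw [mem_dN] at hi
      fin_cases r <;> fin_cases i <;> first
        | exact (hℓ _).2
        | exact (hq _ _).2
        | exact absurd hi (by decide)
    · rw [Finset.card_image_of_injective _ e.injective, card_dN, hB'.1 _ (hℓ r).1]
      fin_cases r <;> decide
  have hfix : ∀ m ∈ fixed9, dN 9 m ∈ pullback e (B' : Set (Finset α)) := by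
    intro m hm
    rw [mem_pullback]
    simp only [fixed9, List.mem_cons, List.not_mem_nil, or_false] at hm
    rcases hm with rfl | rfl | rfl | rfl
    exacts [(hmask 0).symm ▸ (hℓ 0).1, (hmask 1).symm ▸ (hℓ 1).1, (hmask 2).symm ▸ (hℓ 2).1,
      (hmask 3).symm ▸ (hℓ 3).1]
  obtain ⟨σ, hσ⟩ := base_step (by norm_num) base9_ok (by rfl) (by norm_num)
    (isSteiner_pullback e hB') hfix
  exact ⟨σ.trans e, by rw [pullback_trans, hσ]⟩

/-- lines of the projective plane of order 4 -/
theorem lab21 : Lab.{u} 21 2 5 std21 := by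
  intro α _ _ hα B hB
  classical
  obtain ⟨p⟩ : Nonempty α := Fintype.card_pos_iff.1 (by omega)
  obtain ⟨B', hBB', hB'⟩ := CfsgLib.Design.exists_finset hB
  subst hBB'
  have hthru : ∀ a : α, (B'.filter ({a} ⊆ ·)).card = 5 := fun a => by
    have hc := CfsgLib.Design.blocks_through hB' {a} (by simp)
    simp only [Finset.card_singleton, hα, Nat.choose_one_right, Nat.reduceSub] at hc
    omega
  have hmeet : ∀ b ∈ B', ∀ c ∈ B', b ≠ c → ∃ x, b ∩ c = {x} := by
    intro b hb c hc hbc
    refine Finset.card_eq_one.1 ?_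
    have h0 := CfsgLib.Design.block_moment hB' hb 0 20 (by norm_num) (fun n hn => by
      rw [hα] at hn; norm_num [Nat.choose] at hn ⊢ <;> omega)
    have h1 := CfsgLib.Design.block_moment hB' hb 1 4 (by norm_num) (fun n hn => by
      rw [hα] at hn; norm_num [Nat.choose] at hn ⊢ <;> omega)
    simp only [Finset.sum_range_succ, Finset.sum_range_zero, zero_add] at h0 h1
    norm_num [Nat.choose, -Finset.card_eq_zero] at h0 h1
    have hmem : c ∈ (B'.erase b).filter (fun d => (b ∩ d).card = (b ∩ c).card) :=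
      Finset.mem_filter.mpr ⟨Finset.mem_erase.mpr ⟨Ne.symm hbc, hc⟩, rfl⟩
    have hpos := Finset.card_pos.mpr ⟨c, hmem⟩
    have hlt := card_inter_lt hB' (hb : b ∈ (B' : Set (Finset α))) hc hbc
    generalize (b ∩ c).card = j at hpos hlt ⊢
    interval_cases j <;> omega
  have huniq : ∀ b ∈ B', ∀ c ∈ B', b ≠ c → ∀ x ∈ b, x ∈ c → ∀ y ∈ b, y ∈ c → x = y := by
    intro b hb c hc hne x hx hx' y hy hy'
    obtain ⟨z, hz⟩ := hmeet b hb c hc hne
    have h1 : x ∈ b ∩ c := Finset.mem_inter.2 ⟨hx, hx'⟩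
    have h2 : y ∈ b ∩ c := Finset.mem_inter.2 ⟨hy, hy'⟩
    rw [hz, Finset.mem_singleton] at h1 h2
    exact h1.trans h2.symm
  obtain ⟨L, hL⟩ := Finset.card_pos.1 (show 0 < (B'.filter ({p} ⊆ ·)).card by rw [hthru]; norm_num)
  have hLB : L ∈ B' := (Finset.mem_filter.1 hL).1
  have hL5 : L.card = 5 := hB'.1 L hLB
  let a : Fin 5 → α := fun i => ((Finset.equivFinOfCardEq hL5).symm i).1
  have ha : ∀ i, a i ∈ L := fun i => ((Finset.equivFinOfCardEq hL5).symm i).2
  have hainj : Function.Injective a :=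
    fun i j h => (Finset.equivFinOfCardEq hL5).symm.injective (Subtype.ext h)
  have h4 : ∀ i, ((B'.filter ({a i} ⊆ ·)).erase L).card = 4 := fun i => by
    rw [Finset.card_erase_of_mem (Finset.mem_filter.2 ⟨hLB, Finset.singleton_subset_iff.2 (ha i)⟩),
      hthru]
  let R : Fin 4 → Finset α := fun r => ((Finset.equivFinOfCardEq (h4 0)).symm r).1
  have hR : ∀ r, R r ≠ L ∧ R r ∈ B' ∧ a 0 ∈ R r := fun r => by
    have h := ((Finset.equivFinOfCardEq (h4 0)).symm r).2
    simpa [R] using h
  have hRinj : Function.Injective R :=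
    fun i j h => (Finset.equivFinOfCardEq (h4 0)).symm.injective (Subtype.ext h)
  obtain ⟨D, hD⟩ := Finset.card_pos.1 (show 0 < ((B'.filter ({a 2} ⊆ ·)).erase L).card by rw [h4]; norm_num)
  simp only [Finset.mem_erase, Finset.mem_filter, Finset.singleton_subset_iff] at hD
  obtain ⟨hDL, hDB, haD⟩ := hD
  have hLD : ∀ x ∈ L, x ∈ D → x = a 2 := fun x hx hx' =>
    huniq L hLB D hDB (Ne.symm hDL) x hx hx' (a 2) (ha 2) haD
  have hLR : ∀ r, ∀ x ∈ L, x ∈ R r → x = a 0 := fun r x hx hx' =>
    huniq L hLB (R r) (hR r).2.1 (Ne.symm (hR r).1) x hx hx' (a 0) (ha 0) (hR r).2.2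
  have h01 : a 0 ≠ a 1 := fun h => absurd (hainj h) (by decide)
  have h02 : a 0 ≠ a 2 := fun h => absurd (hainj h) (by decide)
  have hRD : ∀ r, ∃ x, x ∈ R r ∧ x ∈ D ∧ x ∉ L := fun r => by
    obtain ⟨x, hx⟩ := hmeet (R r) (hR r).2.1 D hDB
      (fun e => h02 (hLD (a 0) (ha 0) (e ▸ (hR r).2.2)))
    have hx' : x ∈ R r ∩ D := hx ▸ Finset.mem_singleton_self x
    rw [Finset.mem_inter] at hx'
    exact ⟨x, hx'.1, hx'.2, fun hxL => h02 ((hLR r x hxL hx'.1).symm.trans (hLD x hxL hx'.2))⟩
  choose x hxR hxD hxL using hRD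
  have hxinj : Function.Injective x := fun r s e => by
    by_contra hne
    exact hxL r (by
      rw [huniq (R r) (hR r).2.1 (R s) (hR s).2.1 (fun h => hne (hRinj h)) (x r) (hxR r)
        (e ▸ hxR s) (a 0) (hR r).2.2 (hR s).2.2]
      exact ha 0)
  have hC : ∀ c, ∃ b ∈ B', a 1 ∈ b ∧ x c ∈ b := fun c => by
    obtain ⟨b, ⟨hb, hsub⟩, -⟩ := hB'.2 {a 1, x c} (Finset.card_pair (fun e => hxL c (e ▸ ha 1)))
    rw [Finset.insert_subset_iff, Finset.singleton_subset_iff] at hsub
    exact ⟨b, hb, hsub.1, hsub.2⟩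
  choose C hCB hC1 hCx using hC
  have hCL : ∀ c, C c ≠ L := fun c e => hxL c (e ▸ hCx c)
  have hLC : ∀ c, ∀ y ∈ L, y ∈ C c → y = a 1 := fun c y hy hy' =>
    huniq L hLB (C c) (hCB c) (Ne.symm (hCL c)) y hy hy' (a 1) (ha 1) (hC1 c)
  have hCinj : Function.Injective C := fun c d e => by
    refine hxinj ?_
    refine huniq (C c) (hCB c) D hDB (fun h => ?_) (x c) (hCx c) (hxD c) (x d) (e ▸ hCx d) (hxD d)
    exact absurd (hainj (hLD (a 1) (ha 1) (h ▸ hC1 c))) (by decide)
  have hP : ∀ r c, ∃ y, y ∈ R r ∧ y ∈ C c ∧ y ∉ L := fun r c => by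
    obtain ⟨y, hy⟩ := hmeet (R r) (hR r).2.1 (C c) (hCB c)
      (fun e => h01 (hLC c (a 0) (ha 0) (e ▸ (hR r).2.2)))
    have hy' : y ∈ R r ∩ C c := hy ▸ Finset.mem_singleton_self y
    rw [Finset.mem_inter] at hy'
    exact ⟨y, hy'.1, hy'.2, fun hyL => h01 ((hLR r y hyL hy'.1).symm.trans (hLC c y hyL hy'.2))⟩
  choose P hPR hPC hPL using hP
  have hPx : ∀ c, P c c = x c := fun c =>
    huniq (R c) (hR c).2.1 (C c) (hCB c) (fun e => h01 (hLC c (a 0) (ha 0) (e ▸ (hR c).2.2))) _
      (hPR c c) (hPC c c) _ (hxR c) (hCx c)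
  let f : Fin 21 → α := fun i => if h : i.val < 16 then
    P ⟨i.val / 4, by omega⟩ ⟨i.val % 4, by omega⟩ else a ⟨i.val - 16, by omega⟩
  have hinj : Function.Injective f := by
    intro i j e
    by_cases hi : i.val < 16 <;> by_cases hj : j.val < 16 <;> simp only [f, hi, hj, dite_true, dite_false] at e
    · have hr : (⟨i.val / 4, by omega⟩ : Fin 4) = ⟨j.val / 4, by omega⟩ := by
        by_contra hne
        refine hPL ⟨i.val / 4, by omega⟩ ⟨i.val % 4, by omega⟩ ?_
        rw [huniq _ (hR _).2.1 _ (hR _).2.1 (fun h => hne (hRinj h)) _ (hPR _ _) (e ▸ hPR _ _)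
          (a 0) (hR _).2.2 (hR _).2.2]
        exact ha 0
      have hc : (⟨i.val % 4, by omega⟩ : Fin 4) = ⟨j.val % 4, by omega⟩ := by
        by_contra hne
        refine hPL ⟨i.val / 4, by omega⟩ ⟨i.val % 4, by omega⟩ ?_
        rw [huniq _ (hCB _) _ (hCB _) (fun h => hne (hCinj h)) _ (hPC _ _) (e ▸ hPC _ _)
          (a 1) (hC1 _) (hC1 _)]
        exact ha 1
      simp only [Fin.mk.injEq] at hr hc
      exact Fin.ext (by omega)
    · exact absurd (e ▸ ha _) (hPL _ _)
    · exact absurd (e.symm ▸ ha _) (hPL _ _)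
    · have := hainj e
      simp only [Fin.mk.injEq] at this
      exact Fin.ext (by omega)
  have hbij : Function.Bijective f :=
    (Fintype.bijective_iff_injective_and_card f).2 ⟨hinj, by simp [hα]⟩
  let e := Equiv.ofBijective f hbij
  have himg : ∀ (m : ℕ) (b : Finset α), b ∈ B' → pop 21 m = 5 →
      (∀ i : Fin 21, m.testBit i.val = true → f i ∈ b) → dN 21 m ∈ pullback e (B' : Set (Finset α)) := by
    intro m b hb hm hmem
    rw [mem_pullback]
    convert (show b ∈ (B' : Set (Finset α)) from hb) using 1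
    refine Finset.eq_of_subset_of_card_le (fun y hy => ?_) ?_
    · obtain ⟨i, hi, rfl⟩ := Finset.mem_image.1 hy
      exact hmem i (mem_dN.1 hi)
    · rw [Finset.card_image_of_injective _ e.injective, card_dN, hm, hB'.1 b hb]
  have hfix : ∀ m ∈ fixed21, dN 21 m ∈ pullback e (B' : Set (Finset α)) := by
    have hm : fixed21 = (31 * 2 ^ 16) :: ((List.finRange 4).map fun r => 15 * 2 ^ (4 * r.val) + 2 ^ 16) ++
        ((List.finRange 4).map fun c => 4369 * 2 ^ c.val + 2 ^ 17) ++ [1 + 2 ^ 5 + 2 ^ 10 + 2 ^ 15 + 2 ^ 18] := by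
      decide
    intro m hmem
    rw [hm] at hmem
    simp only [List.cons_append, List.mem_cons, List.mem_append, List.mem_map, List.mem_finRange,
      true_and, List.not_mem_nil, or_false] at hmem
    rcases hmem with rfl | (⟨r, rfl⟩ | ⟨c, rfl⟩) | rfl
    · refine himg _ L hLB (by decide +kernel) fun i hi => ?_
      have : 16 ≤ i.val := by
        revert i
        decide +kernel
      simp only [f, show ¬ i.val < 16 by omega, dite_false]
      exact ha _
    · refine himg _ (R r) (hR r).2.1 (by revert r; decide +kernel) fun i hi => ?_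
      have : (i.val < 16 ∧ i.val / 4 = r.val) ∨ i.val = 16 := by
        revert r i
        decide +kernel
      rcases this with ⟨h, hr⟩ | h
      · simp only [f, h, dite_true]
        rw [show r = (⟨i.val / 4, by omega⟩ : Fin 4) from Fin.ext hr.symm]
        exact hPR _ _
      · simp only [f, h, show ¬ (16 : ℕ) < 16 by omega, dite_false]
        exact (hR r).2.2
    · refine himg _ (C c) (hCB c) (by revert c; decide +kernel) fun i hi => ?_
      have : (i.val < 16 ∧ i.val % 4 = c.val) ∨ i.val = 17 := by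
        revert c i
        decide +kernel
      rcases this with ⟨h, hr⟩ | h
      · simp only [f, h, dite_true]
        rw [show c = (⟨i.val % 4, by omega⟩ : Fin 4) from Fin.ext hr.symm]
        exact hPC _ _
      · simp only [f, h, show ¬ (17 : ℕ) < 16 by omega, dite_false]
        exact hC1 c
    · refine himg _ D hDB (by decide +kernel) fun i hi => ?_
      have : (i.val < 16 ∧ i.val % 4 = i.val / 4) ∨ i.val = 18 := by
        revert i
        decide +kernel
      rcases this with ⟨h, hr⟩ | h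
      · simp only [f, h, dite_true, hr, hPx]
        exact hxD _
      · simp only [f, h, show ¬ (18 : ℕ) < 16 by omega, dite_false]
        exact haD
  obtain ⟨σ, hσ⟩ := base_step (by norm_num) base21_ok (by decide +kernel) (by norm_num)
    (isSteiner_pullback e hB') hfix
  exact ⟨σ.trans e, by rw [pullback_trans, hσ]⟩

theorem lab10 : Lab.{u} 10 3 4 std10 :=
  lab_step lab9 listOK9 fun {B} hext => by
    obtain ⟨V, hV, hB⟩ := search_step (by norm_num) listOK9 search10_ok (by norm_num) (by rfl) hext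
      fun b hb c hc hne => by
        have := card_inter_lt hext.steiner hb hc hne
        generalize (b ∩ c).card = j at this ⊢
        interval_cases j <;> rfl
    obtain ⟨σ, hσ⟩ := exists_perm_of_permsOK perms10_ok hV hB
    exact ⟨V, σ, hB, hσ⟩

theorem inter11 {α : Type*} [Fintype α] [DecidableEq α] (hα : Fintype.card α = 11) {B : Set (Finset α)}
    (hB : IsSteinerSystem 4 5 B) {b c : Finset α} (hb : b ∈ B) (hc : c ∈ B) (hbc : b ≠ c) :
    (14 : ℕ).testBit (b ∩ c).card = true := by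
  obtain ⟨B, rfl, hB'⟩ := CfsgLib.Design.exists_finset hB
  have hb' : b ∈ B := hb
  have h0 := CfsgLib.Design.block_moment hB' hb' 0 65 (by norm_num) (fun n hn => by
    rw [hα] at hn; norm_num [Nat.choose] at hn ⊢ <;> omega)
  have h1 := CfsgLib.Design.block_moment hB' hb' 1 29 (by norm_num) (fun n hn => by
    rw [hα] at hn; norm_num [Nat.choose] at hn ⊢ <;> omega)
  have h2 := CfsgLib.Design.block_moment hB' hb' 2 11 (by norm_num) (fun n hn => by
    rw [hα] at hn; norm_num [Nat.choose] at hn ⊢ <;> omega)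
  have h3 := CfsgLib.Design.block_moment hB' hb' 3 3 (by norm_num) (fun n hn => by
    rw [hα] at hn; norm_num [Nat.choose] at hn ⊢ <;> omega)
  simp only [Finset.sum_range_succ, Finset.sum_range_zero, zero_add] at h0 h1 h2 h3
  norm_num [Nat.choose, -Finset.card_eq_zero] at h0 h1 h2 h3
  have hmem : c ∈ (B.erase b).filter (fun d => (b ∩ d).card = (b ∩ c).card) :=
    Finset.mem_filter.mpr ⟨Finset.mem_erase.mpr ⟨Ne.symm hbc, hc⟩, rfl⟩
  have hpos := Finset.card_pos.mpr ⟨c, hmem⟩
  have hlt := card_inter_lt hB hb hc hbc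
  generalize (b ∩ c).card = j at hpos hlt ⊢
  interval_cases j <;> first | rfl | omega

theorem lab11 : Lab.{u} 11 4 5 std11 :=
  lab_step lab10 listOK10 fun {B} hext => by
    obtain ⟨V, hV, hB⟩ := search_step (by norm_num) listOK10 search11_ok (by norm_num) (by rfl) hext
      fun b hb c hc hne => inter11 (Fintype.card_fin _) hext.steiner hb hc hne
    obtain ⟨σ, hσ⟩ := exists_perm_of_permsOK perms11_ok hV hB
    exact ⟨V, σ, hB, hσ⟩

theorem lab22 : Lab.{u} 22 3 6 std22 :=
  lab_step lab21 listOK21 fun {B} hext => by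
    obtain ⟨V, hV, hB⟩ := class_step (by norm_num) listOK21 class22_ok cand22_ok (by norm_num)
      (by norm_num) (by decide +kernel) hext fun b hb c hc hne => by
        rcases Cfsg.Agent.S0356.result (Fintype.card_fin _) hext.steiner hb hc hne with h | h <;>
          rw [h] <;> rfl
    obtain ⟨σ, hσ⟩ := exists_perm_of_permsOK perms22_ok hV hB
    exact ⟨V, σ, hB, hσ⟩

theorem lab23 : Lab.{u} 23 4 7 std23 :=
  lab_step lab22 listOK22 fun {B} hext => by
    obtain ⟨V, hV, hB⟩ := class_step (by norm_num) listOK22 class23_ok cand23_ok (by norm_num)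
      (by norm_num) (by decide +kernel) hext fun b hb c hc hne => by
        rcases Cfsg.Agent.S0355.result (Fintype.card_fin _) hext.steiner hb hc hne with h | h <;>
          rw [h] <;> rfl
    obtain ⟨σ, hσ⟩ := exists_perm_of_permsOK perms23_ok hV hB
    exact ⟨V, σ, hB, hσ⟩

theorem lab24 : Lab.{u} 24 5 8 std24 :=
  lab_step lab23 listOK23 fun {B} hext => by
    obtain ⟨V, hV, hB⟩ := class_step (by norm_num) listOK23 class24_ok cand24_ok (by norm_num)
      (by norm_num) (by decide +kernel) hext fun b hb c hc hne => by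
        rcases Cfsg.Agent.S0352.result (Fintype.card_fin _) hext.steiner hb hc hne with h | h | h <;>
          rw [h] <;> rfl
    obtain ⟨h1, h2⟩ := std24_split
    obtain ⟨i, hi, rfl⟩ := List.mem_iff_getElem.1 hV
    obtain rfl : i = 0 := by omega
    rw [List.getD_eq_getElem _ _ hi] at h2
    refine ⟨_, Equiv.refl _, hB, ?_⟩
    rw [hB, h2]
    ext s
    simp [mem_pullback]

theorem lab12 : Lab.{u} 12 5 6 std12 := by
  intro α _ _ hα B hB
  classical
  obtain ⟨p⟩ : Nonempty α := Fintype.card_pos_iff.1 (by omega)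
  obtain ⟨e, -, hext⟩ := exists_ext lab11 hα hB listOK11 p
  refine ⟨e, ?_⟩
  obtain ⟨h1, h2, h3, h4⟩ := compl12_ok
  set P := pullback e B
  obtain ⟨B', hBB', hB'⟩ := CfsgLib.Design.exists_finset hext.steiner
  have hc := CfsgLib.Design.blocks_through hB' ∅ (Nat.zero_le _)
  simp only [Finset.card_empty, Nat.sub_zero, Fintype.card_fin, Finset.empty_subset,
    Finset.filter_true] at hc
  have hcard : B'.card = 132 := by
    norm_num [Nat.choose] at hc
    omega
  have hlt : ∀ d ∈ std11, d < 2 ^ 11 := (listOK_spec listOK11).1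
  have htop : ∀ d ∈ std11, dN 12 (d + 2 ^ 11) ∈ P := fun d hd =>
    (hext.top _ (by rw [mem_dN, Fin.val_last, testBit_add_top (hlt d hd)]; simp)).2 ⟨d, hd, rfl⟩
  have hcompl : ∀ x, dN 12 (x ^^^ 4095) = (dN 12 x)ᶜ := fun x => by
    ext i
    have : (4095 : ℕ).testBit i.val = true := by
      revert i
      decide
    simp [mem_dN, this]
  set S := sysL 12 (std11.map (· + 2 ^ 11) ++ std11.map fun d => (d + 2 ^ 11) ^^^ 4095) with hS
  have hSB : S ⊆ B' := by
    intro s hs
    obtain ⟨m, hm, rfl⟩ := mem_sysL.1 hs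
    rw [← Finset.mem_coe, hBB']
    rcases List.mem_append.1 hm with hm | hm <;> obtain ⟨d, hd, rfl⟩ := List.mem_map.1 hm
    · exact htop d hd
    · rw [hcompl]
      exact Cfsg.Agent.S0357.result (Fintype.card_fin _) hext.steiner (htop d hd)
  have hScard : S.card = 132 := by
    rw [hS, card_sysL h3]
    decide +kernel
  have hsub : S ⊆ sysL 12 std12 := by
    intro s hs
    obtain ⟨m, hm, rfl⟩ := mem_sysL.1 hs
    simp only [List.all_eq_true, List.contains_iff_mem] at h1 h2
    rcases List.mem_append.1 hm with hm | hm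
    · exact mem_sysL.2 ⟨m, h2 m hm, rfl⟩
    · obtain ⟨d, hd, rfl⟩ := List.mem_map.1 hm
      exact mem_sysL.2 ⟨_, h1 _ (List.mem_map.2 ⟨d, hd, rfl⟩), rfl⟩
  have e1 : S = B' := Finset.eq_of_subset_of_card_le hSB (by omega)
  have e2 : S = sysL 12 std12 :=
    Finset.eq_of_subset_of_card_le hsub (by rw [card_sysL listOK12, h4, hScard])
  rw [← hBB', ← e1, e2]

end CfsgLib.Steiner
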