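import Cfsg.Prelude.Def_Sporadic
import Cfsg.Agent.Lib.Golay.MathieuFacts
import Cfsg.Agent.Lib.Steiner.Labels

/-!
The large Witt design is the system of octads of the length-24 code; transport of automorphism
groups along relabellings.
-/

set_option autoImplicit false

namespace CfsgLib.Steiner

open Cfsg
open scoped Pointwise

section Transfer

variable {α β : Type*} [DecidableEq α] [DecidableEq β]

theorem smul_eq_image (g : Equiv.Perm α) (s : Finset α) : g • s = s.image g := rfl

theorem mem_aut_iff {B : Set (Finset α)} {g : Equiv.Perm α} :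
    g ∈ setSystemAut B ↔ ∀ s : Finset α, s.image g ∈ B ↔ s ∈ B :=
  MulAction.mem_stabilizer_set

theorem mem_aut_pullback (e : β ≃ α) (B : Set (Finset α)) (σ : Equiv.Perm β) :
    σ ∈ setSystemAut (pullback e B) ↔ e.permCongr σ ∈ setSystemAut B := by
  simp only [mem_aut_iff, mem_pullback]
  have h : ∀ s : Finset β, (s.image e).image (e.permCongr σ) = (s.image σ).image e := by
    intro s
    simp [Finset.image_image, Function.comp_def, Equiv.permCongr_apply]
  constructor
  · intro h' t
    have := h' (t.image e.symm)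
    rwa [← h, image_symm_image] at this
  · intro h' s
    have := h' (s.image e)
    rwa [h] at this

/-- relabelling an automorphism group -/
def autEquiv (e : β ≃ α) (B : Set (Finset α)) : setSystemAut (pullback e B) ≃* setSystemAut B where
  toFun σ := ⟨e.permCongr σ, (mem_aut_pullback e B σ.1).1 σ.2⟩
  invFun g := ⟨e.symm.permCongr g, (mem_aut_pullback e B _).2 (by
    convert g.2 using 1
    ext x; simp [Equiv.permCongr_apply])⟩
  left_inv σ := by ext x; simp [Equiv.permCongr_apply]
  right_inv g := by ext x; simp [Equiv.permCongr_apply]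
  map_mul' σ τ := by ext x; simp [Equiv.permCongr_apply]

theorem autEquiv_apply (e : β ≃ α) (B : Set (Finset α)) (σ : setSystemAut (pullback e B)) (b : β) :
    (autEquiv e B σ : Equiv.Perm α) (e b) = e ((σ : Equiv.Perm β) b) := by
  simp [autEquiv, Equiv.permCongr_apply]

theorem pretransitive_transfer (e : β ≃ α) {B : Set (Finset α)} {B' : Set (Finset β)}
    (he : pullback e B = B') {m : ℕ} (h : MulAction.IsMultiplyPretransitive (setSystemAut B') β m) :
    MulAction.IsMultiplyPretransitive (setSystemAut B) α m := by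
  subst he
  rw [MulAction.isMultiplyPretransitive_iff]
  intro x y
  obtain ⟨σ, hσ⟩ := h.exists_smul_eq (x.trans e.symm.toEmbedding) (y.trans e.symm.toEmbedding)
  refine ⟨autEquiv e B σ, ?_⟩
  ext i
  have h1 : (σ : Equiv.Perm β) (e.symm (x i)) = e.symm (y i) := by
    exact DFunLike.congr_fun hσ i
  change (autEquiv e B σ : Equiv.Perm α) (x i) = y i
  have h2 := autEquiv_apply e B σ (e.symm (x i))
  rwa [e.apply_symm_apply, h1, e.apply_symm_apply] at h2

theorem image_symmDiff' (e : α ≃ β) (s t : Finset α) :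
    (symmDiff s t).image e = symmDiff (s.image e) (t.image e) :=
  Finset.image_symmDiff _ _ e.injective

end Transfer

/-- the labelling of the points by bit positions -/
def E24 : Fin 24 ≃ GolayPt where
  toFun i := CfsgLib.Golay.pt i
  invFun p := ⟨CfsgLib.Golay.idx p, CfsgLib.Golay.idx_lt p⟩
  left_inv i := Fin.ext (CfsgLib.Golay.idx_pt i i.2)
  right_inv p := CfsgLib.Golay.pt_idx p

theorem image_E24 (m : ℕ) : (dN 24 m).image E24 = CfsgLib.Golay.dec m := by
  ext p
  rw [CfsgLib.Golay.mem_dec, Finset.mem_image]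
  constructor
  · rintro ⟨i, hi, rfl⟩
    rw [mem_dN] at hi
    rwa [show CfsgLib.Golay.idx (E24 i) = i.val from CfsgLib.Golay.idx_pt i i.2]
  · exact fun h => ⟨E24.symm p, mem_dN.2 h, E24.apply_symm_apply p⟩

theorem std24_octads_chk : (std24.all fun m => CfsgLib.Golay.inC m && fpop m == 8) = true ∧
    std24.length = 759 := by decide +kernel

theorem pullback_octads : pullback E24 octads = (sysL 24 std24 : Set (Finset (Fin 24))) := by
  classical
  obtain ⟨hchk, hlen⟩ := std24_octads_chk
  have hfin : (sysL 24 std24).image (fun s => s.image E24) = octads.toFinite.toFinset := by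
    refine Finset.eq_of_subset_of_card_le (fun o ho => ?_) ?_
    · obtain ⟨s, hs, rfl⟩ := Finset.mem_image.1 ho
      obtain ⟨m, hm, rfl⟩ := mem_sysL.1 hs
      have h := List.all_eq_true.1 hchk m hm
      simp only [Bool.and_eq_true, beq_iff_eq] at h
      rw [Set.Finite.mem_toFinset]
      refine ⟨image_E24 m ▸ CfsgLib.Golay.mem_supports.2
        ⟨m, (listOK_spec listOK24).1 m hm, h.1, rfl⟩, ?_⟩
      rw [Finset.card_image_of_injective _ E24.injective, card_dN, ← h.2,
        fpop_eq le_rfl ((listOK_spec listOK24).1 m hm)]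
    · rw [← Set.ncard_eq_toFinset_card _ octads.toFinite, CfsgLib.Golay.ncard_octads,
        Finset.card_image_of_injective _ (Finset.image_injective E24.injective), card_sysL listOK24, hlen]
  ext s
  rw [mem_pullback, ← Set.Finite.mem_toFinset octads.toFinite, ← hfin, Finset.mem_coe,
    (Finset.image_injective E24.injective).mem_finset_image]

/-- every large Witt design is the system of octads -/
theorem exists_octad_label {α : Type*} [Fintype α] [DecidableEq α] (hα : Fintype.card α = 24)
    {B : Set (Finset α)} (hB : IsSteinerSystem 5 8 B) :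
    ∃ φ : α ≃ GolayPt, pullback φ octads = B := by
  obtain ⟨e, he⟩ := lab24 hα hB
  refine ⟨e.symm.trans E24, ?_⟩
  rw [pullback_trans, pullback_octads, ← he, ← pullback_trans, Equiv.symm_trans_self]
  ext s
  simp [mem_pullback]

theorem symmDiff_mem_block {α : Type*} [Fintype α] [DecidableEq α] (hα : Fintype.card α = 24)
    {B : Set (Finset α)} (hB : IsSteinerSystem 5 8 B) {b c : Finset α} (hb : b ∈ B) (hc : c ∈ B)
    (h4 : (b ∩ c).card = 4) : symmDiff b c ∈ B := by
  obtain ⟨φ, rfl⟩ := exists_octad_label hα hB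
  rw [mem_pullback] at hb hc ⊢
  rw [image_symmDiff']
  refine ⟨CfsgLib.Golay.symmDiff_mem_supports hb.1 hc.1, ?_⟩
  have h1 : (b.image φ ∩ c.image φ).card = 4 := by
    rw [← Finset.image_inter _ _ φ.injective, Finset.card_image_of_injective _ φ.injective, h4]
  have e1 := Finset.card_sdiff_add_card_inter (b.image φ) (c.image φ)
  have e2 := Finset.card_sdiff_add_card_inter (c.image φ) (b.image φ)
  rw [Finset.inter_comm] at e2
  have := hb.2
  have := hc.2
  rw [show (symmDiff (b.image φ) (c.image φ)).card = _ from Finset.card_union_of_disjoint disjoint_sdiff_sdiff]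
  omega

theorem aut_five {α : Type*} [Fintype α] [DecidableEq α] (hα : Fintype.card α = 24)
    {B : Set (Finset α)} (hB : IsSteinerSystem 5 8 B) :
    IsM24 (setSystemAut B) ∧ MulAction.IsMultiplyPretransitive (setSystemAut B) α 5 := by
  obtain ⟨φ, rfl⟩ := exists_octad_label hα hB
  have hM : setSystemAut octads = M24 := CfsgLib.Golay.M24_eq_octad_aut.symm
  have e : setSystemAut (pullback φ octads) ≃* M24 :=
    (autEquiv φ octads).trans (MulEquiv.subgroupCongr hM)
  refine ⟨⟨?_, ?_⟩, ?_⟩
  · haveI := CfsgLib.Golay.isSimpleGroup_M24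
    exact e.isSimpleGroup
  · rw [Nat.card_congr e.toEquiv, CfsgLib.Golay.natCard_M24]
  · have h5 : MulAction.IsMultiplyPretransitive (setSystemAut octads) GolayPt 5 := by
      rw [hM]; exact CfsgLib.Golay.five_pretransitive
    refine pretransitive_transfer φ.symm ?_ h5
    rw [← pullback_trans, Equiv.symm_trans_self]
    ext s
    simp [mem_pullback]

/-- the code is the unique one with these parameters -/
theorem code_unique {C : Submodule (ZMod 2) (Fin 24 → ZMod 2)} (hdim : Module.finrank (ZMod 2) C = 12)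
    {φ : Fin 24 ≃ GolayPt}
    (hφ : ∀ w : GolayPt → ZMod 2, (support₂ w) ∈ octads → (fun i => w (φ i)) ∈ C)
    (w : GolayPt → ZMod 2) : w ∈ golayCode ↔ (fun i => w (φ i)) ∈ C := by
  let L : (GolayPt → ZMod 2) ≃ₗ[ZMod 2] (Fin 24 → ZMod 2) := LinearEquiv.funCongrLeft (ZMod 2) (ZMod 2) φ
  have hle : golayCode.map (L : (GolayPt → ZMod 2) →ₗ[ZMod 2] (Fin 24 → ZMod 2)) ≤ C := by
    rw [Submodule.map_le_iff_le_comap]
    intro v hv
    obtain ⟨m, -, hm, rfl⟩ := CfsgLib.Golay.mem_golayCode.1 hv
    simp only [CfsgLib.Golay.inC, beq_iff_eq] at hm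
    rw [← hm]
    have key : ∀ (l : List ℕ), (∀ r ∈ l, CfsgLib.Golay.wd r ∈ C.comap (L : (GolayPt → ZMod 2) →ₗ[ZMod 2] (Fin 24 → ZMod 2))) →
        ∀ i, CfsgLib.Golay.wd (CfsgLib.Golay.comb l i) ∈ C.comap (L : (GolayPt → ZMod 2) →ₗ[ZMod 2] (Fin 24 → ZMod 2)) := by
      intro l
      induction l with
      | nil => intro _ i; simp [CfsgLib.Golay.comb, CfsgLib.Golay.wd_zero]
      | cons r rs ih =>
        intro h i
        simp only [List.mem_cons, forall_eq_or_imp] at h
        rw [CfsgLib.Golay.comb, CfsgLib.Golay.wd_xor]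
        refine add_mem ?_ (ih h.2 _)
        split
        · exact h.1
        · simp [CfsgLib.Golay.wd_zero]
    refine key _ (fun r hr => hφ (CfsgLib.Golay.wd r) ?_) m
    refine ⟨⟨_, CfsgLib.Golay.rows_mem r hr, rfl⟩, ?_⟩
    rw [CfsgLib.Golay.support_wd, CfsgLib.Golay.card_dec_eq_pop, (CfsgLib.Golay.rows_weight r hr).1]
  have heq : golayCode.map (L : (GolayPt → ZMod 2) →ₗ[ZMod 2] (Fin 24 → ZMod 2)) = C :=
    Submodule.eq_of_le_of_finrank_eq hle (by rw [LinearEquiv.finrank_map_eq, CfsgLib.Golay.finrank_golayCode, hdim])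
  rw [← heq]
  rw [show (fun i => w (φ i)) = L w from rfl]
  exact ⟨fun h => Submodule.mem_map_of_mem h, fun h => by
    obtain ⟨v, hv, hvw⟩ := Submodule.mem_map.1 h
    rwa [← L.injective hvw]⟩

end CfsgLib.Steiner
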