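import Cfsg.Agent.Lib.Steiner.SRGSeventySevenClasses

/-!
A strongly regular graph with parameters (77, 16, 0, 4) is unique.
-/

set_option autoImplicit false

namespace CfsgLib.Steiner

open Finset SeventySeven

universe u

theorem srg77_model {V : Type u} [Fintype V] {G : SimpleGraph V} [DecidableRel G.Adj]
    (hG : G.IsSRGWith 77 16 0 4) :
    ∃ φ : V ≃ Fin 77, ∀ x y : V, G.Adj x y ↔ adjR (φ x).val (φ y).val = true := by
  classical
  have hdeg : ∀ x : V, (univ.filter fun y => G.Adj x y).card = 16 := fun x => by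
    rw [← hG.regular x, ← SimpleGraph.card_neighborFinset_eq_degree]
    congr 1
    ext y
    simp
  have hcommon : ∀ x y : V, x ≠ y → ¬ G.Adj x y →
      (univ.filter fun z => G.Adj x z ∧ G.Adj y z).card = 4 := fun x y hne hadj => by
    rw [← hG.of_not_adj hne hadj, ← Fintype.card_subtype]
    exact Fintype.card_congr (Equiv.subtypeEquivRight fun z => (SimpleGraph.mem_commonNeighbors (G := G)).symm)
  have hnotri : ∀ x y z : V, G.Adj x y → G.Adj x z → G.Adj y z → False := fun x y z hxy hxz hyz => by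
    have h := hG.of_adj x y hxy
    rw [Fintype.card_eq_zero_iff] at h
    exact h.false ⟨z, hxz, hyz⟩
  -- the Gram matrix
  let K : V → V → ℤ := fun a b => if a = b then 24 else if G.Adj a b then -9 else 2
  have hKs : ∀ a b, K a b = K b a := fun a b => by simp only [K, eq_comm (a := a), G.adj_comm a b]
  have hKpt : ∀ a b, K a b = 2 - 11 * (if G.Adj a b then 1 else 0) + 22 * (if a = b then 1 else 0) := by
    intro a b
    simp only [K]
    by_cases e : a = b
    · subst e; simp
    · by_cases h : G.Adj a b <;> simp [e, h]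
  have hKK : ∀ a b, ∑ z, K a z * K z b = 88 * K a b := by
    intro a b
    have hc : ((univ.filter fun z => G.Adj a z ∧ G.Adj b z).card : ℤ) =
        4 - 4 * (if G.Adj a b then 1 else 0) + 12 * (if a = b then 1 else 0) := by
      by_cases e : a = b
      · subst e
        simp [hdeg]
      · by_cases h : G.Adj a b
        · rw [card_eq_zero.2 (eq_empty_iff_forall_notMem.2 fun z hz => by
            simp only [mem_filter, mem_univ, true_and] at hz
            exact hnotri a b z h hz.1 hz.2)]
          simp [e, h]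
        · rw [hcommon a b e h]
          simp [e, h]
    have hpt : ∀ z, K a z * K z b = 4 - 22 * (if G.Adj a z then 1 else 0) - 22 * (if G.Adj b z then 1 else 0) +
        121 * (if G.Adj a z ∧ G.Adj b z then 1 else 0) + (if a = z then 22 * K a b else 0) +
        (if b = z then 22 * (K a b - 22 * (if a = b then 1 else 0)) else 0) := by
      intro z
      rw [hKpt a z, hKs z b, hKpt b z]
      by_cases ea : a = z
      · subst ea
        by_cases eb : a = b
        · subst eb
          simp [hKpt a a]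
        · by_cases hab : G.Adj a b <;> simp [hKpt a b, eb, Ne.symm eb, G.adj_comm b a, hab]
      · by_cases eb : b = z
        · subst eb
          by_cases hab : G.Adj a b <;> simp [hKpt a b, ea, hab]
        · simp only [ea, eb, if_false]
          by_cases h1 : G.Adj a z <;> by_cases h2 : G.Adj b z <;> simp [h1, h2]
    rw [sum_congr rfl fun z _ => hpt z]
    simp only [sum_add_distrib, sum_sub_distrib, ← mul_sum, sum_boole, sum_ite_eq, mem_univ, if_true,
      sum_const, card_univ, hG.card, hdeg, hc, nsmul_eq_mul, hKpt a b]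
    push_cast
    ring
  -- seen from a vertex
  obtain ⟨v⟩ : Nonempty V := Fintype.card_pos_iff.1 (by rw [hG.card]; norm_num)
  set N : Finset V := univ.filter fun x => G.Adj v x with hNdef
  set M : Finset V := univ.filter fun x => x ≠ v ∧ ¬ G.Adj v x with hMdef
  have memN : ∀ x, x ∈ N ↔ G.Adj v x := fun x => by simp [hNdef]
  have memM : ∀ x, x ∈ M ↔ x ≠ v ∧ ¬ G.Adj v x := fun x => by simp [hMdef]
  have hNc : N.card = 16 := hdeg v
  have hcases : ∀ z, z = v ∨ z ∈ N ∨ z ∈ M := fun z => by
    rw [memN, memM]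
    tauto
  have hMc : M.card = 60 := by
    have hu : (univ : Finset V) = insert v (N ∪ M) := by
      ext z
      simpa using hcases z
    have h := congrArg card hu
    rw [card_univ, hG.card, card_insert_of_notMem (by simp [memN, memM]),
      card_union_of_disjoint (disjoint_left.2 fun z h h' => ((memM z).1 h').2 ((memN z).1 h)), hNc] at h
    omega
  have hind : ∀ n ∈ N, ∀ n' ∈ N, ¬ G.Adj n n' := fun n hn n' hn' h =>
    hnotri v n n' ((memN n).1 hn) ((memN n').1 hn') h
  set Cn : V → Finset V := fun q => N.filter fun n => G.Adj q n with hCndef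
  have memC : ∀ q n, n ∈ Cn q ↔ n ∈ N ∧ G.Adj q n := fun q n => by simp [hCndef]
  have hC4 : ∀ q ∈ M, (Cn q).card = 4 := fun q hq => by
    rw [← hcommon v q (Ne.symm ((memM q).1 hq).1) ((memM q).1 hq).2]
    congr 1
    ext z
    simp [memC, memN]
  let X : V → V → ℕ := fun q c => (Cn q ∩ Cn c).card
  have hXs : ∀ q c, X q c = X c q := fun q c => by simp only [X, inter_comm]
  let KP : V → V → ℤ := fun c z => 6 * K z c + 4 * K z v + 3 * ∑ n ∈ Cn c, K z n
  let k : V → V → ℤ := fun q c => if q = c then 4 else if G.Adj q c then -2 else 4 - 3 * X q c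
  have hXadj : ∀ q c, G.Adj q c → X q c = 0 := fun q c h => by
    simp only [X, card_eq_zero, eq_empty_iff_forall_notMem, mem_inter, memC]
    exact fun n hn => hnotri q c n h hn.1.2 hn.2.2
  have hKPM : ∀ q ∈ M, ∀ c ∈ M, KP c q = 11 * k q c := by
    intro q hq c hc
    have hs : ∑ n ∈ Cn c, K q n = 2 * 4 - 11 * (X q c : ℤ) := by
      rw [sum_congr rfl fun n hn => show K q n = 2 - 11 * (if n ∈ Cn q then 1 else 0) by
        have hn' := ((memC c n).1 hn).1
        rw [hKpt, if_neg (fun e : q = n => ((memM q).1 hq).2 (e ▸ (memN n).1 hn'))]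
        simp [memC, hn'],
        sum_sub_distrib, sum_const, hC4 c hc, ← mul_sum, sum_boole, filter_mem_eq_inter, inter_comm]
      simp [X]
    simp only [KP, hs, hKs q v]
    rw [show K v q = 2 by
      simp only [K, if_neg (Ne.symm ((memM q).1 hq).1), if_neg ((memM q).1 hq).2]]
    simp only [K, k]
    by_cases e : q = c
    · subst e
      rw [show X q q = 4 by simp [X, hC4 q hq]]
      simp
    · by_cases h : G.Adj q c
      · rw [hXadj q c h]
        simp [e, h]
      · simp only [e, h, if_false]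
        ring
  have hKPv : ∀ c ∈ M, KP c v = 0 := by
    intro c hc
    simp only [KP]
    rw [sum_congr rfl fun n hn => show K v n = -9 by
      have hn' := (memN n).1 ((memC c n).1 hn).1
      simp [K, hn', G.ne_of_adj hn'], sum_const, hC4 c hc]
    simp [K, Ne.symm ((memM c).1 hc).1, ((memM c).1 hc).2]
  have hKPN : ∀ c ∈ M, ∀ n ∈ N, KP c n = 0 := by
    intro c hc n hn
    have hnv := (memN n).1 hn
    simp only [KP]
    rw [sum_congr rfl fun n' hn' => show K n n' = 2 + 22 * (if n = n' then 1 else 0) by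
        rw [hKpt, if_neg (hind n hn n' ((memC c n').1 hn').1)]; ring,
      sum_add_distrib, sum_const, hC4 c hc, ← mul_sum, sum_ite_eq, hKs n v,
      show K v n = -9 by simp [K, hnv, G.ne_of_adj hnv]]
    have hne : n ≠ c := fun e => ((memM c).1 hc).2 (e ▸ hnv)
    by_cases h : G.Adj c n
    · simp [K, hne, h.symm, memC, h, hn]
    · simp [K, hne, h, memC, G.adj_comm n c]
  have hkk : ∀ q ∈ M, ∀ c ∈ M, ∑ z ∈ M, k z q * k z c = 48 * k q c := by
    intro q hq c hc
    have hP : ∀ a, ∑ z, K z a * KP c z = 88 * KP c a := by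
      intro a
      have e : ∀ z, K z a * KP c z = 6 * (K a z * K z c) + 4 * (K a z * K z v) +
          3 * ∑ n ∈ Cn c, K a z * K z n := fun z => by
        simp only [KP, hKs a z, ← mul_sum]
        ring
      rw [sum_congr rfl fun z _ => e z, sum_add_distrib, sum_add_distrib, ← mul_sum, ← mul_sum, ← mul_sum,
        sum_comm, hKK, hKK, sum_congr rfl fun n _ => hKK a n, ← mul_sum]
      simp only [KP]
      ring
    have h1 : ∑ z, KP q z * KP c z = 88 * (6 * KP c q + 4 * KP c v + 3 * ∑ n ∈ Cn q, KP c n) := by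
      have e : ∀ z, KP q z * KP c z = 6 * (K z q * KP c z) + 4 * (K z v * KP c z) +
          3 * ∑ n ∈ Cn q, K z n * KP c z := fun z => by
        rw [← sum_mul]
        simp only [KP]
        ring
      rw [sum_congr rfl fun z _ => e z, sum_add_distrib, sum_add_distrib, ← mul_sum, ← mul_sum, ← mul_sum,
        sum_comm, hP, hP, sum_congr rfl fun n _ => hP n, ← mul_sum]
      ring
    rw [hKPM q hq c hc, hKPv c hc, sum_eq_zero (fun n hn => hKPN c hc n ((memC q n).1 hn).1),
      ← sum_subset (subset_univ M) fun z _ hz => ?_,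
      sum_congr rfl fun z hz => show KP q z * KP c z = 121 * (k z q * k z c) by
        rw [hKPM z hz q hq, hKPM z hz c hc]; ring, ← mul_sum] at h1
    · linarith
    · rcases hcases z with rfl | h | h
      · rw [hKPv q hq, zero_mul]
      · rw [hKPN q hq z h, zero_mul]
      · exact absurd h hz
  have hks : ∀ q c, k q c = k c q := fun q c => by
    simp only [k, eq_comm (a := q), G.adj_comm q c, hXs q c]
  have hkd : ∀ q, k q q = 4 := fun q => if_pos rfl
  have hk_ne : ∀ q c, q ≠ c → ¬ G.Adj q c → k q c = 4 - 3 * X q c := fun q c e h => by simp [k, e, h]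
  have hk_adj : ∀ q c, G.Adj q c → k q c = -2 := fun q c h => by simp [k, G.ne_of_adj h, h]
  have hle2 : ∀ q ∈ M, ∀ c ∈ M, q ≠ c → X q c ≤ 2 := by
    intro q hq c hc hne
    by_cases h : G.Adj q c
    · rw [hXadj q c h]; omega
    · have h0 := sum_nonneg (s := M) fun z _ => sq_nonneg (k z q + k z c)
      rw [sum_congr rfl fun z _ => show (k z q + k z c) ^ 2 = k z q * k z q + k z c * k z c + 2 * (k z q * k z c) by
          ring,
        sum_add_distrib, sum_add_distrib, ← mul_sum, hkk q hq q hq, hkk c hc c hc, hkk q hq c hc, hkd, hkd,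
        hk_ne q c hne h] at h0
      omega
  have hkcase : ∀ q ∈ M, ∀ c ∈ M, q ≠ c → (k q c = 4 ∧ ¬ G.Adj q c ∧ X q c = 0) ∨
      (k q c = 1 ∧ ¬ G.Adj q c ∧ X q c = 1) ∨
      (k q c = -2 ∧ (G.Adj q c ∧ X q c = 0 ∨ ¬ G.Adj q c ∧ X q c = 2)) := by
    intro q hq c hc hne
    by_cases h : G.Adj q c
    · exact Or.inr (Or.inr ⟨hk_adj q c h, Or.inl ⟨h, hXadj q c h⟩⟩)
    · have := hk_ne q c hne h
      have := hle2 q hq c hc hne
      rcases (by omega : X q c = 0 ∨ X q c = 1 ∨ X q c = 2) with e | e | e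
      exacts [Or.inl ⟨by omega, h, e⟩, Or.inr (Or.inl ⟨by omega, h, e⟩),
        Or.inr (Or.inr ⟨by omega, Or.inr ⟨h, e⟩⟩)]
  have hk3 : ∀ q ∈ M, ∀ c ∈ M, k q c = 4 ∨ k q c = 1 ∨ k q c = -2 := fun q hq c hc => by
    by_cases e : q = c
    · exact Or.inl (by rw [e, hkd])
    · rcases hkcase q hq c hc e with h | h | h
      exacts [Or.inl h.1, Or.inr (Or.inl h.1), Or.inr (Or.inr h.1)]
  have hrows : ∀ q ∈ M, ∀ c ∈ M, k q c = 4 → ∀ z ∈ M, k q z = k c z := by
    intro q hq c hc h z hz
    have h0 : ∑ z ∈ M, (k z q - k z c) ^ 2 = 0 := by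
      rw [sum_congr rfl fun z _ => show (k z q - k z c) ^ 2 = k z q * k z q + k z c * k z c - 2 * (k z q * k z c) by
          ring,
        sum_sub_distrib, sum_add_distrib, ← mul_sum, hkk q hq q hq, hkk c hc c hc, hkk q hq c hc, hkd, hkd, h]
      norm_num
    have := (sum_eq_zero_iff_of_nonneg fun z _ => sq_nonneg _).1 h0 z hz
    rw [sq_eq_zero_iff, sub_eq_zero] at this
    rw [hks q z, hks c z, this]
  -- incidences
  have hthru : ∀ n ∈ N, (M.filter fun c => G.Adj n c).card = 15 := by
    intro n hn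
    have h : (univ.filter fun y => G.Adj n y) = insert v (M.filter fun c => G.Adj n c) := by
      ext y
      simp only [mem_filter, mem_univ, true_and, mem_insert]
      constructor
      · intro h
        rcases hcases y with e | e | e
        exacts [Or.inl e, absurd h (hind n hn y e), Or.inr ⟨e, h⟩]
      · rintro (rfl | ⟨-, h⟩)
        exacts [((memN n).1 hn).symm, h]
    have h' := hdeg n
    rw [h, card_insert_of_notMem (by simp [memM])] at h'
    omega
  have hnum : ∀ q ∈ M, (M.filter fun c => k q c = 4).card = 4 := by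
    intro q hq
    have hX : ∑ c ∈ M, (X q c : ℤ) = 60 := by
      have h := sum_card_bipartiteAbove_eq_sum_card_bipartiteBelow (fun (c n : V) => G.Adj c n) (s := M) (t := Cn q)
      rw [sum_congr rfl fun c _ => show (bipartiteAbove (fun (c n : V) => G.Adj c n) (Cn q) c).card = X q c by
          simp only [X]; congr 1; ext n; simp only [bipartiteAbove, mem_filter, mem_inter, memC]; tauto,
        sum_congr rfl fun n hn => show (bipartiteBelow (fun (c n : V) => G.Adj c n) M n).card = 15 by
          rw [← hthru n ((memC q n).1 hn).1]; congr 1; ext c; simp [bipartiteBelow, G.adj_comm],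
        sum_const, hC4 q hq] at h
      exact_mod_cast h
    have hA : (M.filter fun c => G.Adj q c).card = 12 := by
      have h : (univ.filter fun y => G.Adj q y) = Cn q ∪ M.filter fun c => G.Adj q c := by
        ext y
        simp only [mem_filter, mem_univ, true_and, mem_union, memC]
        constructor
        · intro h
          rcases hcases y with e | e | e
          exacts [absurd (e ▸ h.symm) ((memM q).1 hq).2, Or.inl ⟨e, h⟩, Or.inr ⟨e, h⟩]
        · rintro (⟨-, h⟩ | ⟨-, h⟩) <;> exact h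
      have h' := hdeg q
      rw [h, card_union_of_disjoint (disjoint_left.2 fun y h1 h2 =>
        ((memM y).1 (mem_filter.1 h2).1).2 ((memN y).1 ((memC q y).1 h1).1)), hC4 q hq] at h'
      omega
    have hsum : ∑ c ∈ M, k q c = 0 := by
      have hpt : ∀ c ∈ M, k q c = 4 - 3 * (X q c : ℤ) + (if q = c then 12 else 0) -
          6 * (if G.Adj q c then 1 else 0) := by
        intro c hc
        by_cases e : q = c
        · subst e
          rw [hkd, show X q q = 4 by simp [X, hC4 q hq]]
          simp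
        · by_cases h : G.Adj q c
          · rw [hk_adj q c h, hXadj q c h]; simp [e, h]
          · rw [hk_ne q c e h]; simp [e, h]
      rw [sum_congr rfl hpt, sum_sub_distrib, sum_add_distrib, sum_sub_distrib, ← mul_sum, ← mul_sum, hX,
        sum_ite_eq, sum_boole, hA, sum_const, hMc]
      simp [hq]
    have hpt : ∀ c ∈ M, k c q * k c q + k q c - 2 = 18 * (if k q c = 4 then (1 : ℤ) else 0) := fun c hc => by
      rw [hks c q]
      rcases hk3 q hq c hc with h | h | h <;> rw [h] <;> simp
    have h := sum_congr rfl hpt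
    rw [sum_sub_distrib, sum_add_distrib, hkk q hq q hq, hkd, hsum, sum_const, hMc, ← mul_sum, sum_boole,
      nsmul_eq_mul] at h
    push_cast at h
    omega
  -- the base point and the representatives
  obtain ⟨a, ha⟩ : ∃ a, a ∈ N := card_pos.1 (by omega)
  set S : Finset V := M.filter fun c => G.Adj a c with hSdef
  have memS : ∀ c, c ∈ S ↔ c ∈ M ∧ G.Adj a c := fun c => by simp [hSdef]
  have hSc : S.card = 15 := hthru a ha
  have hSX : ∀ c ∈ S, ∀ d ∈ S, 1 ≤ X c d := fun c hc d hd => card_pos.2 ⟨a, mem_inter.2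
    ⟨(memC c a).2 ⟨ha, ((memS c).1 hc).2.symm⟩, (memC d a).2 ⟨ha, ((memS d).1 hd).2.symm⟩⟩⟩
  have hS4 : ∀ c ∈ S, ∀ d ∈ S, k c d = 4 → c = d := fun c hc d hd h => by
    by_contra e
    have := hSX c hc d hd
    rcases hkcase c ((memS c).1 hc).1 d ((memS d).1 hd).1 e with h' | h' | h' <;> omega
  have hrep : ∀ q ∈ M, ∃ r, r ∈ S ∧ k q r = 4 := by
    intro q hq
    have hu : (M.filter fun c => k q c = 4).biUnion Cn = N := by
      refine eq_of_subset_of_card_le (fun n hn => ?_) ?_
      · obtain ⟨c, -, h⟩ := mem_biUnion.1 hn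
        exact ((memC c n).1 h).1
      · rw [card_biUnion, sum_congr rfl fun c hc => hC4 c (mem_filter.1 hc).1, sum_const, hnum q hq, hNc]
        · rfl
        · intro c hc d hd hne
          rw [mem_coe, mem_filter] at hc hd
          rw [Function.onFun, disjoint_iff_inter_eq_empty, ← card_eq_zero]
          have h4 : k c d = 4 := by rw [← hrows q hq c hc.1 hc.2 d hd.1, hd.2]
          rcases hkcase c hc.1 d hd.1 hne with h' | h' | h'
          exacts [h'.2.2, by omega, by omega]
    obtain ⟨c, hc, hm⟩ := mem_biUnion.1 (hu.symm ▸ ha)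
    rw [mem_filter] at hc
    exact ⟨c, (memS c).2 ⟨hc.1, ((memC c a).1 hm).2.symm⟩, hc.2⟩
  choose rp hrpS hrp4 using hrep
  have hrpM : ∀ q hq, rp q hq ∈ M := fun q hq => ((memS _).1 (hrpS q hq)).1
  have hrp_uniq : ∀ q hq r, r ∈ S → k q r = 4 → rp q hq = r := fun q hq r hr h =>
    hS4 _ (hrpS q hq) r hr (by rw [← hrows q hq _ (hrpM q hq) (hrp4 q hq) r ((memS r).1 hr).1, h])
  -- the classes
  obtain ⟨h, hh⟩ := classes_model (S := {c // c ∈ S}) (by rw [Fintype.card_coe, hSc]) (fun c d => k c.1 d.1)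
    (fun c => hkd _) (fun c d e => by
      rcases hk3 c.1 ((memS _).1 c.2).1 d.1 ((memS _).1 d.2).1 with h' | h' | h'
      exacts [absurd (Subtype.ext (hS4 _ c.2 _ d.2 h')) e, Or.inl h', Or.inr h'])
    (fun c d => hks _ _) (fun c d => by
      have hc := ((memS _).1 c.2).1
      have hd := ((memS _).1 d.2).1
      have h1 := hkk c.1 hc d.1 hd
      rw [← sum_attach M fun z => k z c.1 * k z d.1,
        ← sum_fiberwise M.attach (fun z => (⟨rp z.1 z.2, hrpS z.1 z.2⟩ : {c // c ∈ S})) _] at h1
      have h2 : ∑ s : {c // c ∈ S}, 4 * (k c.1 s.1 * k d.1 s.1) = 48 * k c.1 d.1 := ?_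
      · rw [← mul_sum] at h2
        show ∑ s : {c // c ∈ S}, k c.1 s.1 * k d.1 s.1 = 12 * k c.1 d.1
        linarith
      · refine Eq.trans (sum_congr rfl fun s _ => Eq.symm ?_) h1
        have hsM := ((memS _).1 s.2).1
        rw [sum_congr rfl fun z hz => show k z.1 c.1 * k z.1 d.1 = k c.1 s.1 * k d.1 s.1 by
            have e : rp z.1 z.2 = s.1 := congrArg Subtype.val (mem_filter.1 hz).2
            have h4 := e ▸ hrp4 z.1 z.2
            rw [hrows z.1 z.2 s.1 hsM h4 c.1 hc, hrows z.1 z.2 s.1 hsM h4 d.1 hd, hks s.1 c.1, hks s.1 d.1],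
          sum_const, nsmul_eq_mul]
        congr 1
        rw [show M.attach.filter (fun z => (⟨rp z.1 z.2, hrpS z.1 z.2⟩ : {c // c ∈ S}) = s) =
            M.attach.filter (fun z => k s.1 z.1 = 4) from filter_congr fun z _ => by
              simp only [Subtype.ext_iff]
              exact ⟨fun e => e ▸ (hks _ _).trans (hrp4 z.1 z.2),
                fun e => hrp_uniq z.1 z.2 s.1 s.2 ((hks _ _).trans e)⟩,
          ← card_map (Function.Embedding.subtype _)]
        rw [show (M.attach.filter fun z => k s.1 z.1 = 4).map (Function.Embedding.subtype _) =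
          M.filter fun z => k s.1 z = 4 by ext z; simp [and_comm], hnum _ hsM]
        rfl)
  let cl : V → ℕ := fun q => if hq : q ∈ M then (h ⟨rp q hq, hrpS q hq⟩).val else 0
  have hcl_lt : ∀ q, cl q < 15 := fun q => by simp only [cl]; split <;> omega
  have hkcl : ∀ q ∈ M, ∀ c ∈ M, k q c = kR (cl q) (cl c) := by
    intro q hq c hc
    simp only [cl, dif_pos hq, dif_pos hc]
    rw [← hh, hrows q hq _ (hrpM q hq) (hrp4 q hq) c hc, hks (rp q hq) c,
      hrows c hc _ (hrpM c hc) (hrp4 c hc) _ (hrpM q hq), hks]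
  have hclS : ∀ c (hc : c ∈ S), cl c = (h ⟨c, hc⟩).val := fun c hc => by
    simp only [cl, dif_pos ((memS c).1 hc).1]
    congr 2
    exact Subtype.ext (hrp_uniq _ _ c hc (hkd c))
  have hclsurj : ∀ d, d < 15 → ∃ c ∈ S, cl c = d := fun d hd =>
    ⟨(h.symm ⟨d, hd⟩).1, (h.symm ⟨d, hd⟩).2, by rw [hclS _ (h.symm ⟨d, hd⟩).2]; simp⟩
  have hkR : ∀ i j, (kR i j = -2 ↔ i ≠ j ∧ gA i j = true) := fun i j => by
    simp only [kR]
    by_cases e : i = j
    · simp [e]
    · rw [beq_eq_false_iff_ne.2 e]
      cases gA i j <;> simp [e]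
  -- the points
  let T : V → Finset V := fun b => S.filter fun c => G.Adj b c
  have hT : ∀ b ∈ N, b ≠ a → (T b).card = 3 := by
    intro b hb hne
    have e : (univ.filter fun z => G.Adj a z ∧ G.Adj b z) = insert v (T b) := by
      ext y
      simp only [mem_filter, mem_univ, true_and, mem_insert, T, memS]
      constructor
      · rintro ⟨h1, h2⟩
        rcases hcases y with e | e | e
        exacts [Or.inl e, absurd h1 (hind a ha y e), Or.inr ⟨⟨e, h1⟩, h2⟩]
      · rintro (rfl | ⟨⟨-, h1⟩, h2⟩)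
        exacts [⟨((memN a).1 ha).symm, ((memN b).1 hb).symm⟩, ⟨h1, h2⟩]
    have h' := hcommon a b (Ne.symm hne) (hind a ha b hb)
    rw [e, card_insert_of_notMem (by simp [T, memS, memM])] at h'
    omega
  have hpair : ∀ b ∈ N, b ≠ a → ∀ c ∈ T b, ∀ d ∈ T b, c ≠ d → gA (cl c) (cl d) = true := by
    intro b hb hne c hc d hd hcd
    simp only [T, mem_filter] at hc hd
    have hcM := ((memS c).1 hc.1).1
    have hdM := ((memS d).1 hd.1).1
    have hlow : 2 ≤ X c d := by
      refine le_trans (le_of_eq (card_pair hne).symm) (card_le_card fun n hn => ?_)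
      rw [mem_insert, mem_singleton] at hn
      rcases hn with rfl | rfl
      · exact mem_inter.2 ⟨(memC c _).2 ⟨hb, hc.2.symm⟩, (memC d _).2 ⟨hb, hd.2.symm⟩⟩
      · exact mem_inter.2 ⟨(memC c _).2 ⟨ha, ((memS c).1 hc.1).2.symm⟩,
          (memC d _).2 ⟨ha, ((memS d).1 hd.1).2.symm⟩⟩
    have h2 : k c d = -2 := by
      rcases hkcase c hcM d hdM hcd with h' | h' | h'
      exacts [by omega, by omega, h'.1]
    rw [hkcl c hcM d hdM, hkR] at h2
    exact h2.2
  have htri : ∀ b ∈ N, b ≠ a → ∃ t < 15, ∀ c ∈ S, (G.Adj b c ↔ (triM.getD t 0).testBit (cl c) = true) := by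
    intro b hb hne
    obtain ⟨c, d, e, hcd, hce, hde, hTe⟩ := card_eq_three.1 (hT b hb hne)
    have mc : c ∈ T b := by simp [hTe]
    have md : d ∈ T b := by simp [hTe]
    have me : e ∈ T b := by simp [hTe]
    obtain ⟨t, ht⟩ := tri_complete ⟨cl c, hcl_lt c⟩ ⟨cl d, hcl_lt d⟩ ⟨cl e, hcl_lt e⟩
      (hpair b hb hne c mc d md hcd) (hpair b hb hne c mc e me hce) (hpair b hb hne d md e me hde)
    refine ⟨t.val, t.2, fun z hz => ?_⟩
    have hinj : ∀ y ∈ S, cl z = cl y ↔ z = y := fun y hy => by
      rw [hclS z hz, hclS y hy, Fin.val_inj, h.injective.eq_iff, Subtype.mk.injEq]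
    rw [ht ⟨cl z, hcl_lt z⟩]
    simp only [Bool.or_eq_true, beq_iff_eq, Fin.mk.injEq, hinj c (mem_filter.1 mc).1,
      hinj d (mem_filter.1 md).1, hinj e (mem_filter.1 me).1]
    have hm : z ∈ T b ↔ z ∈ ({c, d, e} : Finset V) := by rw [hTe]
    simp only [T, mem_filter, hz, true_and, mem_insert, mem_singleton] at hm
    rw [hm]
    tauto
  choose tr htr_lt htr using htri
  let pt : V → Fin 16 := fun b => if hb : b ∈ N ∧ b ≠ a then ⟨tr b hb.1 hb.2 + 1, by have := htr_lt b hb.1 hb.2; omega⟩ else 0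
  have hpt_inj : ∀ x ∈ N, ∀ y ∈ N, pt x = pt y → x = y := by
    intro x hx y hy e
    by_cases ex : x = a
    · by_cases ey : y = a
      · rw [ex, ey]
      · simp [pt, ex, hy, ey, Fin.ext_iff] at e
    by_cases ey : y = a
    · simp [pt, ey, hx, ex, Fin.ext_iff] at e
    simp only [pt, dif_pos (And.intro hx ex), dif_pos (And.intro hy ey), Fin.mk.injEq, Nat.add_right_cancel_iff] at e
    by_contra hxy
    obtain ⟨c, hc, d, hd, hcd⟩ := one_lt_card.1 (by rw [hT x hx ex]; norm_num : 1 < (T x).card)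
    simp only [T, mem_filter] at hc hd
    have hy' : ∀ z ∈ S, G.Adj x z → G.Adj y z := fun z hz h1 => by
      rw [htr y hy ey z hz, ← e, ← htr x hx ex z hz]
      exact h1
    have hlow : 3 ≤ X c d := by
      refine le_trans (le_of_eq ?_) (card_le_card (s := ({a, x, y} : Finset V)) fun n hn => ?_)
      · rw [card_insert_of_notMem (by simp [Ne.symm ex, Ne.symm ey]), card_pair hxy]
      simp only [mem_insert, mem_singleton] at hn
      rcases hn with rfl | rfl | rfl
      · exact mem_inter.2 ⟨(memC c _).2 ⟨ha, ((memS c).1 hc.1).2.symm⟩,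
          (memC d _).2 ⟨ha, ((memS d).1 hd.1).2.symm⟩⟩
      · exact mem_inter.2 ⟨(memC c _).2 ⟨hx, hc.2.symm⟩, (memC d _).2 ⟨hx, hd.2.symm⟩⟩
      · exact mem_inter.2 ⟨(memC c _).2 ⟨hy, (hy' c hc.1 hc.2).symm⟩, (memC d _).2 ⟨hy, (hy' d hd.1 hd.2).symm⟩⟩
    have := hle2 c ((memS c).1 hc.1).1 d ((memS d).1 hd.1).1 hcd
    omega
  have hinjOn : Set.InjOn pt (N : Set V) := fun x hx y hy e => hpt_inj x hx y hy e
  have hsub : ∀ q, (Cn q : Set V) ⊆ (N : Set V) := fun q => coe_subset.2 (filter_subset _ _)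
  have hmk : ∀ q, ∃ m < 2 ^ 16, dN 16 m = (Cn q).image pt := fun q => exists_mask _
  choose mk hmk_lt hmk using hmk
  have hbit : ∀ q, ∀ n ∈ N, ((mk q).testBit (pt n).val = true ↔ G.Adj q n) := fun q n hn => by
    rw [← mem_dN (n := 16) (i := pt n), hmk, mem_image]
    constructor
    · rintro ⟨y, hy, e⟩
      rw [← hpt_inj y ((memC q y).1 hy).1 n hn e]
      exact ((memC q y).1 hy).2
    · exact fun h => ⟨n, (memC q n).2 ⟨hn, h⟩, rfl⟩
  have hpopX : ∀ q c, fpop (mk q &&& mk c) = X q c := fun q c => by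
    rw [fpop_and (n := 16) (by norm_num) (hmk_lt q), ← card_dN, dN_and, hmk, hmk,
      ← image_inter_of_injOn _ _ (hinjOn.mono (Set.union_subset (hsub q) (hsub c))),
      card_image_of_injOn (hinjOn.mono (by rw [coe_inter]; exact Set.inter_subset_left.trans (hsub q)))]
  have hzero : ∀ q c, (mk q &&& mk c == 0) = true ↔ X q c = 0 := fun q c => by
    rw [beq_iff_eq, ← hpopX]
    constructor
    · intro e; rw [e]; rfl
    · intro e
      rw [fpop_and (n := 16) (by norm_num) (hmk_lt q), ← card_dN, card_eq_zero] at e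
      exact dN_injective (lt_of_le_of_lt Nat.and_le_left (hmk_lt q)) (Nat.two_pow_pos 16)
        (e.trans (by ext; simp [mem_dN]))
  have hptsurj : ∀ i : Fin 16, ∃ n ∈ N, pt n = i := fun i => by
    have : N.image pt = univ := eq_univ_of_card _ (by rw [card_image_of_injOn hinjOn, hNc, Fintype.card_fin])
    have hi : i ∈ N.image pt := by rw [this]; exact mem_univ i
    simpa using hi
  have hfirst : ∀ c ∈ S, mk c = firstM.getD (cl c) 0 := by
    intro c hc
    obtain ⟨hlt, hb0, hbt⟩ := first_spec (cl c) (List.mem_range.2 (hcl_lt c))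
    refine dN_injective (hmk_lt c) hlt ?_
    ext i
    obtain ⟨n, hn, rfl⟩ := hptsurj i
    rw [mem_dN, mem_dN, hbit c n hn]
    by_cases e : n = a
    · subst e
      rw [show (pt n).val = 0 by simp [pt], hb0]
      simp [((memS c).1 hc).2.symm]
    · rw [show (pt n).val = tr n hn e + 1 by simp [pt, hn, e], hbt _ (List.mem_range.2 (htr_lt n hn e)),
        ← htr n hn e c hc, G.adj_comm]
  have hok : ∀ q ∈ M, (cl q, mk q) ∈ blkM := by
    intro q hq
    refine blk_complete _ (List.mem_range.2 (hcl_lt q)) _ (mem_subs _ _ _ (hmk_lt q) ?_) ?_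
    · rw [← card_dN, hmk, card_image_of_injOn (hinjOn.mono (hsub q)), hC4 q hq]
    · by_cases hqS : q ∈ S
      · rw [okC, hfirst q hqS]
        simp
      · simp only [okC, Bool.or_eq_true, List.all_eq_true, List.mem_range]
        refine Or.inr fun d hd => ?_
        obtain ⟨s, hs, rfl⟩ := hclsurj d hd
        have hsM := ((memS s).1 hs).1
        have hne : q ≠ s := fun e => hqS (e ▸ hs)
        have hk' := hkcl q hq s hsM
        rw [← hfirst s hs, hpopX]
        by_cases e : cl s = cl q
        · rw [← e, kR, beq_self_eq_true, cond_true] at hk'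
          rw [beq_iff_eq.2 e, cond_true, beq_iff_eq]
          rcases hkcase q hq s hsM hne with h' | h' | h'
          exacts [h'.2.2, by omega, by omega]
        · rw [kR, beq_eq_false_iff_ne.2 (Ne.symm e), cond_false] at hk'
          rw [beq_eq_false_iff_ne.2 e, cond_false]
          cases hg : gA (cl q) (cl s) <;>
            simp only [hg, cond_true, cond_false, Bool.or_eq_true, beq_iff_eq] at hk' ⊢
          · rcases hkcase q hq s hsM hne with h' | h' | h'
            exacts [by omega, h'.2.2, by omega]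
          · rcases hkcase q hq s hsM hne with h' | h' | ⟨-, h' | h'⟩
            exacts [by omega, by omega, Or.inl h'.2, Or.inr h'.2]
  have hadj : ∀ q ∈ M, ∀ c ∈ M, (G.Adj q c ↔ (gA (cl q) (cl c) && mk q &&& mk c == 0) = true) := by
    intro q hq c hc
    rw [Bool.and_eq_true, hzero]
    constructor
    · intro h'
      have := hk_adj q c h'
      rw [hkcl q hq c hc, hkR] at this
      exact ⟨this.2, hXadj q c h'⟩
    · rintro ⟨hg, hx⟩
      have hne : cl q ≠ cl c := fun e => by
        rw [e, gA_irrefl _ (List.mem_range.2 (hcl_lt c))] at hg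
        simp at hg
      have h2 := (hkR _ _).2 ⟨hne, hg⟩
      rw [← hkcl q hq c hc] at h2
      rcases hkcase q hq c hc (fun e => hne (by rw [e])) with h' | h' | ⟨-, h' | h'⟩
      exacts [by omega, by omega, h'.1, by omega]
  have hinjM : ∀ q ∈ M, ∀ c ∈ M, cl q = cl c → mk q = mk c → q = c := by
    intro q hq c hc e1 e2
    by_contra hne
    have h4 : k q c = 4 := by rw [hkcl q hq c hc, e1, kR, beq_self_eq_true, cond_true]
    have hX4 : X q c = 4 := by
      rw [← hpopX, ← e2, hpopX]
      simp [X, hC4 q hq]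
    rcases hkcase q hq c hc hne with h' | h' | h' <;> omega
  -- the labels
  let Lab : V → ℕ → Prop := fun x i => (x = v ∧ i = 0) ∨ (x ∈ N ∧ i = (pt x).val + 1) ∨
    (x ∈ M ∧ ∃ j < 60, i = 17 + j ∧ blkM.getD j (0, 0) = (cl x, mk x))
  have hex : ∀ x, ∃ i, Lab x i ∧ i < 77 := by
    intro x
    rcases hcases x with e | e | e
    · exact ⟨0, Or.inl ⟨e, rfl⟩, by norm_num⟩
    · exact ⟨_, Or.inr (Or.inl ⟨e, rfl⟩), by omega⟩
    · obtain ⟨j, hj, hj'⟩ := List.mem_iff_getElem.1 (hok x e)
      refine ⟨17 + j, Or.inr (Or.inr ⟨e, j, blk_length ▸ hj, rfl, ?_⟩), by rw [blk_length] at hj; omega⟩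
      rw [List.getD_eq_getElem _ _ hj, hj']
  choose lab hlab hlab_lt using hex
  have hinjL : ∀ x y, lab x = lab y → x = y := by
    intro x y e
    rcases hlab x with ⟨rfl, hi⟩ | ⟨hx, hi⟩ | ⟨hx, j, hj, hi, hx'⟩ <;>
      rcases hlab y with ⟨rfl, hi'⟩ | ⟨hy, hi'⟩ | ⟨hy, j', hj', hi', hy'⟩
    iterate 4 first | rfl | omega
    · exact hpt_inj x hx y hy (Fin.ext (by omega))
    iterate 3 omega
    · obtain rfl : j = j' := by omega
      rw [hx', Prod.mk.injEq] at hy'
      exact hinjM x hx y hy hy'.1 hy'.2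
  let φ : V → Fin 77 := fun x => ⟨lab x, hlab_lt x⟩
  have hφ : Function.Bijective φ := (Fintype.bijective_iff_injective_and_card φ).2
    ⟨fun x y e => hinjL x y (congrArg Fin.val e), by rw [hG.card, Fintype.card_fin]⟩
  refine ⟨Equiv.ofBijective φ hφ, fun x y => ?_⟩
  show G.Adj x y ↔ adjR (lab x) (lab y) = true
  rcases hlab x with ⟨hxv, hi⟩ | ⟨hx, hi⟩ | ⟨hx, j, hj, hi, hx'⟩ <;>
    rcases hlab y with ⟨hyv, hi'⟩ | ⟨hy, hi'⟩ | ⟨hy, j', hj', hi', hy'⟩ <;> simp only [hi, hi'] <;>
    unfold adjR <;> (try rw [hxv]) <;> (try rw [hyv])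
  · simp
  · simp [(memN y).1 hy, show (pt y).val + 1 < 17 by omega]
  · simp [((memM y).1 hy).2]
  · simp [((memN x).1 hx).symm, show (pt x).val + 1 < 17 by omega]
  · simp [hind x hx y hy, show (pt x).val + 1 < 17 by omega, show (pt y).val + 1 < 17 by omega]
  · rw [if_neg (by omega), if_pos (by omega), if_neg (by omega), if_neg (by omega), Nat.add_sub_cancel_left,
      hy', Nat.add_sub_cancel, hbit y x hx, G.adj_comm]
  · simp [mt SimpleGraph.Adj.symm ((memM x).1 hx).2]
  · rw [if_neg (by omega), if_neg (by omega), if_neg (by omega), if_pos (by omega), Nat.add_sub_cancel_left,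
      hx', Nat.add_sub_cancel, hbit x y hy]
  · rw [if_neg (by omega), if_neg (by omega), if_neg (by omega), if_neg (by omega), Nat.add_sub_cancel_left,
      Nat.add_sub_cancel_left, hx', hy']
    exact hadj x hx y hy

theorem srg77_unique {V : Type*} {W : Type*} [Fintype V] [Fintype W] {G : SimpleGraph V} {H : SimpleGraph W}
    [DecidableRel G.Adj] [DecidableRel H.Adj] (hG : G.IsSRGWith 77 16 0 4) (hH : H.IsSRGWith 77 16 0 4) :
    Nonempty (G ≃g H) := by
  obtain ⟨g, hg⟩ := srg77_model hG
  obtain ⟨h, hh⟩ := srg77_model hH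
  refine ⟨⟨g.trans h.symm, fun {a b} => ?_⟩⟩
  simp only [Equiv.trans_apply, hg, hh, Equiv.apply_symm_apply]

end CfsgLib.Steiner
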