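import Mathlib

/-!
Subsets of `Fin n` given by bit masks, exhaustive enumeration of masks under linear rules, and
a backtracking search for exact covers, each with the completeness statement used for the
classification of small Steiner systems.
-/

set_option autoImplicit false

namespace CfsgLib.Steiner

/-- the subset of `Fin n` given by a mask -/
def dN (n m : ℕ) : Finset (Fin n) := Finset.univ.filter fun i => m.testBit i.val = true

theorem mem_dN {n m : ℕ} {i : Fin n} : i ∈ dN n m ↔ m.testBit i.val = true := by simp [dN]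

/-- number of bits below `n` -/
def pop : ℕ → ℕ → ℕ
  | 0, _ => 0
  | n + 1, m => pop n m + bif m.testBit n then 1 else 0

theorem card_dN : ∀ n m, (dN n m).card = pop n m := by
  intro n
  induction n with
  | zero => intro m; simp [dN, pop]
  | succ n ih =>
    intro m
    rw [pop, ← ih m, dN, dN, Finset.card_filter, Finset.card_filter, Fin.sum_univ_castSucc]
    cases h : m.testBit n <;> simp [h]

theorem exists_mask {n : ℕ} (s : Finset (Fin n)) : ∃ m < 2 ^ n, dN n m = s := by
  refine ⟨Nat.ofBits fun i => decide (i ∈ s), Nat.ofBits_lt_two_pow _, ?_⟩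
  ext i
  simp [mem_dN]

theorem dN_injective {n a b : ℕ} (ha : a < 2 ^ n) (hb : b < 2 ^ n) (h : dN n a = dN n b) : a = b := by
  apply Nat.eq_of_testBit_eq
  intro i
  by_cases hi : i < n
  · have := Finset.ext_iff.1 h ⟨i, hi⟩
    simpa [mem_dN] using this
  · rw [Nat.testBit_lt_two_pow (ha.trans_le (Nat.pow_le_pow_right (by norm_num) (by omega))),
      Nat.testBit_lt_two_pow (hb.trans_le (Nat.pow_le_pow_right (by norm_num) (by omega)))]

theorem dN_and (n a b : ℕ) : dN n (a &&& b) = dN n a ∩ dN n b := by
  ext i; simp [mem_dN]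

theorem subset_iff {n t m : ℕ} (ht : t < 2 ^ n) : t &&& m = t ↔ dN n t ⊆ dN n m := by
  rw [← Finset.inter_eq_left, ← dN_and]
  exact ⟨fun h => by rw [h], fun h => dN_injective (lt_of_le_of_lt Nat.and_le_left ht) ht h⟩

/-- the system given by a list of masks -/
def sysL (n : ℕ) (l : List ℕ) : Finset (Finset (Fin n)) := (l.map (dN n)).toFinset

theorem mem_sysL {n : ℕ} {l : List ℕ} {s : Finset (Fin n)} :
    s ∈ sysL n l ↔ ∃ m ∈ l, dN n m = s := by simp [sysL]

/-! ### Enumeration -/

theorem pop_mod (n : ℕ) : ∀ k m, n ≤ k → pop n (m % 2 ^ k) = pop n m := by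
  induction n with
  | zero => intros; rfl
  | succ n ih =>
    intro k m hk
    rw [pop, pop, ih k m (by omega), Nat.testBit_mod_two_pow, decide_eq_true (by omega : n < k),
      Bool.true_and]

theorem pop_le_of_lt : ∀ (n i m : ℕ), i ≤ n → m < 2 ^ i → pop n m = pop i m := by
  intro n
  induction n with
  | zero => intro i m hi _; rw [Nat.le_zero.1 hi]
  | succ n ih =>
    intro i m hi hm
    rcases Nat.lt_or_ge i (n + 1) with h | h
    · rw [pop, ih i m (by omega) hm, Nat.testBit_lt_two_pow
        (hm.trans_le (Nat.pow_le_pow_right (by norm_num) (by omega)))]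
      rfl
    · rw [show i = n + 1 by omega]

theorem pop_xor (n a b : ℕ) : (pop n (a ^^^ b)) % 2 = (pop n a + pop n b) % 2 := by
  induction n with
  | zero => rfl
  | succ n ih =>
    rw [pop, pop, pop, Nat.testBit_xor]
    cases a.testBit n <;> cases b.testBit n <;> simp only [bne, Bool.not_false, Bool.not_true,
      Bool.beq_eq_decide_eq, decide_true, decide_false, cond_true, cond_false, reduceCtorEq] <;> omega

theorem pop_add (a : ℕ) : ∀ b m, pop (a + b) m = pop a m + pop b (m >>> a) := by
  intro b
  induction b with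
  | zero => intro m; rfl
  | succ b ih =>
    intro m
    rw [← Nat.add_assoc, pop, pop, ih, Nat.testBit_shiftRight]
    omega

/-- bit counts of the numbers below 256, four bits each -/
def popTab : ℕ := 95125173855764218123276304889944061997689682402263585766959741291920687686033329201817409157123347502415384089435969498586180241031507595463600295898153685276653211633572815512294064538494957912327413386667662218713394765509704508661031522276467630197481635010039778342554499416459730172574551513689147646224

/-- number of bits of a number below `2 ^ 24` -/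
def fpop (x : ℕ) : ℕ :=
  (popTab >>> (4 * (x % 256)) &&& 15) + (popTab >>> (4 * (x >>> 8 % 256)) &&& 15) +
    (popTab >>> (4 * (x >>> 16 % 256)) &&& 15)

theorem popTab_ok : ∀ x ∈ List.range 256, popTab >>> (4 * x) &&& 15 = pop 8 x := by decide +kernel

theorem pop_eight (m : ℕ) : pop 8 m = popTab >>> (4 * (m % 256)) &&& 15 := by
  rw [popTab_ok _ (List.mem_range.2 (Nat.mod_lt _ (by norm_num))), show (256 : ℕ) = 2 ^ 8 from rfl,
    pop_mod 8 8 m le_rfl]

theorem fpop_eq {n m : ℕ} (hn : n ≤ 24) (hm : m < 2 ^ n) : fpop m = pop n m := by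
  rw [← pop_le_of_lt 24 n m hn hm, show 24 = 8 + 8 + 8 from rfl, pop_add, pop_add, pop_eight,
    pop_eight, pop_eight]
  rfl

theorem fpop_and {n m : ℕ} (hn : n ≤ 24) (hm : m < 2 ^ n) (d : ℕ) : fpop (m &&& d) = pop n (m &&& d) :=
  fpop_eq hn (lt_of_le_of_lt Nat.and_le_left hm)

/-- strictly increasing -/
def incr : List ℕ → Bool
  | [] => true
  | [_] => true
  | a :: b :: l => decide (a < b) && incr (b :: l)

theorem nodup_of_incr : ∀ {l : List ℕ}, incr l = true → l.Nodup := by
  intro l h
  have key : ∀ l : List ℕ, incr l = true → l.Pairwise (· < ·) := by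
    intro l
    induction l with
    | nil => intro _; exact List.Pairwise.nil
    | cons a l ih =>
      intro h
      cases l with
      | nil => exact List.pairwise_singleton _ _
      | cons b l =>
        simp only [incr, Bool.and_eq_true, decide_eq_true_eq] at h
        have hp := ih h.2
        refine List.Pairwise.cons (fun x hx => ?_) hp
        rcases List.mem_cons.1 hx with rfl | hx
        · exact h.1
        · exact h.1.trans ((List.pairwise_cons.1 hp).1 x hx)
  exact (key l h).imp fun hab => Nat.ne_of_lt hab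

/-- all masks are below `2 ^ n` and there is no repetition -/
def listOK (n : ℕ) (l : List ℕ) : Bool :=
  l.all (fun m => decide (m < 2 ^ n)) && (incr l || decide l.Nodup)

theorem listOK_spec {n : ℕ} {l : List ℕ} (h : listOK n l = true) :
    (∀ m ∈ l, m < 2 ^ n) ∧ l.Nodup := by
  simp only [listOK, Bool.and_eq_true, List.all_eq_true, decide_eq_true_eq, Bool.or_eq_true] at h
  exact ⟨h.1, h.2.elim nodup_of_incr id⟩

theorem card_sysL {n : ℕ} {l : List ℕ} (h : listOK n l = true) : (sysL n l).card = l.length := by
  obtain ⟨h1, h2⟩ := listOK_spec h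
  rw [sysL, List.toFinset_card_of_nodup (h2.map_on fun a ha b hb e =>
    dN_injective (h1 a ha) (h1 b hb) e), List.length_map]

/-- symmetric difference of the entries of `l` at the given indices -/
def xorAt (l : List ℕ) : List ℕ → ℕ
  | [] => 0
  | j :: js => l.getD j 0 ^^^ xorAt l js

theorem pop_zero : ∀ n, pop n 0 = 0 := by
  intro n
  induction n with
  | zero => rfl
  | succ n ih => rw [pop, ih, Nat.zero_testBit]; rfl

theorem pop_xorAt {n M c : ℕ} {l : List ℕ} (hpar : ∀ d ∈ l, pop n (M &&& d) % 2 = c % 2) :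
    ∀ js : List ℕ, (∀ j ∈ js, j < l.length) → pop n (M &&& xorAt l js) % 2 = (js.length * c) % 2 := by
  intro js
  induction js with
  | nil => intro _; simp [xorAt, pop_zero]
  | cons j js ih =>
    intro hj
    simp only [List.mem_cons, forall_eq_or_imp] at hj
    rw [xorAt, Nat.and_xor_distrib_left, pop_xor, Nat.add_mod, ih hj.2,
      hpar _ (by rw [List.getD_eq_getElem _ _ hj.1]; exact List.getElem_mem _), List.length_cons,
      ← Nat.add_mod, Nat.succ_mul, Nat.add_comm]

/-- the masks below `2 ^ i` satisfying the linear rules with leading bit below `i` -/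
def enum (l : List ℕ) (c : ℕ) (rules : List (ℕ × List ℕ)) : ℕ → List ℕ
  | 0 => [0]
  | i + 1 =>
    let prev := enum l c rules i
    match rules.find? (fun r => r.1 == i) with
    | some r =>
      let X := xorAt l r.2
      prev.map fun m => if (r.2.length * c + fpop ((m &&& X) % 2 ^ i)) % 2 = 1 then m + 2 ^ i else m
    | none => prev.flatMap fun m => [m, m + 2 ^ i]

/-- the rules are triangular combinations -/
def rulesOK (n : ℕ) (l : List ℕ) (rules : List (ℕ × List ℕ)) : Bool :=
  rules.all fun r => decide (r.1 < n) && r.2.all (fun j => decide (j < l.length)) &&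
    (xorAt l r.2).testBit r.1 && decide (xorAt l r.2 < 2 ^ (r.1 + 1))

theorem mod_two_pow_succ (M i : ℕ) :
    M % 2 ^ (i + 1) = if M.testBit i then M % 2 ^ i + 2 ^ i else M % 2 ^ i := by
  rw [Nat.mod_pow_succ, Nat.testBit_eq_decide_div_mod_eq]
  rcases Nat.mod_two_eq_zero_or_one (M / 2 ^ i) with h | h <;> simp [h]

theorem mem_enum {n M c : ℕ} {l : List ℕ} {rules : List (ℕ × List ℕ)} (h24 : n ≤ 24)
    (hok : rulesOK n l rules = true) (hpar : ∀ d ∈ l, pop n (M &&& d) % 2 = c % 2) :
    ∀ i ≤ n, M % 2 ^ i ∈ enum l c rules i := by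
  intro i
  induction i with
  | zero => intro _; simp [enum, Nat.mod_one]
  | succ i ih =>
    intro hi
    have hprev := ih (by omega)
    rw [enum, mod_two_pow_succ]
    split
    next r hr =>
      have hri := List.find?_some hr
      rw [beq_iff_eq] at hri
      have hrm := List.all_eq_true.1 hok r (List.mem_of_find?_eq_some hr)
      simp only [Bool.and_eq_true, decide_eq_true_eq, List.all_eq_true] at hrm
      obtain ⟨⟨⟨-, hj⟩, hbit⟩, hlt⟩ := hrm
      rw [hri] at hbit hlt
      refine List.mem_map.2 ⟨_, hprev, ?_⟩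
      have h := pop_xorAt hpar r.2 hj
      set X := xorAt l r.2
      rw [pop_le_of_lt n (i + 1) (M &&& X) (by omega) (lt_of_le_of_lt Nat.and_le_right hlt), pop,
        Nat.testBit_and, hbit, Bool.and_true] at h
      have he : pop i (M % 2 ^ i &&& X) = pop i (M &&& X) := by
        rw [← pop_mod i i (M % 2 ^ i &&& X) le_rfl, ← pop_mod i i (M &&& X) le_rfl, Nat.and_mod_two_pow,
          Nat.and_mod_two_pow, Nat.mod_mod]
      rw [fpop_eq (n := i) (by omega) (Nat.mod_lt _ (Nat.two_pow_pos i)), pop_mod i i _ le_rfl, he]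
      cases hb : M.testBit i <;> rw [hb] at h <;> simp only [cond_true, cond_false] at h <;>
        [rw [if_neg (by omega), if_neg (by simp)]; rw [if_pos (by omega), if_pos rfl]]
    next =>
      refine List.mem_flatMap.2 ⟨_, hprev, ?_⟩
      split <;> simp

/-! ### Exact covers -/

/-- all families of pairwise compatible members of `avail` covering the targets -/
def srch (comp : ℕ → ℕ → Bool) : ℕ → List ℕ → List ℕ → List (List ℕ)
  | 0, _, [] => [[]]
  | 0, _, _ :: _ => []
  | _ + 1, _, [] => [[]]
  | fuel + 1, avail, T :: rest =>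
    (avail.filter fun c => T &&& c == T).flatMap fun c =>
      (srch comp fuel (avail.filter (comp c)) (rest.filter fun t => !(t &&& c == t))).map (c :: ·)

theorem srch_complete {comp : ℕ → ℕ → Bool} {S : Finset ℕ}
    (hcomp : ∀ a ∈ S, ∀ b ∈ S, a ≠ b → comp a b = true) :
    ∀ (fuel : ℕ) (avail targets : List ℕ), targets.length ≤ fuel →
      ∀ (S' : Finset ℕ), S' ⊆ S → (∀ s ∈ S', s ∈ avail) → (∀ T ∈ targets, ∃ s ∈ S', T &&& s = T) →
      ∃ sol ∈ srch comp fuel avail targets, ∀ x ∈ sol, x ∈ S' := by
  intro fuel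
  induction fuel with
  | zero =>
    intro avail targets hlen S' _ _ _
    rw [Nat.le_zero, List.length_eq_zero_iff] at hlen
    subst hlen
    exact ⟨[], by simp [srch], by simp⟩
  | succ fuel ih =>
    intro avail targets hlen S' hsub hav hcov
    cases targets with
    | nil => exact ⟨[], by simp [srch], by simp⟩
    | cons T rest =>
      obtain ⟨c, hc, hTc⟩ := hcov T (List.mem_cons_self ..)
      obtain ⟨sol, hsol, hin⟩ := ih (avail.filter (comp c)) (rest.filter fun t => !(t &&& c == t))
        (le_trans (List.length_filter_le _ _) (by simpa using hlen)) (S'.erase c)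
        ((Finset.erase_subset _ _).trans hsub)
        (fun s hs => List.mem_filter.2 ⟨hav s (Finset.mem_of_mem_erase hs),
          hcomp c (hsub hc) s (hsub (Finset.mem_of_mem_erase hs)) (Ne.symm (Finset.ne_of_mem_erase hs))⟩)
        (fun t ht => by
          obtain ⟨htr, htc⟩ := List.mem_filter.1 ht
          simp only [Bool.not_eq_true', beq_eq_false_iff_ne, ne_eq] at htc
          obtain ⟨s, hs, hts⟩ := hcov t (List.mem_cons_of_mem _ htr)
          exact ⟨s, Finset.mem_erase.2 ⟨fun e => htc (e ▸ hts), hs⟩, hts⟩)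
      refine ⟨c :: sol, ?_, ?_⟩
      · rw [srch]
        exact List.mem_flatMap.2 ⟨c, List.mem_filter.2 ⟨hav c hc, beq_iff_eq.2 hTc⟩,
          List.mem_map.2 ⟨sol, hsol, rfl⟩⟩
      · intro x hx
        rcases List.mem_cons.1 hx with rfl | hx
        · exact hc
        · exact Finset.mem_of_mem_erase (hin x hx)

/-! ### Permutations given by lists of images -/

/-- the lists are mutually inverse on `Fin n` -/
def permOK (n : ℕ) (f g : List ℕ) : Bool :=
  (List.range n).all fun i => decide (f.getD i n < n) && decide (g.getD i n < n) &&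
    g.getD (f.getD i n) n == i && f.getD (g.getD i n) n == i

theorem exists_perm {n : ℕ} {f g : List ℕ} (h : permOK n f g = true) :
    ∃ σ : Equiv.Perm (Fin n), ∀ i, (σ i).val = f.getD i.val n := by
  simp only [permOK, List.all_eq_true, List.mem_range, Bool.and_eq_true, decide_eq_true_eq,
    beq_iff_eq] at h
  refine ⟨⟨fun i => ⟨_, (h i i.2).1.1.1⟩, fun i => ⟨_, (h i i.2).1.1.2⟩,
    fun i => Fin.ext (h i i.2).1.2, fun i => Fin.ext (h i i.2).2⟩, fun i => rfl⟩

/-- image of a mask -/
def mapM (f : List ℕ) : ℕ → ℕ → ℕ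
  | 0, _ => 0
  | i + 1, m => if m.testBit i then 2 ^ f.getD i 0 ||| mapM f i m else mapM f i m

theorem testBit_mapM (f : List ℕ) (j : ℕ) : ∀ i m, (mapM f i m).testBit j = true ↔
    ∃ k < i, m.testBit k = true ∧ f.getD k 0 = j := by
  intro i
  induction i with
  | zero => intro m; simp [mapM]
  | succ i ih =>
    intro m
    rw [mapM]
    split
    next h =>
      rw [Nat.testBit_or, Bool.or_eq_true, ih, Nat.testBit_two_pow, decide_eq_true_eq]
      constructor
      · rintro (e | ⟨k, hk, hk2⟩)
        · exact ⟨i, by omega, h, e⟩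
        · exact ⟨k, by omega, hk2⟩
      · rintro ⟨k, hk, hk1, hk2⟩
        rcases Nat.lt_or_ge k i with hki | hki
        · exact Or.inr ⟨k, hki, hk1, hk2⟩
        · obtain rfl : k = i := by omega
          exact Or.inl hk2
    next h =>
      rw [ih]
      constructor
      · rintro ⟨k, hk, hk2⟩; exact ⟨k, by omega, hk2⟩
      · rintro ⟨k, hk, hk1, hk2⟩
        refine ⟨k, ?_, hk1, hk2⟩
        rcases Nat.lt_or_ge k i with hki | hki
        · exact hki
        · obtain rfl : k = i := by omega
          exact absurd hk1 h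

theorem image_dN {n : ℕ} {f : List ℕ} {σ : Equiv.Perm (Fin n)} (hσ : ∀ i, (σ i).val = f.getD i.val n)
    (hlen : f.length = n) (m : ℕ) : (dN n m).image σ = dN n (mapM f n m) := by
  have hget : ∀ k < n, f.getD k 0 = f.getD k n := fun k hk => by
    rw [List.getD_eq_getElem _ _ (by omega), List.getD_eq_getElem _ _ (by omega)]
  ext j
  simp only [Finset.mem_image, mem_dN, testBit_mapM]
  constructor
  · rintro ⟨i, hi, rfl⟩
    exact ⟨i.val, i.2, hi, by rw [hget _ i.2, hσ]⟩
  · rintro ⟨k, hk, hk1, hk2⟩
    exact ⟨⟨k, hk⟩, hk1, Fin.ext (by rw [hσ]; rw [← hget k hk]; exact hk2)⟩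

end CfsgLib.Steiner
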