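import Cfsg.Agent.Lib.Steiner.Graph

/-!
A strongly regular graph with parameters (100, 22, 0, 6) is the point-block graph of a Steiner
system S(3, 6, 22).
-/

set_option autoImplicit false

namespace CfsgLib.Steiner

open Finset Cfsg

universe u

theorem srg100_model {V : Type u} [Fintype V] {G : SimpleGraph V} [DecidableRel G.Adj]
    (hG : G.IsSRGWith 100 22 0 6) :
    ∃ g : Fin 100 ≃ V, ∀ i j : Fin 100, G.Adj (g i) (g j) ↔ pbR i.val j.val = true := by
  classical
  have hdeg : ∀ x : V, (univ.filter fun y => G.Adj x y).card = 22 := fun x => by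
    rw [← hG.regular x, ← SimpleGraph.card_neighborFinset_eq_degree]
    congr 1
    ext y
    simp
  have hcommon : ∀ x y : V, x ≠ y → ¬ G.Adj x y →
      (univ.filter fun z => G.Adj x z ∧ G.Adj y z).card = 6 := fun x y hne hadj => by
    rw [← hG.of_not_adj hne hadj, ← Fintype.card_subtype]
    exact Fintype.card_congr (Equiv.subtypeEquivRight fun z => (SimpleGraph.mem_commonNeighbors (G := G)).symm)
  have hnotri : ∀ x y z : V, G.Adj x y → G.Adj x z → G.Adj y z → False := fun x y z hxy hxz hyz => by
    have h := hG.of_adj x y hxy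
    rw [Fintype.card_eq_zero_iff] at h
    exact h.false ⟨z, hxz, hyz⟩
  obtain ⟨v⟩ : Nonempty V := Fintype.card_pos_iff.1 (by rw [hG.card]; norm_num)
  set P : Finset V := univ.filter fun x => G.Adj v x with hPdef
  set Q : Finset V := univ.filter fun x => x ≠ v ∧ ¬ G.Adj v x with hQdef
  have memP : ∀ x, x ∈ P ↔ G.Adj v x := fun x => by simp [hPdef]
  have memQ : ∀ x, x ∈ Q ↔ x ≠ v ∧ ¬ G.Adj v x := fun x => by simp [hQdef]
  have hPc : P.card = 22 := hdeg v
  have hQc : Q.card = 77 := by
    have h1 := Finset.card_filter_add_card_filter_not (s := (univ : Finset V).erase v) (fun x => G.Adj v x)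
    rw [show ((univ : Finset V).erase v).filter (fun x => G.Adj v x) = P by
        ext x; simp only [hPdef, mem_filter, mem_erase, mem_univ, and_true, true_and]
        exact ⟨fun h => h.2, fun h => ⟨h.ne', h⟩⟩,
      show ((univ : Finset V).erase v).filter (fun x => ¬ G.Adj v x) = Q by ext x; simp [hQdef],
      card_erase_of_mem (mem_univ v), card_univ, hG.card, hPc] at h1
    omega
  set blk : V → Finset V := fun q => P.filter fun p => G.Adj q p with hblk
  have memblk : ∀ q p, p ∈ blk q ↔ G.Adj v p ∧ G.Adj q p := fun q p => by simp [hblk, memP]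
  have hblk6 : ∀ q ∈ Q, (blk q).card = 6 := fun q hq => by
    rw [← hcommon v q (Ne.symm ((memQ q).1 hq).1) ((memQ q).1 hq).2]
    congr 1
    ext z
    simp [memblk]
  have hPind : ∀ p ∈ P, ∀ p' ∈ P, ¬ G.Adj p p' := fun p hp p' hp' h =>
    hnotri v p p' ((memP p).1 hp) ((memP p').1 hp') h
  -- through one point
  have hthru1 : ∀ p ∈ P, (Q.filter fun q => p ∈ blk q).card = 21 := by
    intro p hp
    have h : (univ.filter fun y => G.Adj p y) = insert v (Q.filter fun q => p ∈ blk q) := by
      ext y
      simp only [mem_filter, mem_univ, true_and, mem_insert, memblk, memQ]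
      constructor
      · intro h
        by_cases hy : y = v
        · exact Or.inl hy
        · exact Or.inr ⟨⟨hy, fun h' => hPind p hp y ((memP y).2 h') h⟩, (memP p).1 hp, h.symm⟩
      · rintro (rfl | ⟨-, -, h⟩)
        · exact ((memP p).1 hp).symm
        · exact h.symm
    have h' := hdeg p
    rw [h, card_insert_of_notMem (by simp [memQ])] at h'
    omega
  -- through two points
  have hthru2 : ∀ s : Finset V, s ⊆ P → s.card = 2 → (Q.filter fun q => s ⊆ blk q).card = 5 := by
    intro s hs hs2
    obtain ⟨a, b, hab, rfl⟩ := card_eq_two.1 hs2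
    rw [insert_subset_iff, singleton_subset_iff] at hs
    have h : (univ.filter fun z => G.Adj a z ∧ G.Adj b z) = insert v (Q.filter fun q => {a, b} ⊆ blk q) := by
      ext y
      simp only [mem_filter, mem_univ, true_and, mem_insert, insert_subset_iff, singleton_subset_iff,
        memblk, memQ]
      constructor
      · rintro ⟨ha, hb⟩
        by_cases hy : y = v
        · exact Or.inl hy
        · exact Or.inr ⟨⟨hy, fun h' => hPind a hs.1 y ((memP y).2 h') ha⟩, ⟨(memP a).1 hs.1, ha.symm⟩,
            (memP b).1 hs.2, hb.symm⟩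
      · rintro (rfl | ⟨-, ⟨-, ha⟩, -, hb⟩)
        · exact ⟨((memP a).1 hs.1).symm, ((memP b).1 hs.2).symm⟩
        · exact ⟨ha.symm, hb.symm⟩
    have h' := hcommon a b hab (hPind a hs.1 b hs.2)
    rw [h, card_insert_of_notMem (by simp [memQ])] at h'
    omega
  -- intersections
  have hmeet : ∀ q ∈ Q, ∀ c ∈ Q, c ≠ q →
      (G.Adj q c → (blk q ∩ blk c).card = 0) ∧ (¬ G.Adj q c → (blk q ∩ blk c).card = 2) := by
    intro q hq
    have hzero : ∀ c, G.Adj q c → (blk q ∩ blk c).card = 0 := fun c h => by
      rw [card_eq_zero, eq_empty_iff_forall_notMem]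
      intro p hp
      simp only [mem_inter, memblk] at hp
      exact hnotri q c p h hp.1.2 hp.2.2
    set N := (Q.erase q).filter fun c => G.Adj q c with hN
    set M := (Q.erase q).filter fun c => ¬ G.Adj q c with hM
    have hNc : N.card = 16 := by
      have h : (univ.filter fun y => G.Adj q y) = blk q ∪ N := by
        ext y
        simp only [mem_filter, mem_univ, true_and, mem_union, memblk, hN, mem_erase, memQ]
        constructor
        · intro h
          by_cases hy : G.Adj v y
          · exact Or.inl ⟨hy, h⟩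
          · exact Or.inr ⟨⟨h.ne', fun e => ((memQ q).1 hq).2 (e ▸ h.symm), hy⟩, h⟩
        · rintro (⟨-, h⟩ | ⟨-, h⟩) <;> exact h
      have h' := hdeg q
      rw [h, card_union_of_disjoint, hblk6 q hq] at h'
      · omega
      · rw [disjoint_left]
        intro y hy hy'
        simp only [hN, mem_filter, mem_erase, memQ] at hy'
        exact hy'.1.2.2 ((memblk q y).1 hy).1
    have hMc : M.card = 60 := by
      have h := Finset.card_filter_add_card_filter_not (s := Q.erase q) (fun c => G.Adj q c)
      rw [card_erase_of_mem hq, hQc, ← hN, ← hM, hNc] at h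
      omega
    have hsum : ∀ k L : ℕ, (∀ s : Finset V, s ⊆ blk q → s.card = k → (Q.filter fun c => s ⊆ blk c).card = L + 1) →
        0 < k → ∑ c ∈ M, ((blk q ∩ blk c).card).choose k = (6 : ℕ).choose k * L := by
      intro k L hL hk
      have h1 := sum_card_bipartiteAbove_eq_sum_card_bipartiteBelow
        (fun (c : V) (s : Finset V) => s ⊆ blk c) (s := Q.erase q) (t := (blk q).powersetCard k)
      have e1 : ∀ c ∈ Q.erase q, (bipartiteAbove (fun (c : V) (s : Finset V) => s ⊆ blk c)
          ((blk q).powersetCard k) c).card = ((blk q ∩ blk c).card).choose k := by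
        intro c _
        rw [show bipartiteAbove (fun (c : V) (s : Finset V) => s ⊆ blk c) ((blk q).powersetCard k) c =
          (blk q ∩ blk c).powersetCard k by
            ext s; simp only [bipartiteAbove, mem_filter, mem_powersetCard, subset_inter_iff]; tauto,
          card_powersetCard]
      have e2 : ∀ s ∈ (blk q).powersetCard k, (bipartiteBelow (fun (c : V) (s : Finset V) => s ⊆ blk c)
          (Q.erase q) s).card = L := by
        intro s hs
        rw [mem_powersetCard] at hs
        show ((Q.erase q).filter fun c => s ⊆ blk c).card = L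
        rw [filter_erase, card_erase_of_mem (mem_filter.2 ⟨hq, hs.1⟩), hL s hs.1 hs.2, Nat.add_sub_cancel]
      rw [sum_congr rfl e1, sum_congr rfl e2, sum_const, card_powersetCard, hblk6 q hq, smul_eq_mul,
        ← Finset.sum_filter_add_sum_filter_not _ (fun c => G.Adj q c), ← hN, ← hM] at h1
      rw [sum_eq_zero (s := N) (fun c hc => by
        rw [hzero c (mem_filter.1 hc).2, Nat.choose_eq_zero_of_lt hk]), zero_add] at h1
      exact h1
    have h1 := hsum 1 20 (fun s hs hs1 => by
      obtain ⟨p, rfl⟩ := card_eq_one.1 hs1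
      rw [singleton_subset_iff] at hs
      show _ = 21
      rw [← hthru1 p (mem_filter.1 hs).1]
      congr 1
      ext c
      simp) one_pos
    have h2 := hsum 2 4 (fun s hs hs2 => hthru2 s (hs.trans (filter_subset _ _)) hs2) two_pos
    norm_num [Nat.choose] at h2
    simp only [Nat.choose_one_right] at h1
    have hsq : ∀ x : ℕ, ((x : ℤ) - 2) ^ 2 = 2 * (x.choose 2 : ℤ) - 3 * x + 4 := by
      intro x
      induction x with
      | zero => simp
      | succ x ih => rw [Nat.choose_succ_succ', Nat.choose_one_right]; push_cast at ih ⊢; linarith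
    have hz : ∑ c ∈ M, (((blk q ∩ blk c).card : ℤ) - 2) ^ 2 = 0 := by
      simp only [hsq, sum_add_distrib, sum_sub_distrib, ← mul_sum, ← Nat.cast_sum, sum_const, hMc, h1]
      rw [show ∑ c ∈ M, ((blk q ∩ blk c).card).choose 2 = 60 by simpa [Nat.choose] using h2]
      norm_num
    intro c hc hcq
    refine ⟨hzero c, fun hadj => ?_⟩
    have := (sum_eq_zero_iff_of_nonneg fun x _ => sq_nonneg _).1 hz c
      (mem_filter.2 ⟨mem_erase.2 ⟨hcq, hc⟩, hadj⟩)
    rw [sq_eq_zero_iff, sub_eq_zero] at this
    exact_mod_cast this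
  have hinj : ∀ q ∈ Q, ∀ c ∈ Q, blk q = blk c → q = c := by
    intro q hq c hc h
    by_contra hne
    obtain ⟨h0, h2⟩ := hmeet q hq c hc (Ne.symm hne)
    rw [← h, inter_self, hblk6 q hq] at h0 h2
    by_cases ha : G.Adj q c
    · exact absurd (h0 ha) (by norm_num)
    · exact absurd (h2 ha) (by norm_num)
  -- the design on the neighbours
  let blkP : {q // q ∈ Q} → Finset {p // p ∈ P} := fun q => P.attach.filter fun p => G.Adj q.1 p.1
  have hmap : ∀ q, (blkP q).map (Function.Embedding.subtype _) = blk q.1 := fun q => by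
    ext p
    simp [blkP, hblk, and_comm]
  have hcardP : ∀ q, (blkP q).card = 6 := fun q => by
    rw [← hblk6 q.1 q.2, ← hmap, card_map]
  have hinter : ∀ q c, (blkP q ∩ blkP c).card = (blk q.1 ∩ blk c.1).card := fun q c => by
    rw [← hmap, ← hmap, ← map_inter, card_map]
  have hinjP : Function.Injective blkP := fun q c h =>
    Subtype.ext (hinj q.1 q.2 c.1 c.2 (by rw [← hmap, ← hmap, h]))
  set B : Set (Finset {p // p ∈ P}) := Set.range blkP
  have hthree : ∀ q c : {q // q ∈ Q}, ∀ s : Finset {p // p ∈ P}, s.card = 3 → s ⊆ blkP q → s ⊆ blkP c → q = c := by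
    intro q c s hs hq hc
    by_contra hne
    have h := card_le_card (subset_inter hq hc)
    rw [hinter, hs] at h
    obtain ⟨h0, h2⟩ := hmeet q.1 q.2 c.1 c.2 (fun e => hne (Subtype.ext e.symm))
    by_cases ha : G.Adj q.1 c.1
    · rw [h0 ha] at h; omega
    · rw [h2 ha] at h; omega
  have hB : IsSteinerSystem 3 6 B := by
    refine ⟨by rintro _ ⟨q, rfl⟩; exact hcardP q, fun s hs => ?_⟩
    have hcover : (univ : Finset {q // q ∈ Q}).biUnion (fun q => (blkP q).powersetCard 3) =
        (univ : Finset {p // p ∈ P}).powersetCard 3 := by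
      refine eq_of_subset_of_card_le (fun t ht => ?_) ?_
      · obtain ⟨q, -, ht⟩ := mem_biUnion.1 ht
        exact mem_powersetCard.2 ⟨subset_univ _, (mem_powersetCard.1 ht).2⟩
      · rw [card_biUnion]
        · rw [card_powersetCard, card_univ, Fintype.card_coe, hPc,
            sum_congr rfl fun q _ => show ((blkP q).powersetCard 3).card = 20 by
              rw [card_powersetCard, hcardP]; rfl,
            sum_const, card_univ, Fintype.card_coe, hQc]
          rfl
        · intro q _ c _ hne
          rw [Function.onFun, disjoint_left]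
          intro t htq htc
          rw [mem_powersetCard] at htq htc
          exact hne (hthree q c t htq.2 htq.1 htc.1)
    have hmem : s ∈ (univ : Finset {p // p ∈ P}).powersetCard 3 := mem_powersetCard.2 ⟨subset_univ _, hs⟩
    rw [← hcover, mem_biUnion] at hmem
    obtain ⟨q, -, hq⟩ := hmem
    rw [mem_powersetCard] at hq
    refine ⟨blkP q, ⟨⟨q, rfl⟩, hq.1⟩, ?_⟩
    rintro _ ⟨⟨c, rfl⟩, hc⟩
    rw [hthree c q s hs hc hq.1]
  obtain ⟨f, hf⟩ := exists_model_equiv (by rw [Fintype.card_coe, hPc]) hB
  haveI := Fintype.ofFinite B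
  let τ : {q // q ∈ Q} ≃ B := Equiv.ofBijective (fun q => ⟨blkP q, q, rfl⟩)
    ⟨fun a b h => hinjP (congrArg Subtype.val h), fun ⟨b, q, hq⟩ => ⟨q, Subtype.ext hq⟩⟩
  let h : Option ({p // p ∈ P} ⊕ B) → V := fun o => o.elim v (Sum.elim (fun p => p.1) fun b => (τ.symm b).1)
  have hne : ∀ p : {p // p ∈ P}, p.1 ≠ v := fun p => ((memP _).1 p.2).ne'
  have hneQ : ∀ q : {q // q ∈ Q}, q.1 ≠ v := fun q => ((memQ _).1 q.2).1
  have hPQ : ∀ (p : {p // p ∈ P}) (q : {q // q ∈ Q}), p.1 ≠ q.1 := fun p q e =>
    ((memQ _).1 q.2).2 (e ▸ (memP _).1 p.2)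
  have hbij : Function.Bijective h := by
    refine (Fintype.bijective_iff_injective_and_card h).2 ⟨?_, ?_⟩
    · rintro (_ | p | b) (_ | p' | b') e <;> simp only [h, Option.elim_none, Option.elim_some, Sum.elim_inl, Sum.elim_inr] at e
      · rfl
      · exact absurd e.symm (hne p')
      · exact absurd e.symm (hneQ _)
      · exact absurd e (hne p)
      · rw [Subtype.ext e]
      · exact absurd e (hPQ p _)
      · exact absurd e (hneQ _)
      · exact absurd e.symm (hPQ p' _)
      · rw [τ.symm.injective (Subtype.ext e)]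
    · rw [Fintype.card_option, Fintype.card_sum, Fintype.card_coe, hPc, ← Fintype.card_congr τ,
        Fintype.card_coe, hQc, hG.card]
  refine ⟨f.trans (Equiv.ofBijective h hbij), fun i j => ?_⟩
  rw [← hf]
  show G.Adj (h (f i)) (h (f j)) ↔ _
  have hqc : ∀ q c : {q // q ∈ Q}, G.Adj q.1 c.1 ↔ q ≠ c ∧ Disjoint (blkP q) (blkP c) := by
    intro q c
    constructor
    · intro ha
      have hne' : q ≠ c := fun e => G.ne_of_adj ha (congrArg Subtype.val e)
      refine ⟨hne', ?_⟩
      rw [disjoint_iff_inter_eq_empty, ← card_eq_zero, hinter]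
      exact (hmeet q.1 q.2 c.1 c.2 fun e => hne' (Subtype.ext e.symm)).1 ha
    · rintro ⟨hne', hd⟩
      by_contra ha
      rw [disjoint_iff_inter_eq_empty, ← card_eq_zero, hinter,
        (hmeet q.1 q.2 c.1 c.2 fun e => hne' (Subtype.ext e.symm)).2 ha] at hd
      omega
  have hτ : ∀ b : B, (b : Finset {p // p ∈ P}) = blkP (τ.symm b) := fun b =>
    congrArg Subtype.val (τ.apply_symm_apply b).symm
  rw [pointBlockGraph, SimpleGraph.fromRel_adj]
  rcases f i with _ | p | b <;> rcases f j with _ | p' | b' <;>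
    simp only [h, pointBlockRel, Option.elim_none, Option.elim_some, Sum.elim_inl, Sum.elim_inr, ne_eq,
      reduceCtorEq, Option.some.injEq, Sum.inl.injEq, Sum.inr.injEq, not_false_iff, true_and, or_false,
      false_or, not_true_eq_false, iff_true, iff_false, and_true, and_false, false_and]
  · exact G.irrefl
  · exact (memP _).1 p'.2
  · exact ((memQ _).1 (τ.symm b').2).2
  · exact ((memP _).1 p.2).symm
  · exact hPind _ p.2 _ p'.2
  · rw [hτ b']
    simp [blkP, G.adj_comm]
  · exact fun e => ((memQ _).1 (τ.symm b).2).2 e.symm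
  · rw [hτ b]
    simp [blkP]
  · rw [hqc, hτ b, hτ b', disjoint_comm (a := blkP (τ.symm b')), or_self, ne_eq, τ.symm.injective.eq_iff]

theorem srg100_unique {V : Type*} {W : Type*} [Fintype V] [Fintype W] {G : SimpleGraph V} {H : SimpleGraph W}
    [DecidableRel G.Adj] [DecidableRel H.Adj] (hG : G.IsSRGWith 100 22 0 6) (hH : H.IsSRGWith 100 22 0 6) :
    Nonempty (G ≃g H) := by
  obtain ⟨g, hg⟩ := srg100_model hG
  obtain ⟨h, hh⟩ := srg100_model hH
  refine ⟨⟨g.symm.trans h, fun {a b} => ?_⟩⟩
  obtain ⟨i, rfl⟩ := g.surjective a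
  obtain ⟨j, rfl⟩ := g.surjective b
  simp only [Equiv.trans_apply, Equiv.symm_apply_apply, hg, hh]

end CfsgLib.Steiner
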