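import Cfsg.Agent.Lib.Steiner.SRGSeventySevenData

/-!
A symmetric 15 by 15 matrix with diagonal 4, other entries 1 or -2, and square 12 times itself is
unique up to relabelling.
-/

set_option autoImplicit false

namespace CfsgLib.Steiner.SeventySeven

open Finset

universe u

theorem classes_model {S : Type u} [Fintype S] (hS : Fintype.card S = 15) (κ : S → S → ℤ)
    (hd : ∀ c, κ c c = 4) (ho : ∀ c d, c ≠ d → κ c d = 1 ∨ κ c d = -2) (hs : ∀ c d, κ c d = κ d c)
    (hsq : ∀ c d, ∑ s, κ c s * κ d s = 12 * κ c d) :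
    ∃ h : S ≃ Fin 15, ∀ a b, κ a b = kR (h a).val (h b).val := by
  classical
  have hval : ∀ c d, (c = d ∧ κ c d = 4) ∨ (c ≠ d ∧ κ c d = 1) ∨ (c ≠ d ∧ κ c d = -2) := fun c d => by
    by_cases e : c = d
    · exact Or.inl ⟨e, by rw [e, hd]⟩
    · exact Or.inr ((ho c d e).imp (fun h => ⟨e, h⟩) fun h => ⟨e, h⟩)
  have hne : ∀ c d, κ c d ≠ 4 → c ≠ d := fun c d h e => h (by rw [e, hd])
  -- the sum of a row
  have hsum : ∀ c, ∑ s, κ c s = 15 + 3 - 3 * ((univ.filter fun s => κ c s = -2).card : ℤ) := by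
    intro c
    have hpt : ∀ s, κ c s = 1 + (if c = s then (3 : ℤ) else 0) - 3 * (if κ c s = -2 then 1 else 0) := by
      intro s
      rcases hval c s with ⟨e, h⟩ | ⟨e, h⟩ | ⟨e, h⟩ <;> rw [h] <;> simp [e]
    rw [sum_congr rfl fun s _ => hpt s, sum_sub_distrib, sum_add_distrib, sum_ite_eq, ← mul_sum,
      sum_boole, sum_const, card_univ, hS]
    simp
  have hdeg : ∀ c, (univ.filter fun s => κ c s = -2).card = 6 := by
    intro c
    have hpt : ∀ s, κ c s * κ c s - 5 * κ c s + 4 = 18 * (if κ c s = -2 then (1 : ℤ) else 0) := by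
      intro s
      rcases hval c s with ⟨e, h⟩ | ⟨e, h⟩ | ⟨e, h⟩ <;> rw [h] <;> simp
    have h := (sum_congr rfl fun s (_ : s ∈ univ) => hpt s)
    rw [sum_add_distrib, sum_sub_distrib, hsq, hd, ← mul_sum, ← mul_sum, sum_boole, sum_const,
      card_univ, hS, hsum, nsmul_eq_mul] at h
    push_cast at h
    omega
  have hrow : ∀ c, ∑ s, κ c s = 0 := fun c => by rw [hsum, hdeg]; norm_num
  -- common neighbours
  have hcom : ∀ c d, c ≠ d → 9 * ((univ.filter fun s => κ c s = -2 ∧ κ d s = -2).card : ℤ) =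
      12 * κ c d + 15 - 6 * (κ c d - 1) := by
    intro c d hcd
    have hpt : ∀ s, κ c s * κ d s - κ c s - κ d s + 1 = (if c = s then 3 * (κ c d - 1) else 0) +
        (if d = s then 3 * (κ c d - 1) else 0) + 9 * (if κ c s = -2 ∧ κ d s = -2 then (1 : ℤ) else 0) := by
      intro s
      by_cases ec : c = s
      · subst ec
        rw [if_pos rfl, if_neg (Ne.symm hcd), hd, hs d c, if_neg (by rintro ⟨h, -⟩; norm_num at h)]
        ring
      · by_cases ed : d = s
        · subst ed
          rw [if_neg ec, if_pos rfl, hd, if_neg (by rintro ⟨-, h⟩; norm_num at h)]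
          ring
        · rw [if_neg ec, if_neg ed]
          rcases ho c s ec with h | h <;> rcases ho d s ed with h' | h' <;> rw [h, h'] <;> simp
    have h := (sum_congr rfl fun s (_ : s ∈ univ) => hpt s)
    rw [sum_add_distrib, sum_sub_distrib, sum_sub_distrib, sum_add_distrib, sum_add_distrib, hsq, hrow,
      hrow, sum_ite_eq, sum_ite_eq, ← mul_sum, sum_boole, sum_const, card_univ, hS, nsmul_eq_mul] at h
    simp only [mem_univ, if_true] at h
    push_cast at h
    linarith
  have hone : ∀ c d, κ c d = -2 → ∃ s, (univ.filter fun s => κ c s = -2 ∧ κ d s = -2) = {s} := by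
    intro c d h
    have h' := hcom c d (hne c d (by rw [h]; norm_num))
    rw [h] at h'
    exact card_eq_one.1 (by omega)
  have huniq : ∀ c d, κ c d = -2 → ∀ s t, κ c s = -2 → κ d s = -2 → κ c t = -2 → κ d t = -2 → s = t := by
    intro c d h s t h1 h2 h3 h4
    obtain ⟨z, hz⟩ := hone c d h
    have hs' : s ∈ univ.filter fun s => κ c s = -2 ∧ κ d s = -2 := mem_filter.2 ⟨mem_univ _, h1, h2⟩
    have ht' : t ∈ univ.filter fun s => κ c s = -2 ∧ κ d s = -2 := mem_filter.2 ⟨mem_univ _, h3, h4⟩
    rw [hz, mem_singleton] at hs' ht'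
    rw [hs', ht']
  have hthree : ∀ c d, κ c d = 1 → (univ.filter fun s => κ c s = -2 ∧ κ d s = -2).card = 3 := by
    intro c d h
    have h' := hcom c d (hne c d (by rw [h]; norm_num))
    rw [h] at h'
    omega
  -- the base points
  obtain ⟨C⟩ : Nonempty S := Fintype.card_pos_iff.1 (by omega)
  set NC := univ.filter fun s => κ C s = -2 with hNC
  set DC := univ.filter fun s => κ C s = 1 with hDC
  have hDc : DC.card = 8 := by
    have hu : (univ : Finset S) = insert C (NC ∪ DC) := by
      ext s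
      rcases hval C s with ⟨e, h⟩ | ⟨e, h⟩ | ⟨e, h⟩ <;> simp [hNC, hDC, h, eq_comm (a := s)]
      exact e
    have hdis : Disjoint NC DC := disjoint_left.2 fun s h h' => by
      simp only [hNC, hDC, mem_filter] at h h'
      rw [h.2] at h'
      norm_num at h'
    have h := congrArg card hu
    rw [card_univ, hS, card_insert_of_notMem (by simp [hNC, hDC, hd]), card_union_of_disjoint hdis,
      hdeg C] at h
    omega
  obtain ⟨D0, hD0⟩ : ∃ D0, κ C D0 = 1 := by
    obtain ⟨x, hx⟩ : DC.Nonempty := card_pos.1 (by omega)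
    exact ⟨x, (mem_filter.1 hx).2⟩
  let eA := Fintype.equivFinOfCardEq ((Fintype.card_coe _).trans (hthree C D0 hD0))
  let A : Fin 3 → S := fun i => (eA.symm i).1
  have hA : ∀ i, κ C (A i) = -2 ∧ κ D0 (A i) = -2 := fun i => (mem_filter.1 (eA.symm i).2).2
  have hAinj : Function.Injective A := Subtype.val_injective.comp eA.symm.injective
  choose A' hA' using fun i => hone C (A i) (hA i).1
  have hA'1 : ∀ i, κ C (A' i) = -2 ∧ κ (A i) (A' i) = -2 := fun i => by
    have h : A' i ∈ univ.filter fun s => κ C s = -2 ∧ κ (A i) s = -2 := by rw [hA' i]; exact mem_singleton_self _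
    exact (mem_filter.1 h).2
  have hA'D : ∀ i, κ D0 (A' i) ≠ -2 := fun i h => by
    have := huniq (A i) (A' i) (hA'1 i).2 C D0 (by rw [hs]; exact (hA i).1) (by rw [hs]; exact (hA'1 i).1)
      (by rw [hs]; exact (hA i).2) (by rw [hs]; exact h)
    rw [← this, hd] at hD0
    norm_num at hD0
  let X : Fin 3 → Bool → S := fun i b => bif b then A' i else A i
  have hXC : ∀ i b, κ C (X i b) = -2 := fun i b => by cases b; exacts [(hA i).1, (hA'1 i).1]
  have hXp : ∀ i b, κ (X i b) (X i (!b)) = -2 := fun i b => by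
    cases b
    · exact (hA'1 i).2
    · rw [hs]; exact (hA'1 i).2
  have hXinj : ∀ i b j c, X i b = X j c → i = j ∧ b = c := by
    intro i b j c h
    cases b <;> cases c <;> simp only [X, cond_true, cond_false] at h
    · exact ⟨hAinj h, rfl⟩
    · exact absurd (h ▸ (hA i).2) (hA'D j)
    · exact absurd (h.symm ▸ (hA j).2) (hA'D i)
    · refine ⟨hAinj (huniq C (A' i) (hA'1 i).1 _ _ (hA i).1 (by rw [hs]; exact (hA'1 i).2) (hA j).1 ?_), rfl⟩
      rw [h, hs]
      exact (hA'1 j).2
  have hXsurj : ∀ s, κ C s = -2 → ∃ i b, X i b = s := by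
    intro s hs'
    have h : (univ : Finset (Fin 3 × Bool)).image (fun p => X p.1 p.2) = NC := by
      refine eq_of_subset_of_card_le (fun s hs'' => ?_) ?_
      · obtain ⟨p, -, rfl⟩ := mem_image.1 hs''
        exact mem_filter.2 ⟨mem_univ _, hXC _ _⟩
      · rw [card_image_of_injective _ (fun p q e => Prod.ext (hXinj _ _ _ _ e).1 (hXinj _ _ _ _ e).2),
          card_univ, hNC, hdeg]
        rfl
    have hm : s ∈ NC := mem_filter.2 ⟨mem_univ _, hs'⟩
    rw [← h, mem_image] at hm
    obtain ⟨p, -, hp⟩ := hm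
    exact ⟨p.1, p.2, hp⟩
  have hXX : ∀ i b j c, κ (X i b) (X j c) = bif i == j then (bif b == c then 4 else -2) else 1 := by
    intro i b j c
    by_cases e : i = j
    · subst e
      rw [beq_self_eq_true, cond_true]
      cases b <;> cases c <;> simp only [Bool.beq_eq_decide_eq, decide_true, Bool.false_eq_true, Bool.true_eq_false,
        decide_false, cond_true, cond_false]
      · exact hd _
      · exact hXp i false
      · exact hXp i true
      · exact hd _
    · rw [beq_eq_false_iff_ne.2 e, cond_false]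
      rcases ho _ _ (fun h => e (hXinj i b j c h).1) with h | h
      · exact h
      · exact absurd (hXinj _ _ _ _ (huniq C (X i b) (hXC i b) _ _ (hXC i (!b)) (hXp i b) (hXC j c) h)).1 e
  -- the classes not adjacent to the first
  have hβ : ∀ T, κ C T = 1 → ∀ i, ∃ b, ∀ c, κ (X i c) T = bif c == b then -2 else 1 := by
    intro T hT i
    have hXT : ∀ j c, κ (X j c) T = 1 ∨ κ (X j c) T = -2 := fun j c => ho _ _ fun e => by
      have := hXC j c
      rw [e, hT] at this
      norm_num at this
    have hboth : ∀ j, κ (X j false) T = -2 → κ (X j true) T ≠ -2 := fun j h h' => by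
      have := huniq _ _ (hXp j false) C T (by rw [hs]; exact hXC _ _) (by rw [hs]; exact hXC _ _) h h'
      rw [← this, hd] at hT
      norm_num at hT
    let F := (univ : Finset (Fin 3 × Bool)).filter fun p => κ (X p.1 p.2) T = -2
    have hF : F.card = 3 := by
      refine Eq.trans ?_ (hthree C T hT)
      refine card_bij (fun p _ => X p.1 p.2) (fun p hp => ?_) (fun p _ q _ e => ?_) fun s hs' => ?_
      · exact mem_filter.2 ⟨mem_univ _, hXC _ _, by rw [hs]; exact (mem_filter.1 hp).2⟩
      · exact Prod.ext (hXinj _ _ _ _ e).1 (hXinj _ _ _ _ e).2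
      · obtain ⟨-, h1, h2⟩ := mem_filter.1 hs'
        obtain ⟨j, c, rfl⟩ := hXsurj s h1
        exact ⟨(j, c), mem_filter.2 ⟨mem_univ _, by rw [hs]; exact h2⟩, rfl⟩
    have hinj : Set.InjOn Prod.fst (F : Set (Fin 3 × Bool)) := by
      rintro ⟨j, c⟩ hp ⟨j', c'⟩ hq (rfl : j = j')
      simp only [F, coe_filter, mem_univ, true_and, Set.mem_ofPred_eq] at hp hq
      cases c <;> cases c'
      · rfl
      · exact absurd hq (hboth j hp)
      · exact absurd hp (hboth j hq)
      · rfl
    have himg : F.image Prod.fst = univ :=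
      eq_univ_of_card _ (by rw [card_image_of_injOn hinj, hF, Fintype.card_fin])
    obtain ⟨⟨j, b⟩, hm, (rfl : j = i)⟩ := mem_image.1 (himg.symm ▸ mem_univ i)
    refine ⟨b, fun c => ?_⟩
    by_cases e : c = b
    · rw [e, beq_self_eq_true, cond_true]
      exact (mem_filter.1 hm).2
    · rw [beq_eq_false_iff_ne.2 e, cond_false]
      exact (hXT j c).resolve_right fun h => e (congrArg Prod.snd (hinj
        (mem_coe.2 (mem_filter.2 ⟨mem_univ (j, c), h⟩)) (mem_coe.2 hm) rfl))
  let β : S → Fin 3 → Bool := fun T i => decide (κ (X i true) T = -2)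
  have hβ' : ∀ T, κ C T = 1 → ∀ i c, κ (X i c) T = bif c == β T i then -2 else 1 := by
    intro T hT i c
    obtain ⟨b, hb⟩ := hβ T hT i
    have : β T i = b := by
      simp only [β, hb]
      cases b <;> rfl
    rw [this, hb]
  let σ : S → S → ℤ := fun D T => ∑ i, sgn (β D i) * sgn (β T i)
  let g : S → S → ℤ := fun D T => 4 * κ D T - 1 - 3 * σ D T
  have hgs : ∀ D T, g D T = g T D := fun D T => by
    simp only [g, σ]
    rw [hs D T, sum_congr rfl fun i _ => mul_comm (sgn (β D i)) (sgn (β T i))]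
  have hgd : ∀ D, g D D = 6 := fun D => by
    have h : σ D D = 3 := by
      simp only [σ]
      rw [sum_congr rfl (fun i _ => show sgn (β D i) * sgn (β D i) = 1 by cases β D i <;> rfl)]
      simp
    simp only [g, hd, h]
    norm_num
  let f : S → S → ℤ := fun D T => 4 * κ D T - κ C T + ∑ i, sgn (β D i) * (κ (X i false) T - κ (X i true) T)
  have hfD : ∀ D T, κ C T = 1 → f D T = g D T := fun D T hT => by
    have : ∀ i, κ (X i false) T - κ (X i true) T = -3 * sgn (β T i) := fun i => by
      rw [hβ' T hT, hβ' T hT]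
      cases β T i <;> rfl
    simp only [f, g, σ, this, hT, mul_sum]
    rw [sum_congr rfl fun i _ => show sgn (β D i) * (-3 * sgn (β T i)) = -(3 * (sgn (β D i) * sgn (β T i))) by ring,
      sum_neg_distrib]
    ring
  have hfC : ∀ D, κ C D = 1 → f D C = 0 := fun D hD => by
    simp only [f, hd, hs D C, hD]
    rw [sum_eq_zero fun i _ => by rw [hs _ C, hs _ C, hXC, hXC, sub_self, mul_zero]]
    norm_num
  have hfX : ∀ D, κ C D = 1 → ∀ j b, f D (X j b) = 0 := fun D hD j b => by
    simp only [f, hXC, hXX]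
    rw [sum_eq_single j (fun i _ e => by rw [beq_eq_false_iff_ne.2 e, cond_false, cond_false, sub_self, mul_zero])
      (by simp), beq_self_eq_true, cond_true, cond_true, hs D, hβ' D hD]
    cases b <;> cases β D j <;> rfl
  have hgg : ∀ D D', κ C D = 1 → κ C D' = 1 → ∑ T ∈ DC, g D T * g D' T = 48 * g D D' := by
    intro D D' hD hD'
    have hP : ∀ c, ∑ T, κ c T * f D' T = 12 * f D' c := fun c => by
      have hsw : ∑ T, κ c T * ∑ i, sgn (β D' i) * (κ (X i false) T - κ (X i true) T) =
          12 * ∑ i, sgn (β D' i) * (κ (X i false) c - κ (X i true) c) := by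
        simp only [mul_sum]
        rw [sum_comm]
        refine sum_congr rfl fun i _ => ?_
        rw [sum_congr rfl fun T _ => show κ c T * (sgn (β D' i) * (κ (X i false) T - κ (X i true) T)) =
          sgn (β D' i) * (κ c T * κ (X i false) T) - sgn (β D' i) * (κ c T * κ (X i true) T) by ring,
          sum_sub_distrib, ← mul_sum, ← mul_sum, hsq, hsq, hs c, hs c]
        ring
      calc ∑ T, κ c T * f D' T = ∑ T, (4 * (κ c T * κ D' T) - κ c T * κ C T +
            κ c T * ∑ i, sgn (β D' i) * (κ (X i false) T - κ (X i true) T)) :=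
            sum_congr rfl fun T _ => by simp only [f]; ring
        _ = 12 * f D' c := by
          rw [sum_add_distrib, sum_sub_distrib, ← mul_sum, hsq, hsq, hsw, hs c D', hs c C]
          simp only [f]
          ring
    have hall : ∑ T, f D T * f D' T = 48 * g D D' := by
      calc ∑ T, f D T * f D' T = ∑ T, (4 * (κ D T * f D' T) - κ C T * f D' T +
            ∑ i, sgn (β D i) * (κ (X i false) T * f D' T - κ (X i true) T * f D' T)) :=
            sum_congr rfl fun T _ => by
              rw [show f D T = 4 * κ D T - κ C T +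
                ∑ i, sgn (β D i) * (κ (X i false) T - κ (X i true) T) from rfl, add_mul, sub_mul, sum_mul]
              congr 1
              · ring
              · exact sum_congr rfl fun i _ => by ring
        _ = 48 * g D D' := by
          rw [sum_add_distrib, sum_sub_distrib, ← mul_sum, hP, hP, hfC D' hD', sum_comm,
            sum_eq_zero (fun i _ => by rw [← mul_sum, sum_sub_distrib, hP, hP, hfX D' hD', hfX D' hD']; ring),
            hfD D' D hD, hgs D']
          ring
    rw [← hall, ← sum_subset (subset_univ DC) fun T _ hT => ?_]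
    · exact sum_congr rfl fun T hT => by rw [hfD D T (mem_filter.1 hT).2, hfD D' T (mem_filter.1 hT).2]
    · rcases hval C T with ⟨e, -⟩ | ⟨-, h⟩ | ⟨-, h⟩
      · rw [← e, hfC D hD, zero_mul]
      · exact absurd (mem_filter.2 ⟨mem_univ T, h⟩) hT
      · obtain ⟨j, b, rfl⟩ := hXsurj T h
        rw [hfX D hD, zero_mul]
  have hsix : ∀ D T, κ C D = 1 → κ C T = 1 → g D T = 6 ∨ g D T = -6 := by
    intro D T hD hT
    have hb : ∀ U, κ C U = 1 → g D U * g D U ≤ 36 := fun U hU => by
      have e1 : ∑ R ∈ DC, (g D R + g U R) ^ 2 = 576 + 96 * g D U := by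
        rw [sum_congr rfl fun R _ => show (g D R + g U R) ^ 2 =
            g D R * g D R + g U R * g U R + 2 * (g D R * g U R) by ring,
          sum_add_distrib, sum_add_distrib, ← mul_sum, hgg D D hD hD, hgg U U hU hU, hgg D U hD hU, hgd, hgd]
        ring
      have e2 : ∑ R ∈ DC, (g D R - g U R) ^ 2 = 576 - 96 * g D U := by
        rw [sum_congr rfl fun R _ => show (g D R - g U R) ^ 2 =
            g D R * g D R + g U R * g U R - 2 * (g D R * g U R) by ring,
          sum_sub_distrib, sum_add_distrib, ← mul_sum, hgg D D hD hD, hgg U U hU hU, hgg D U hD hU, hgd, hgd]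
        ring
      have := sum_nonneg (s := DC) fun R _ => sq_nonneg (g D R + g U R)
      have := sum_nonneg (s := DC) fun R _ => sq_nonneg (g D R - g U R)
      nlinarith
    have h := (sum_eq_sum_iff_of_le fun U hU => hb U (mem_filter.1 hU).2).1
      (by rw [hgg D D hD hD, hgd, sum_const, hDc]; rfl) T (mem_filter.2 ⟨mem_univ T, hT⟩)
    exact mul_self_eq_mul_self_iff.1 (h.trans (by norm_num : (36 : ℤ) = 6 * 6))
  have hsign : ∀ D T, κ C D = 1 → κ C T = 1 →
      (g D T = -6 ↔ decide (g D0 D = -6) ≠ decide (g D0 T = -6)) := by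
    intro D T hD hT
    have key : ∀ e : ℤ, g D T = 6 * e → e * e = 1 → g D0 T = e * g D0 D := by
      intro e he he2
      have h0 : ∑ R ∈ DC, (g T R - e * g D R) ^ 2 = 0 := by
        rw [sum_congr rfl fun R _ => show (g T R - e * g D R) ^ 2 =
            g T R * g T R + (e * e) * (g D R * g D R) - 2 * e * (g D R * g T R) by ring,
          sum_sub_distrib, sum_add_distrib, ← mul_sum, ← mul_sum, hgg T T hT hT, hgg D D hD hD, hgg D T hD hT,
          hgd, hgd, he]
        linear_combination (-288 : ℤ) * he2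
      have := (sum_eq_zero_iff_of_nonneg fun R _ => sq_nonneg _).1 h0 D0 (mem_filter.2 ⟨mem_univ _, hD0⟩)
      rw [sq_eq_zero_iff, sub_eq_zero] at this
      rw [hgs D0 T, hgs D0 D, this]
    rcases hsix D T hD hT with h | h
    · rw [h, key 1 (by rw [h]; rfl) rfl, one_mul]
      simp
    · rw [h, key (-1) (by rw [h]; rfl) rfl]
      rcases hsix D0 D hD0 hD with h' | h' <;> rw [h'] <;> simp
  have hσ : ∀ D T, κ C D = 1 → κ C T = 1 → D ≠ T →
      (κ D T = 1 ∧ σ D T = 3 ∧ g D T = -6) ∨ (κ D T = 1 ∧ σ D T = -1 ∧ g D T = 6) ∨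
        (κ D T = -2 ∧ σ D T = -1 ∧ g D T = -6) := by
    intro D T hD hT hne'
    have hb : -3 ≤ σ D T ∧ σ D T ≤ 3 := by
      simp only [σ, Fin.sum_univ_three]
      cases β D 0 <;> cases β D 1 <;> cases β D 2 <;> cases β T 0 <;> cases β T 1 <;> cases β T 2 <;>
        simp [sgn]
    have h := hsix D T hD hT
    have hg : g D T = 4 * κ D T - 1 - 3 * σ D T := rfl
    rcases ho D T hne' with hk | hk <;> rw [hk] at hg <;> omega
  have hβ0 : ∀ i, β D0 i = false := fun i => by
    simp only [β, decide_eq_false_iff_not]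
    rw [hs]
    exact hA'D i
  have hcode : ∀ T, κ C T = 1 → ∃ j, β T = code j := by
    intro T hT
    refine code_cover _ ?_
    have h : σ D0 T = ∑ i, sgn (β T i) := by simp [σ, hβ0, sgn]
    rw [← h]
    by_cases e : D0 = T
    · left
      rw [← e]
      simp [σ, hβ0, sgn]
    · rcases hσ D0 T hD0 hT e with h' | h' | h'
      exacts [Or.inl h'.2.1, Or.inr h'.2.1, Or.inr h'.2.1]
  -- the labels
  let Lab : S → ℕ → Prop := fun a n => (a = C ∧ n = 0) ∨ (∃ i b, a = X i b ∧ n = posX i b) ∨
    (κ C a = 1 ∧ ∃ j, β a = code j ∧ n = posD j (decide (g D0 a = -6)))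
  have hex : ∀ a, ∃ n, Lab a n ∧ n < 15 := by
    intro a
    rcases hval C a with ⟨e, -⟩ | ⟨-, h⟩ | ⟨-, h⟩
    · exact ⟨0, Or.inl ⟨e.symm, rfl⟩, by norm_num⟩
    · obtain ⟨j, hj⟩ := hcode a h
      refine ⟨_, Or.inr (Or.inr ⟨h, j, hj, rfl⟩), ?_⟩
      have := j.2
      cases decide (g D0 a = -6) <;> simp only [posD, cond_true, cond_false] <;> omega
    · obtain ⟨i, b, hib⟩ := hXsurj a h
      refine ⟨_, Or.inr (Or.inl ⟨i, b, hib.symm, rfl⟩), ?_⟩
      have := i.2
      cases b <;> simp only [posX, cond_true, cond_false] <;> omega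
  obtain ⟨t0, tX, tD, tXX, tXD, tDD⟩ := kR_table
  have hkey : ∀ a b n m, Lab a n → Lab b m → κ a b = kR n m := by
    rintro a b n m (⟨rfl, rfl⟩ | ⟨i, c, rfl, rfl⟩ | ⟨ha, j, hj, rfl⟩)
      (⟨rfl, rfl⟩ | ⟨i', c', rfl, rfl⟩ | ⟨hb, k, hk, rfl⟩)
    · rw [hd, t0]
    · rw [hXC, (tX _ _).1]
    · rw [hb, (tD _ _).1]
    · rw [hs, hXC, (tX _ _).2]
    · rw [hXX, tXX]
    · rw [hβ' b hb, hk, (tXD _ _ _ _).1]
    · rw [hs, ha, (tD _ _).2]
    · rw [hs, hβ' a ha, hj, (tXD _ _ _ _).2]
    · have hprod : σ a b = bif j == k then 3 else -1 := by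
        simp only [σ, hj, hk]
        exact code_prod j k
      have hsg := hsign a b ha hb
      rw [tDD]
      by_cases e : a = b
      · subst e
        rw [hd, hgd] at *
        rw [show σ a a = 3 by simp only [σ, hj, Fin.sum_univ_three]; cases code j 0 <;> cases code j 1 <;> cases code j 2 <;> rfl] at hprod
        cases hjk : (j == k) <;> simp [hjk] at hprod ⊢
      · generalize decide (g D0 a = -6) = x at hsg ⊢
        generalize decide (g D0 b = -6) = y at hsg ⊢
        rcases hσ a b ha hb e with ⟨h1, h2, h3⟩ | ⟨h1, h2, h3⟩ | ⟨h1, h2, h3⟩ <;> rw [h3] at hsg <;>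
          rw [h1] <;> rw [h2] at hprod <;>
          cases hjk : (j == k) <;> rw [hjk] at hprod <;> cases x <;> cases y <;>
          first | rfl | exact absurd hprod (by decide) | exact absurd hsg (by decide)
  choose h hh hlt using hex
  let h' : S → Fin 15 := fun a => ⟨h a, hlt a⟩
  have hinj : Function.Injective h' := by
    intro a b e
    by_contra hab
    have h1 := hkey a b _ _ (hh a) (hh b)
    rw [show h a = h b from congrArg Fin.val e, kR, beq_self_eq_true, cond_true] at h1
    rcases ho a b hab with h2 | h2 <;> omega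
  exact ⟨Equiv.ofBijective h' ((Fintype.bijective_iff_injective_and_card h').2 ⟨hinj, by simp [hS]⟩),
    fun a b => hkey a b _ _ (hh a) (hh b)⟩

end CfsgLib.Steiner.SeventySeven
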