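import Cfsg.Agent.Lib.Steiner.Mask

/-!
Data for the model of the strongly regular graph on 77 vertices seen from one vertex: the graph on
the 15 classes of non-neighbours, its triangles, and the 60 blocks with their classes.
-/

set_option autoImplicit false

namespace CfsgLib.Steiner.SeventySeven

/-- neighbourhood masks of the graph on the classes -/
def gM : List ℕ :=
  [126, 24965, 7683, 6545, 26121, 1985, 30753, 21546, 10794, 20788, 10420, 17740, 8908, 5458, 2770]

/-- adjacency of classes -/
def gA (i j : ℕ) : Bool := (gM.getD i 0).testBit j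

/-- the entries of the Gram matrix on the classes -/
def kR (i j : ℕ) : ℤ := bif i == j then 4 else bif gA i j then -2 else 1

/-- the triangles of the graph on the classes -/
def triM : List ℕ :=
  [7, 25, 97, 16514, 8450, 4612, 3076, 4232, 2312, 16912, 9232, 1184, 800, 18496, 12352]

/-- the block of each class through the base point -/
def firstM : List ℕ :=
  [15, 51, 195, 773, 3077, 12297, 49161, 4369, 8737, 9281, 6273, 17025, 33089, 34849, 17425]

/-- classes and masks of all the blocks -/
def blkM : List (ℕ × ℕ) :=
  [(0, 15), (0, 240), (0, 3840), (0, 61440), (1, 51), (1, 204), (1, 21760), (1, 43520), (2, 60),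
    (2, 195), (2, 23040), (2, 42240), (3, 773), (3, 3082), (3, 24736), (3, 36944), (4, 778),
    (4, 3077), (4, 24656), (4, 37024), (5, 1632), (5, 2448), (5, 12297), (5, 49158), (6, 1680),
    (6, 2400), (6, 12294), (6, 49161), (7, 4369), (7, 10376), (7, 17442), (7, 33348), (8, 5192),
    (8, 8737), (8, 16772), (8, 34834), (9, 4648), (9, 9281), (9, 18452), (9, 33154), (10, 6273),
    (10, 8472), (10, 16962), (10, 33828), (11, 6210), (11, 8484), (11, 17025), (11, 33816),
    (12, 4628), (12, 9346), (12, 18472), (12, 33089), (13, 5252), (13, 8722), (13, 16712),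
    (13, 34849), (14, 4386), (14, 10308), (14, 17425), (14, 33416)]

/-- the masks below `2 ^ n` with `k` bits -/
def subs : ℕ → ℕ → List ℕ
  | 0, 0 => [0]
  | 0, _ + 1 => []
  | _ + 1, 0 => [0]
  | n + 1, k + 1 => subs n (k + 1) ++ (subs n k).map (· + 2 ^ n)

theorem mem_subs : ∀ n k m, m < 2 ^ n → pop n m = k → m ∈ subs n k := by
  intro n
  induction n with
  | zero =>
    intro k m hm hk
    obtain rfl : m = 0 := by simpa using hm
    rw [pop] at hk
    subst hk
    simp [subs]
  | succ n ih =>
    intro k m hm hk
    have hs := mod_two_pow_succ m n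
    rw [Nat.mod_eq_of_lt hm] at hs
    have hlt := Nat.mod_lt m (Nat.two_pow_pos n)
    rw [pop, ← pop_mod n n m le_rfl] at hk
    cases hb : m.testBit n <;>
      simp only [hb, cond_true, cond_false, add_zero, if_true, Bool.false_eq_true, if_false] at hk hs
    · cases k with
      | zero =>
        have h := ih 0 _ hlt hk
        cases n <;> simp [subs] at h ⊢ <;> omega
      | succ k => exact List.mem_append_left _ (hs ▸ ih (k + 1) _ hlt (hs.symm ▸ hk))
    · subst hk
      exact List.mem_append_right _ (List.mem_map.2 ⟨_, ih _ _ hlt rfl, hs.symm⟩)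

/-- the rules for a block of class `c` -/
def okC (c m : ℕ) : Bool :=
  m == firstM.getD c 0 || (List.range 15).all fun d =>
    let x := fpop (m &&& firstM.getD d 0)
    bif d == c then x == 0 else bif gA c d then x == 0 || x == 2 else x == 1

theorem blk_complete : ∀ c ∈ List.range 15, ∀ m ∈ subs 16 4, okC c m = true → (c, m) ∈ blkM := by
  decide +kernel

theorem tri_complete : ∀ i j l : Fin 15, gA i j = true → gA i l = true → gA j l = true →
    ∃ t : Fin 15, ∀ m : Fin 15, (triM.getD t 0).testBit m = (m == i || m == j || m == l) := by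
  decide +kernel

theorem first_spec : ∀ c ∈ List.range 15, firstM.getD c 0 < 2 ^ 16 ∧ (firstM.getD c 0).testBit 0 = true ∧
    ∀ t ∈ List.range 15, (firstM.getD c 0).testBit (t + 1) = (triM.getD t 0).testBit c := by
  decide +kernel

theorem gA_irrefl : ∀ i ∈ List.range 15, gA i i = false := by decide +kernel

theorem blk_length : blkM.length = 60 := rfl

/-- the code of a class not adjacent to the first one: which end of each edge it meets -/
def code (j : Fin 4) (i : Fin 3) : Bool := decide (j.val ≠ 0 ∧ i.val + j.val ≠ 3)

/-- sign of a code entry -/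
def sgn (b : Bool) : ℤ := bif b then -1 else 1

theorem code_cover : ∀ β : Fin 3 → Bool, (∑ i, sgn (β i) = 3 ∨ ∑ i, sgn (β i) = -1) →
    ∃ j, β = code j := by decide +kernel

theorem code_prod : ∀ j k : Fin 4,
    ∑ i, sgn (code j i) * sgn (code k i) = bif j == k then 3 else -1 := by decide +kernel

/-- position of an end of an edge at the first class -/
def posX (i : Fin 3) (b : Bool) : ℕ := 1 + 2 * i.val + bif b then 1 else 0

/-- position of a class not adjacent to the first one -/
def posD (j : Fin 4) (d : Bool) : ℕ := 7 + 2 * j.val + bif d then 1 else 0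

theorem kR_table :
    kR 0 0 = 4 ∧ (∀ i b, kR 0 (posX i b) = -2 ∧ kR (posX i b) 0 = -2) ∧
    (∀ j d, kR 0 (posD j d) = 1 ∧ kR (posD j d) 0 = 1) ∧
    (∀ i b i' b', kR (posX i b) (posX i' b') = bif i == i' then (bif b == b' then 4 else -2) else 1) ∧
    (∀ i b j d, kR (posX i b) (posD j d) = (bif b == code j i then -2 else 1) ∧
      kR (posD j d) (posX i b) = bif b == code j i then -2 else 1) ∧
    (∀ j d k e, kR (posD j d) (posD k e) =
      bif j == k then (bif d == e then 4 else 1) else bif d == e then 1 else -2) := by
  decide +kernel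

/-- adjacency in the model: the base vertex 0, the points 1 to 16, the blocks 17 to 76 -/
def adjR (i j : ℕ) : Bool :=
  if i = 0 then decide (1 ≤ j ∧ j < 17)
  else if i < 17 then
    (if j = 0 then true else if j < 17 then false else (blkM.getD (j - 17) (0, 0)).2.testBit (i - 1))
  else if j = 0 then false
  else if j < 17 then (blkM.getD (i - 17) (0, 0)).2.testBit (j - 1)
  else gA (blkM.getD (i - 17) (0, 0)).1 (blkM.getD (j - 17) (0, 0)).1 &&
    (blkM.getD (i - 17) (0, 0)).2 &&& (blkM.getD (j - 17) (0, 0)).2 == 0

end CfsgLib.Steiner.SeventySeven
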