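import Cfsg.Agent.Lib.Steiner.Aut

/-!
Automorphism groups of the small Witt designs.
-/

set_option autoImplicit false

namespace CfsgLib.Steiner

open Cfsg
open scoped Pointwise

open CfsgLib.Golay (dod0 dec idx octList)

/-! ### Exhaustive search for automorphisms fixing some points -/

/-- partial images compatible with the blocks inside the first points -/
def autGrow (n : ℕ) (l : List ℕ) (k : ℕ) : ℕ → List (List ℕ)
  | 0 => [[]]
  | i + 1 =>
    ((autGrow n l k i).flatMap fun f =>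
      ((List.range n).filter fun v => !f.contains v && (decide (k ≤ i) || v == i)).map fun v => f ++ [v]).filter
        fun f => l.all fun m => !decide (m < 2 ^ (i + 1)) || l.contains (mapM f (i + 1) m)

theorem autGrow_mem {n : ℕ} {l : List ℕ} (hok : listOK n l = true) {k : ℕ} {σ : Equiv.Perm (Fin n)}
    (hσ : σ ∈ setSystemAut (sysL n l : Set (Finset (Fin n)))) (hfix : ∀ i : Fin n, i.val < k → σ i = i) :
    ∀ i, (hi : i ≤ n) → List.ofFn (fun j : Fin i => (σ ⟨j, by omega⟩).val) ∈ autGrow n l k i := by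
  intro i
  induction i with
  | zero => intro _; simp [autGrow]
  | succ i ih =>
    intro hi
    set f := List.ofFn fun j : Fin (i + 1) => (σ ⟨j, by omega⟩).val with hf
    have hget : ∀ (j : ℕ) (hj : j < i + 1), f.getD j 0 = (σ ⟨j, by omega⟩).val := fun j hj => by
      rw [List.getD_eq_getElem _ _ (by simp [hf]; omega)]; simp only [hf, List.getElem_ofFn]
    rw [autGrow]
    refine List.mem_filter.2 ⟨List.mem_flatMap.2 ⟨_, ih (by omega), List.mem_map.2
      ⟨(σ ⟨i, by omega⟩).val, List.mem_filter.2 ⟨List.mem_range.2 (σ _).2, ?_⟩, ?_⟩⟩, ?_⟩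
    · simp only [Bool.and_eq_true, Bool.not_eq_true', List.contains_eq_mem, decide_eq_false_iff_not,
        List.mem_ofFn, Bool.or_eq_true, decide_eq_true_eq, beq_iff_eq]
      refine ⟨?_, ?_⟩
      · rintro ⟨j, hj⟩
        have := congrArg Fin.val (σ.injective (Fin.ext hj))
        simp at this
        omega
      · by_cases h : k ≤ i
        · exact Or.inl h
        · exact Or.inr (congrArg Fin.val (hfix ⟨i, by omega⟩ (by simpa using h)))
    · rw [hf, List.ofFn_succ', List.concat_eq_append]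
      rfl
    · simp only [List.all_eq_true, Bool.or_eq_true, Bool.not_eq_true', decide_eq_false_iff_not,
        List.contains_iff_mem]
      intro m hm
      by_cases hlt : m < 2 ^ (i + 1)
      swap
      · exact Or.inl hlt
      refine Or.inr ?_
      have himg := (mem_aut_iff.1 hσ (dN n m)).2 (mem_sysL.2 ⟨m, hm, rfl⟩)
      obtain ⟨m', hm', he⟩ := mem_sysL.1 (Finset.mem_coe.1 himg)
      convert hm' using 1
      apply Nat.eq_of_testBit_eq
      intro j
      rw [Bool.eq_iff_iff, testBit_mapM]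
      constructor
      · rintro ⟨a, ha, hb, rfl⟩
        rw [hget a ha, ← mem_dN (n := n), he]
        exact Finset.mem_image.2 ⟨⟨a, by omega⟩, mem_dN.2 hb, rfl⟩
      · intro hj
        have hjn : j < n := by
          by_contra h
          rw [Nat.testBit_lt_two_pow (((listOK_spec hok).1 m' hm').trans_le
            (Nat.pow_le_pow_right (by norm_num) (by omega)))] at hj
          exact Bool.false_ne_true hj
        have h2 : (⟨j, hjn⟩ : Fin n) ∈ (dN n m).image σ := he ▸ mem_dN.2 hj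
        obtain ⟨a, ha, hae⟩ := Finset.mem_image.1 h2
        have hai : a.val < i + 1 := by
          by_contra h
          rw [mem_dN, Nat.testBit_lt_two_pow (hlt.trans_le
            (Nat.pow_le_pow_right (by norm_num) (by omega)))] at ha
          exact Bool.false_ne_true ha
        refine ⟨a.val, hai, mem_dN.1 ha, ?_⟩
        rw [hget a.val hai, Fin.eta, hae]

theorem aut_fix_trivial {n : ℕ} {l : List ℕ} (hok : listOK n l = true) {k : ℕ}
    (hgrow : autGrow n l k n = [List.range n]) {σ : Equiv.Perm (Fin n)}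
    (hσ : σ ∈ setSystemAut (sysL n l : Set (Finset (Fin n)))) (hfix : ∀ i : Fin n, i.val < k → σ i = i) :
    σ = 1 := by
  have h := autGrow_mem hok hσ hfix n le_rfl
  rw [hgrow, List.mem_singleton] at h
  ext i
  have := congrArg (fun f => f.getD i.val 0) h
  simpa using this

/-! ### The model on 12 points inside the code -/

/-- positions of the points of the model dodecad -/
def P12 : List ℕ := [0, 1, 2, 3, 4, 5, 9, 11, 12, 15, 16, 23]

/-- the points of the model dodecad -/
def ι12 (i : Fin 12) : GolayPt := CfsgLib.Golay.pt (P12.getD i.val 0)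

theorem ι12_spec : (∀ p : GolayPt, p ∈ dec dod0 ↔ ∃ i, ι12 i = p) ∧
    (∀ i j, ι12 i = ι12 j → i = j) ∧ ∀ i : Fin 12, idx (ι12 i) = P12.getD i.val 0 := by
  decide +kernel

theorem image_ι12 (m : ℕ) : (dN 12 m).image ι12 = dec (mapM P12 12 m) := by
  ext p
  rw [Finset.mem_image, CfsgLib.Golay.mem_dec, testBit_mapM]
  constructor
  · rintro ⟨i, hi, rfl⟩
    exact ⟨i.val, i.2, mem_dN.1 hi, (ι12_spec.2.2 i).symm⟩
  · rintro ⟨k, hk, hb, he⟩
    refine ⟨⟨k, hk⟩, mem_dN.2 hb, CfsgLib.Golay.idx_injective ?_⟩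
    rw [ι12_spec.2.2]; exact he

theorem hexads_chk : (std12.all fun m => decide (mapM P12 12 m < 2 ^ 24) &&
      octList.any fun o => o &&& dod0 == mapM P12 12 m) = true ∧
    (octList.all fun o => decide (o < 2 ^ 24) &&
      (fpop (o &&& dod0) != 6 || std12.any fun m => mapM P12 12 m == o &&& dod0)) = true := by
  decide +kernel

theorem mem_sys12_iff {s : Finset (Fin 12)} :
    s ∈ sysL 12 std12 ↔ s.card = 6 ∧ ∃ o ∈ octads, o ∩ dec dod0 = s.image ι12 := by
  obtain ⟨h1, h2⟩ := hexads_chk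
  simp only [List.all_eq_true, Bool.and_eq_true, decide_eq_true_eq, List.any_eq_true, beq_iff_eq,
    Bool.or_eq_true, bne_iff_ne] at h1 h2
  constructor
  · rw [mem_sysL]
    rintro ⟨m, hm, rfl⟩
    obtain ⟨-, o, ho, he⟩ := h1 m hm
    refine ⟨?_, dec o, CfsgLib.Golay.mem_octads.2 ⟨o, ho, rfl⟩, ?_⟩
    · have h6 : std12.all (fun m => fpop m == 6) = true := by decide +kernel
      rw [card_dN, ← fpop_eq (by norm_num) ((listOK_spec listOK12).1 m hm)]
      exact beq_iff_eq.1 (List.all_eq_true.1 h6 m hm)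
    · rw [image_ι12, ← he, CfsgLib.Golay.dec_and]
  · rintro ⟨h6, o, ho, he⟩
    obtain ⟨m', hm', rfl⟩ := CfsgLib.Golay.mem_octads.1 ho
    obtain ⟨hlt, hor⟩ := h2 m' hm'
    rw [← CfsgLib.Golay.dec_and] at he
    have hlt' : m' &&& dod0 < 2 ^ 24 := lt_of_le_of_lt Nat.and_le_left hlt
    have hcard : fpop (m' &&& dod0) = 6 := by
      rw [fpop_eq le_rfl hlt', ← card_dN, ← Finset.card_image_of_injective _ E24.injective, image_E24,
        he, Finset.card_image_of_injective _ fun i j => ι12_spec.2.1 i j, h6]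
    obtain ⟨m, hm, hme⟩ := hor.resolve_left (by simpa using hcard)
    refine mem_sysL.2 ⟨m, hm, ?_⟩
    apply Finset.image_injective (f := ι12) fun i j => ι12_spec.2.1 i j
    show (dN 12 m).image ι12 = s.image ι12
    rw [image_ι12, hme, he]

/-- the system on 12 points is a Steiner system -/
def steinerOK (n t k : ℕ) (l : List ℕ) : Bool :=
  l.all (fun m => pop n m == k) &&
    (List.range (2 ^ n)).all fun x => pop n x != t || (l.filter fun m => x &&& m == x).length == 1

theorem steiner_of_ok {n t k : ℕ} {l : List ℕ} (hok : listOK n l = true) (h : steinerOK n t k l = true) :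
    IsSteinerSystem t k (sysL n l : Set (Finset (Fin n))) := by
  simp only [steinerOK, Bool.and_eq_true, List.all_eq_true, beq_iff_eq, List.mem_range, Bool.or_eq_true,
    bne_iff_ne] at h
  refine ⟨fun b hb => ?_, fun s hs => ?_⟩
  · obtain ⟨m, hm, rfl⟩ := mem_sysL.1 (Finset.mem_coe.1 hb)
    rw [card_dN, h.1 m hm]
  · obtain ⟨x, hx, rfl⟩ := exists_mask s
    obtain ⟨m, hm⟩ := List.length_eq_one_iff.1 ((h.2 x hx).resolve_left (by simp [← card_dN, hs]))
    have hmem : m ∈ l ∧ x &&& m = x := by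
      have : m ∈ l.filter fun m => x &&& m == x := by rw [hm]; exact List.mem_singleton_self m
      simpa using this
    refine ⟨dN n m, ⟨mem_sysL.2 ⟨m, hmem.1, rfl⟩, (subset_iff hx).1 hmem.2⟩, ?_⟩
    rintro b ⟨hb, hsub⟩
    obtain ⟨m', hm', rfl⟩ := mem_sysL.1 (Finset.mem_coe.1 hb)
    have : m' ∈ l.filter fun m => x &&& m == x :=
      List.mem_filter.2 ⟨hm', beq_iff_eq.2 ((subset_iff hx).2 hsub)⟩
    rw [hm, List.mem_singleton] at this
    rw [this]

theorem steiner12 : IsSteinerSystem 5 6 (sysL 12 std12 : Set (Finset (Fin 12))) :=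
  steiner_of_ok listOK12 (by decide +kernel)

/-- labelling of the model dodecad -/
noncomputable def e12 : Fin 12 ≃ {p : GolayPt // p ∈ dec dod0} :=
  Equiv.ofBijective (fun i => ⟨ι12 i, (ι12_spec.1 _).2 ⟨i, rfl⟩⟩)
    ⟨fun i j h => ι12_spec.2.1 i j (congrArg Subtype.val h),
      fun ⟨p, hp⟩ => by obtain ⟨i, rfl⟩ := (ι12_spec.1 p).1 hp; exact ⟨i, rfl⟩⟩

theorem mem_dod_iff {g : M24} (hg : g ∈ MulAction.stabilizer M24 (dec dod0)) (p : GolayPt) :
    (g : Equiv.Perm GolayPt) p ∈ dec dod0 ↔ p ∈ dec dod0 := by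
  rw [CfsgLib.Golay.mem_stab_set] at hg
  conv_lhs => rw [← hg]
  exact Finset.smul_mem_smul_finset_iff (g : Equiv.Perm GolayPt)

/-- restriction to the model dodecad -/
noncomputable def ρ12 : MulAction.stabilizer M24 (dec dod0) →* Equiv.Perm (Fin 12) where
  toFun g := e12.symm.permCongr ((g.1 : Equiv.Perm GolayPt).subtypePerm fun p => mem_dod_iff g.2 p)
  map_one' := by ext i; simp [Equiv.permCongr_apply]
  map_mul' g h := by ext i; simp [Equiv.permCongr_apply]

theorem ι12_ρ12 (g : MulAction.stabilizer M24 (dec dod0)) (i : Fin 12) :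
    ι12 (ρ12 g i) = (g.1 : Equiv.Perm GolayPt) (ι12 i) := by
  show ((e12 (e12.symm _) : {p : GolayPt // p ∈ dec dod0}) : GolayPt) = _
  rw [Equiv.apply_symm_apply]
  rfl

theorem ρ12_mem (g : MulAction.stabilizer M24 (dec dod0)) :
    ρ12 g ∈ setSystemAut (sysL 12 std12 : Set (Finset (Fin 12))) := by
  rw [mem_aut_iff]
  intro s
  simp only [Finset.mem_coe, mem_sys12_iff, Finset.card_image_of_injective _ (ρ12 g).injective]
  have hg' : (g.1 : Equiv.Perm GolayPt) ∈ setSystemAut octads := by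
    rw [← CfsgLib.Golay.M24_eq_octad_aut]; exact g.1.2
  have hoct : ∀ o, (g.1 : Equiv.Perm GolayPt) • o ∈ octads ↔ o ∈ octads :=
    MulAction.mem_stabilizer_set.1 hg'
  have hint : ∀ o : Finset GolayPt, ((g.1 : Equiv.Perm GolayPt) • o) ∩ dec dod0 =
      (g.1 : Equiv.Perm GolayPt) • (o ∩ dec dod0) := fun o => by
    rw [Finset.smul_finset_inter, CfsgLib.Golay.mem_stab_set.1 g.2]
  have himg : (s.image (ρ12 g)).image ι12 = (g.1 : Equiv.Perm GolayPt) • s.image ι12 := by
    rw [Finset.image_image, smul_eq_image, Finset.image_image]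
    congr 1
    funext i
    exact ι12_ρ12 g i
  refine and_congr Iff.rfl ⟨fun ⟨o, ho, he⟩ => ?_, fun ⟨o, ho, he⟩ => ?_⟩
  · refine ⟨(g.1 : Equiv.Perm GolayPt)⁻¹ • o, (hoct _).1 (by rwa [smul_inv_smul]), ?_⟩
    apply MulAction.injective (g.1 : Equiv.Perm GolayPt)
    show (g.1 : Equiv.Perm GolayPt) • _ = (g.1 : Equiv.Perm GolayPt) • _
    rw [← hint, smul_inv_smul, he, himg]
  · exact ⟨(g.1 : Equiv.Perm GolayPt) • o, (hoct o).2 ho, by rw [hint, he, himg]⟩

/-- restriction into the automorphism group of the model -/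
noncomputable def r12 : MulAction.stabilizer M24 (dec dod0) →*
    setSystemAut (sysL 12 std12 : Set (Finset (Fin 12))) := ρ12.codRestrict _ ρ12_mem

theorem r12_injective : Function.Injective r12 := by
  rw [← MonoidHom.ker_eq_bot_iff, Subgroup.eq_bot_iff_forall]
  intro g hg
  have h1 : ρ12 g = 1 := congrArg Subtype.val (MonoidHom.mem_ker.1 hg)
  have h2 : ∀ p ∈ dec dod0, (g.1 : Equiv.Perm GolayPt) p = p := by
    intro p hp
    obtain ⟨i, rfl⟩ := (ι12_spec.1 p).1 hp
    rw [← ι12_ρ12, h1, Equiv.Perm.one_apply]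
  have h3 : (g.1 : Equiv.Perm GolayPt) = 1 :=
    CfsgLib.Golay.H12_faithful (F := 0) (by
      rw [CfsgLib.Golay.fixH_zero]
      exact Subgroup.mem_inf.2 ⟨g.1.2, CfsgLib.Golay.mem_stab_set.1 g.2⟩) (by decide +kernel) h2
  exact Subtype.ext (Subtype.ext h3)

theorem fix5_trivial (σ : setSystemAut (sysL 12 std12 : Set (Finset (Fin 12))))
    (h : ∀ i : Fin 12, i.val < 5 → (σ : Equiv.Perm (Fin 12)) i = i) : σ = 1 :=
  Subtype.ext (aut_fix_trivial listOK12 (by decide +kernel) σ.2 h)

/-- the first five points -/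
def x5 : Fin 5 ↪ Fin 12 := Fin.castLEEmb (by norm_num)

theorem smul_x5_injective :
    Function.Injective fun σ : setSystemAut (sysL 12 std12 : Set (Finset (Fin 12))) => σ • x5 := by
  intro σ τ h
  have h' : ∀ i : Fin 5, (σ : Equiv.Perm (Fin 12)) (x5 i) = (τ : Equiv.Perm (Fin 12)) (x5 i) :=
    fun i => DFunLike.congr_fun h i
  refine (inv_mul_eq_one.1 (fix5_trivial (τ⁻¹ * σ) fun i hi => ?_)).symm
  have := h' ⟨i, hi⟩
  show (τ : Equiv.Perm (Fin 12))⁻¹ ((σ : Equiv.Perm (Fin 12)) i) = i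
  rw [Equiv.Perm.inv_eq_iff_eq]
  exact this

theorem natCard_emb512 : Nat.card (Fin 5 ↪ Fin 12) = 95040 := by
  rw [Nat.card_eq_fintype_card, Fintype.card_embedding_eq]
  rfl

theorem natCard_aut12 : Nat.card (setSystemAut (sysL 12 std12 : Set (Finset (Fin 12)))) = 95040 := by
  have h1 := Nat.card_le_card_of_injective _ smul_x5_injective
  have h2 := Nat.card_le_card_of_injective _ r12_injective
  rw [natCard_emb512] at h1
  rw [CfsgLib.Golay.natCard_stab_dod0] at h2
  omega

theorem r12_bijective : Function.Bijective r12 :=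
  (Nat.bijective_iff_injective_and_card r12).2
    ⟨r12_injective, by rw [natCard_aut12, CfsgLib.Golay.natCard_stab_dod0]⟩

theorem five12 : MulAction.IsMultiplyPretransitive (setSystemAut (sysL 12 std12 : Set (Finset (Fin 12)))) (Fin 12) 5 ∧
    ∀ x : Fin 5 ↪ Fin 12, MulAction.stabilizer (setSystemAut (sysL 12 std12 : Set (Finset (Fin 12)))) x = ⊥ := by
  have hb : Function.Bijective fun σ : setSystemAut (sysL 12 std12 : Set (Finset (Fin 12))) => σ • x5 :=
    (Nat.bijective_iff_injective_and_card _).2 ⟨smul_x5_injective, by rw [natCard_aut12, natCard_emb512]⟩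
  refine ⟨(MulAction.isMultiplyPretransitive_iff).2 fun {x y} => ?_, fun x => ?_⟩
  · obtain ⟨a, rfl⟩ := hb.2 x
    obtain ⟨b, rfl⟩ := hb.2 y
    exact ⟨b * a⁻¹, (mul_smul (b * a⁻¹) a x5).symm.trans (by rw [inv_mul_cancel_right]; rfl)⟩
  · obtain ⟨a, rfl⟩ := hb.2 x
    rw [Subgroup.eq_bot_iff_forall]
    intro σ hσ
    rw [MulAction.mem_stabilizer_iff] at hσ
    dsimp only at hσ
    exact mul_eq_right.1 (hb.1 ((mul_smul σ a x5).trans hσ))

/-! ### Eleven points -/

theorem derived11 : Derived 11 std11 std12 := derived_of_ok (by decide +kernel)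

theorem ext_unique12 {B : Set (Finset (Fin 12))} (hext : Ext 11 5 6 std11 B) :
    B = (sysL 12 std12 : Set (Finset (Fin 12))) := by
  classical
  obtain ⟨h1, h2, h3, h4⟩ := compl12_ok
  obtain ⟨B', hBB', hB'⟩ := CfsgLib.Design.exists_finset hext.steiner
  have hc := CfsgLib.Design.blocks_through hB' ∅ (Nat.zero_le _)
  simp only [Finset.card_empty, Nat.sub_zero, Fintype.card_fin, Finset.empty_subset,
    Finset.filter_true] at hc
  have hcard : B'.card = 132 := by
    norm_num [Nat.choose] at hc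
    omega
  have hlt : ∀ d ∈ std11, d < 2 ^ 11 := (listOK_spec listOK11).1
  have htop : ∀ d ∈ std11, dN 12 (d + 2 ^ 11) ∈ B := fun d hd =>
    (hext.top _ (by rw [mem_dN, Fin.val_last, testBit_add_top (hlt d hd)]; simp)).2 ⟨d, hd, rfl⟩
  have hcompl : ∀ x, dN 12 (x ^^^ 4095) = (dN 12 x)ᶜ := fun x => by
    ext i
    have : (4095 : ℕ).testBit i.val = true := by
      revert i
      decide
    simp [mem_dN, this]
  set S := sysL 12 (std11.map (· + 2 ^ 11) ++ std11.map fun d => (d + 2 ^ 11) ^^^ 4095) with hS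
  have hSB : S ⊆ B' := by
    intro s hs
    obtain ⟨m, hm, rfl⟩ := mem_sysL.1 hs
    rw [← Finset.mem_coe, hBB']
    rcases List.mem_append.1 hm with hm | hm <;> obtain ⟨d, hd, rfl⟩ := List.mem_map.1 hm
    · exact htop d hd
    · rw [hcompl]
      exact Cfsg.Agent.S0357.result (Fintype.card_fin _) hext.steiner (htop d hd)
  have hScard : S.card = 132 := by
    rw [hS, card_sysL h3]
    decide +kernel
  have hsub : S ⊆ sysL 12 std12 := by
    intro s hs
    obtain ⟨m, hm, rfl⟩ := mem_sysL.1 hs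
    simp only [List.all_eq_true, List.contains_iff_mem] at h1 h2
    rcases List.mem_append.1 hm with hm | hm
    · exact mem_sysL.2 ⟨m, h2 m hm, rfl⟩
    · obtain ⟨d, hd, rfl⟩ := List.mem_map.1 hm
      exact mem_sysL.2 ⟨_, h1 _ (List.mem_map.2 ⟨d, hd, rfl⟩), rfl⟩
  have e1 : S = B' := Finset.eq_of_subset_of_card_le hSB (by omega)
  have e2 : S = sysL 12 std12 :=
    Finset.eq_of_subset_of_card_le hsub (by rw [card_sysL listOK12, h4, hScard])
  rw [← hBB', ← e1, e2]

theorem extHom11_mem {σ : Equiv.Perm (Fin 11)} :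
    extHom 11 σ ∈ setSystemAut (sysL 12 std12 : Set (Finset (Fin 12))) ↔
      σ ∈ setSystemAut (sysL 11 std11 : Set (Finset (Fin 11))) :=
  ⟨aut_of_extHom derived11, fun h => aut_eq_iff_pullback.2
    (ext_unique12 (ext_of_aut derived11 steiner12 (listOK_spec listOK11).1 h))⟩

theorem four11 : MulAction.IsMultiplyPretransitive (setSystemAut (sysL 11 std11 : Set (Finset (Fin 11)))) (Fin 11) 4 ∧
    ∀ x : Fin 4 ↪ Fin 11, MulAction.stabilizer (setSystemAut (sysL 11 std11 : Set (Finset (Fin 11)))) x = ⊥ := by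
  have hinj : ∀ z : Fin 4 ↪ Fin 11, Function.Injective (Fin.snoc (fun i => (z i).castSucc) (Fin.last 11) : Fin 5 → Fin 12) :=
    fun z => Fin.snoc_injective_iff.2 ⟨(Fin.castSucc_injective _).comp z.injective,
      fun ⟨i, hi⟩ => Fin.castSucc_ne_last _ hi⟩
  refine ⟨(MulAction.isMultiplyPretransitive_iff).2 fun {x y} => ?_, fun x => ?_⟩
  · obtain ⟨g, hg⟩ := five12.1.exists_smul_eq ⟨_, hinj x⟩ ⟨_, hinj y⟩
    have hg' : ∀ i : Fin 5, (g : Equiv.Perm (Fin 12)) ((Fin.snoc (fun i => (x i).castSucc) (Fin.last 11) : Fin 5 → Fin 12) i) =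
        (Fin.snoc (fun i => (y i).castSucc) (Fin.last 11) : Fin 5 → Fin 12) i := fun i => DFunLike.congr_fun hg i
    have hlast := hg' (Fin.last 4)
    rw [Fin.snoc_last, Fin.snoc_last] at hlast
    obtain ⟨σ, hσ⟩ := exists_extHom hlast
    refine ⟨⟨σ, extHom11_mem.1 (hσ ▸ g.2)⟩, ?_⟩
    ext i
    have h := hg' i.castSucc
    rw [Fin.snoc_castSucc, Fin.snoc_castSucc, ← hσ, extHom_castSucc] at h
    exact congrArg Fin.val (Fin.castSucc_injective _ h)
  · rw [Subgroup.eq_bot_iff_forall]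
    intro σ hσ
    rw [MulAction.mem_stabilizer_iff] at hσ
    have h : (⟨extHom 11 σ.1, extHom11_mem.2 σ.2⟩ : setSystemAut (sysL 12 std12 : Set (Finset (Fin 12)))) ∈
        MulAction.stabilizer (setSystemAut (sysL 12 std12 : Set (Finset (Fin 12)))) (⟨_, hinj x⟩ : Fin 5 ↪ Fin 12) := by
      rw [MulAction.mem_stabilizer_iff]
      ext i
      show (extHom 11 σ.1 ((Fin.snoc (fun i => (x i).castSucc) (Fin.last 11) : Fin 5 → Fin 12) i)).val =
        ((Fin.snoc (fun i => (x i).castSucc) (Fin.last 11) : Fin 5 → Fin 12) i).val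
      induction i using Fin.lastCases with
      | last => rw [Fin.snoc_last, extHom_last]
      | cast j =>
        rw [Fin.snoc_castSucc, extHom_castSucc]
        exact congrArg (fun z : Fin 11 => z.val) (DFunLike.congr_fun hσ j)
    rw [five12.2, Subgroup.mem_bot] at h
    exact Subtype.ext (extHom_injective ((congrArg Subtype.val h).trans (map_one _).symm))

/-- the group on 11 points inside the group of the code -/
noncomputable def f11 : setSystemAut (sysL 11 std11 : Set (Finset (Fin 11))) →* M24 :=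
  (Subgroup.subtype _).comp ((MulEquiv.ofBijective r12 r12_bijective).symm.toMonoidHom.comp
    (((extHom 11).comp (Subgroup.subtype _)).codRestrict _ fun σ => extHom11_mem.2 σ.2))

theorem f11_range : f11.range =
    MulAction.stabilizer M24 (dec dod0) ⊓ MulAction.stabilizer M24 (ι12 (Fin.last 11)) := by
  ext g
  rw [MonoidHom.mem_range, Subgroup.mem_inf]
  constructor
  · rintro ⟨σ, rfl⟩
    set y := (MulEquiv.ofBijective r12 r12_bijective).symm
      ⟨extHom 11 σ.1, extHom11_mem.2 σ.2⟩ with hy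
    have hr : ρ12 y = extHom 11 σ.1 := congrArg Subtype.val
      ((MulEquiv.ofBijective r12 r12_bijective).apply_symm_apply ⟨extHom 11 σ.1, extHom11_mem.2 σ.2⟩)
    refine ⟨y.2, ?_⟩
    show (y.1 : Equiv.Perm GolayPt) (ι12 (Fin.last 11)) = ι12 (Fin.last 11)
    rw [← ι12_ρ12, hr, extHom_last]
  · rintro ⟨hd, hp⟩
    have hlast : ρ12 ⟨g, hd⟩ (Fin.last 11) = Fin.last 11 :=
      ι12_spec.2.1 _ _ ((ι12_ρ12 ⟨g, hd⟩ _).trans hp)
    obtain ⟨σ, hσ⟩ := exists_extHom hlast
    refine ⟨⟨σ, extHom11_mem.1 (hσ ▸ ρ12_mem ⟨g, hd⟩)⟩, ?_⟩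
    have : (MulEquiv.ofBijective r12 r12_bijective).symm ⟨extHom 11 σ, hσ ▸ ρ12_mem ⟨g, hd⟩⟩ = ⟨g, hd⟩ :=
      (MulEquiv.symm_apply_eq _).2 (Subtype.ext hσ)
    exact congrArg Subtype.val this

theorem aut11 : IsM11 (setSystemAut (sysL 11 std11 : Set (Finset (Fin 11)))) := by
  have hinj : Function.Injective f11 := fun σ τ h =>
    Subtype.ext (extHom_injective (congrArg Subtype.val
      ((MulEquiv.ofBijective r12 r12_bijective).symm.injective (Subtype.ext h))))
  have e : setSystemAut (sysL 11 std11 : Set (Finset (Fin 11))) ≃*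
      ↥(MulAction.stabilizer M24 (dec dod0) ⊓ MulAction.stabilizer M24 (ι12 (Fin.last 11))) :=
    (MonoidHom.ofInjective hinj).trans (MulEquiv.subgroupCongr f11_range)
  have hmem : ι12 (Fin.last 11) ∈ dec dod0 := (ι12_spec.1 _).2 ⟨_, rfl⟩
  refine ⟨?_, ?_⟩
  · haveI := CfsgLib.Golay.isSimpleGroup_stab_dodecad_point CfsgLib.Golay.dod0_mem hmem
    exact e.isSimpleGroup
  · rw [Nat.card_congr e.toEquiv, CfsgLib.Golay.natCard_stab_dodecad_point CfsgLib.Golay.dod0_mem hmem]

theorem aut12 : IsM12 (setSystemAut (sysL 12 std12 : Set (Finset (Fin 12)))) := by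
  refine ⟨?_, natCard_aut12⟩
  haveI := CfsgLib.Golay.isSimpleGroup_stab_dodecad CfsgLib.Golay.dod0_mem
  exact (MulEquiv.ofBijective r12 r12_bijective).symm.isSimpleGroup

theorem stab_transfer {α β : Type*} [DecidableEq α] [DecidableEq β] (e : β ≃ α) {B : Set (Finset α)}
    {B' : Set (Finset β)} (he : pullback e B = B') {m : ℕ}
    (h : ∀ x : Fin m ↪ β, MulAction.stabilizer (setSystemAut B') x = ⊥) (x : Fin m ↪ α) :
    MulAction.stabilizer (setSystemAut B) x = ⊥ := by
  subst he
  rw [Subgroup.eq_bot_iff_forall]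
  intro g hg
  rw [MulAction.mem_stabilizer_iff] at hg
  obtain ⟨σ, rfl⟩ := (autEquiv e B).surjective g
  have hσ : σ ∈ MulAction.stabilizer (setSystemAut (pullback e B)) (x.trans e.symm.toEmbedding) := by
    rw [MulAction.mem_stabilizer_iff]
    ext i
    have h1 : (autEquiv e B σ : Equiv.Perm α) (x i) = x i := DFunLike.congr_fun hg i
    have h2 := autEquiv_apply e B σ (e.symm (x i))
    rw [e.apply_symm_apply, h1] at h2
    show (σ : Equiv.Perm β) (e.symm (x i)) = e.symm (x i)
    rw [Equiv.eq_symm_apply, ← h2]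
  rw [h, Subgroup.mem_bot] at hσ
  rw [hσ, map_one]

theorem aut12_transfer {α : Type*} [Fintype α] [DecidableEq α] (hα : Fintype.card α = 12)
    {B : Set (Finset α)} (hB : IsSteinerSystem 5 6 B) :
    IsM12 (setSystemAut B) ∧ MulAction.IsMultiplyPretransitive (setSystemAut B) α 5 ∧
      ∀ x : Fin 5 ↪ α, MulAction.stabilizer (setSystemAut B) x = ⊥ := by
  obtain ⟨e, he⟩ := lab12 hα hB
  have eq : setSystemAut (sysL 12 std12 : Set (Finset (Fin 12))) ≃* setSystemAut B :=
    (MulEquiv.subgroupCongr (by rw [he])).trans (autEquiv e B)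
  obtain ⟨hs, hc⟩ := aut12
  refine ⟨⟨?_, by rw [← Nat.card_congr eq.toEquiv, hc]⟩, pretransitive_transfer e he five12.1,
    stab_transfer e he five12.2⟩
  haveI := hs
  exact eq.symm.isSimpleGroup

theorem aut11_transfer {α : Type*} [Fintype α] [DecidableEq α] (hα : Fintype.card α = 11)
    {B : Set (Finset α)} (hB : IsSteinerSystem 4 5 B) :
    IsM11 (setSystemAut B) ∧ MulAction.IsMultiplyPretransitive (setSystemAut B) α 4 ∧
      ∀ x : Fin 4 ↪ α, MulAction.stabilizer (setSystemAut B) x = ⊥ := by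
  obtain ⟨e, he⟩ := lab11 hα hB
  have eq : setSystemAut (sysL 11 std11 : Set (Finset (Fin 11))) ≃* setSystemAut B :=
    (MulEquiv.subgroupCongr (by rw [he])).trans (autEquiv e B)
  obtain ⟨hs, hc⟩ := aut11
  refine ⟨⟨?_, by rw [← Nat.card_congr eq.toEquiv, hc]⟩, pretransitive_transfer e he four11.1,
    stab_transfer e he four11.2⟩
  haveI := hs
  exact eq.symm.isSimpleGroup

end CfsgLib.Steiner
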