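import Mathlib
import Cfsg.Prelude.Def_Sporadic_a
import Cfsg.Agent.Lib.Design.Steiner
import Cfsg.Agent.Lib.Steiner.Mask

/-!
Labellings of Steiner systems by lists of masks and the extension step by one point.
-/

set_option autoImplicit false

namespace CfsgLib.Steiner

open Cfsg

universe u

section Transfer

variable {α β γ : Type*} [DecidableEq α] [DecidableEq β] [DecidableEq γ]

/-- a family pulled back along a bijection -/
def pullback (e : α ≃ β) (B : Set (Finset β)) : Set (Finset α) := {s | s.image e ∈ B}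

theorem mem_pullback {e : α ≃ β} {B : Set (Finset β)} {s : Finset α} :
    s ∈ pullback e B ↔ s.image e ∈ B := Iff.rfl

theorem pullback_trans (e : α ≃ β) (f : β ≃ γ) (B : Set (Finset γ)) :
    pullback (e.trans f) B = pullback e (pullback f B) := by
  ext s
  simp only [mem_pullback, Finset.image_image]
  rfl

theorem image_symm_image (e : α ≃ β) (s : Finset β) : (s.image e.symm).image e = s := by
  rw [Finset.image_image]; simp

theorem setSystemIso_of_pullback_eq (e : α ≃ β) {B : Set (Finset β)} {B' : Set (Finset α)}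
    (h : pullback e B = B') : SetSystemIso B' B := by
  refine ⟨e, ?_⟩
  subst h
  ext s
  constructor
  · rintro ⟨t, ht, rfl⟩; exact ht
  · intro hs
    exact ⟨s.image e.symm, by rwa [mem_pullback, image_symm_image], image_symm_image e s⟩

theorem isSteiner_pullback (e : α ≃ β) {t k : ℕ} {B : Set (Finset β)}
    (hB : IsSteinerSystem t k B) : IsSteinerSystem t k (pullback e B) := by
  refine ⟨fun b hb => by
    rw [← Finset.card_image_of_injective b e.injective]; exact hB.1 _ hb, fun s hs => ?_⟩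
  obtain ⟨c, ⟨hc, hsc⟩, huniq⟩ := hB.2 (s.image e) (by rw [Finset.card_image_of_injective _ e.injective, hs])
  refine ⟨c.image e.symm, ⟨by rwa [mem_pullback, image_symm_image], fun x hx => ?_⟩, fun d hd => ?_⟩
  · exact Finset.mem_image.2 ⟨e x, hsc (Finset.mem_image_of_mem _ hx), e.symm_apply_apply x⟩
  · refine Finset.image_injective e.injective ?_
    rw [image_symm_image]
    exact huniq _ ⟨hd.1, Finset.image_subset_image hd.2⟩

end Transfer

/-- every Steiner system with these parameters is a relabelling of the list -/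
def Lab (n t k : ℕ) (l : List ℕ) : Prop :=
  ∀ {α : Type u} [Fintype α] [DecidableEq α], Fintype.card α = n → ∀ {B : Set (Finset α)},
    IsSteinerSystem t k B → ∃ e : Fin n ≃ α, pullback e B = (sysL n l : Set (Finset (Fin n)))

theorem setSystemIso_of_lab {n : ℕ} {l : List ℕ} {α : Type*} {β : Type*} [Fintype α]
    [DecidableEq α] [Fintype β] [DecidableEq β] {B : Set (Finset α)} {B' : Set (Finset β)}
    (h : ∃ e : Fin n ≃ α, pullback e B = (sysL n l : Set (Finset (Fin n))))
    (h' : ∃ e : Fin n ≃ β, pullback e B' = (sysL n l : Set (Finset (Fin n)))) :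
    SetSystemIso B B' := by
  obtain ⟨e, he⟩ := h
  obtain ⟨e', he'⟩ := h'
  refine setSystemIso_of_pullback_eq (e.symm.trans e') ?_
  rw [pullback_trans, he', ← he, ← pullback_trans, Equiv.symm_trans_self]
  ext s
  simp [mem_pullback]

/-! ### The extension step -/

/-- a system on `Fin (n + 1)` whose derived system at the last point is the list -/
structure Ext (n T K : ℕ) (der : List ℕ) (B : Set (Finset (Fin (n + 1)))) : Prop where
  steiner : IsSteinerSystem T K B
  top : ∀ b, Fin.last n ∈ b → (b ∈ B ↔ ∃ d ∈ der, dN (n + 1) (d + 2 ^ n) = b)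

theorem testBit_add_top {n d : ℕ} (hd : d < 2 ^ n) (i : ℕ) :
    (d + 2 ^ n).testBit i = (decide (i = n) || d.testBit i) := by
  rw [Nat.add_comm]
  rcases Nat.lt_trichotomy i n with h | h | h
  · rw [Nat.testBit_two_pow_add_gt h]; simp [Nat.ne_of_lt h]
  · subst h; rw [Nat.testBit_two_pow_add_eq, Nat.testBit_lt_two_pow hd]; simp
  · have h' : 2 ^ (n + 1) ≤ 2 ^ i := Nat.pow_le_pow_right (by norm_num) h
    rw [Nat.testBit_lt_two_pow (by rw [pow_succ] at h'; omega),
      Nat.testBit_lt_two_pow (by rw [pow_succ] at h'; omega)]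
    simp [Nat.ne_of_gt h]

theorem last_not_mem {n m : ℕ} (hm : m < 2 ^ n) : Fin.last n ∉ dN (n + 1) m := by
  rw [mem_dN, Fin.val_last, Nat.testBit_lt_two_pow hm]; simp

theorem mask_lt_of_not_mem {n m : ℕ} (hm : m < 2 ^ (n + 1)) (h : Fin.last n ∉ dN (n + 1) m) :
    m < 2 ^ n := by
  refine Nat.lt_pow_two_of_testBit _ fun i hi => ?_
  rcases Nat.lt_or_ge n i with h' | h'
  · exact Nat.testBit_lt_two_pow (hm.trans_le (Nat.pow_le_pow_right (by norm_num) h'))
  · obtain rfl : i = n := by omega
    simpa [mem_dN] using h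

theorem dN_succ_map {n m : ℕ} (hm : m < 2 ^ n) :
    dN (n + 1) m = (dN n m).map Fin.castSuccEmb := by
  ext i
  rw [Finset.mem_map]
  induction i using Fin.lastCases with
  | last =>
    refine iff_of_false (last_not_mem hm) ?_
    rintro ⟨j, -, hj⟩
    exact absurd hj (Fin.castSucc_ne_last j)
  | cast j => simp [mem_dN]

theorem pop_succ_of_lt {n m : ℕ} (hm : m < 2 ^ n) : pop (n + 1) m = pop n m :=
  pop_le_of_lt (n + 1) n m (by omega) hm

variable {n T K : ℕ} {der : List ℕ}

theorem Ext.exists_rest {B : Set (Finset (Fin (n + 1)))} (h : Ext n T K der B) (A : ℕ)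
    (hinter : ∀ b ∈ B, ∀ c ∈ B, b ≠ c → A.testBit (b ∩ c).card = true)
    (hder : listOK n der = true) :
    ∃ R : Finset ℕ,
      (∀ m ∈ R, m < 2 ^ n ∧ pop n m = K ∧ ∀ d ∈ der, A.testBit (pop n (m &&& d)) = true) ∧
      (∀ a ∈ R, ∀ b ∈ R, a ≠ b → A.testBit (pop n (a &&& b)) = true) ∧
      (∀ t < 2 ^ n, pop n t = T → (∀ d ∈ der, t &&& d ≠ t) → ∃ r ∈ R, t &&& r = t) ∧
      (R.card + der.length) * K.choose T = (n + 1).choose T ∧
      ∀ l : List ℕ, l.toFinset = R → B = (sysL (n + 1) (l ++ der.map (· + 2 ^ n)) : Set _) := by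
  classical
  have hd0 : ∀ d ∈ der, d < 2 ^ n := (listOK_spec hder).1
  have hlast : ∀ d ∈ der, Fin.last n ∈ dN (n + 1) (d + 2 ^ n) := fun d hd => by
    rw [mem_dN, Fin.val_last, testBit_add_top (hd0 d hd)]; simp
  have htopmem : ∀ d ∈ der, dN (n + 1) (d + 2 ^ n) ∈ B := fun d hd =>
    (h.top _ (hlast d hd)).2 ⟨d, hd, rfl⟩
  have hint : ∀ d ∈ der, ∀ m < 2 ^ n, dN (n + 1) (d + 2 ^ n) ∩ dN (n + 1) m = dN (n + 1) (m &&& d) := by
    intro d hd m hm
    rw [dN_and]
    ext i
    simp only [Finset.mem_inter, mem_dN, testBit_add_top (hd0 d hd), Bool.or_eq_true, decide_eq_true_eq]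
    constructor
    · rintro ⟨e | e, h2⟩
      · rw [e, Nat.testBit_lt_two_pow hm] at h2; simp at h2
      · exact ⟨h2, e⟩
    · exact fun ⟨h2, e⟩ => ⟨Or.inr e, h2⟩
  let R := (Finset.range (2 ^ n)).filter fun m => dN (n + 1) m ∈ B
  have hR : ∀ m, m ∈ R ↔ m < 2 ^ n ∧ dN (n + 1) m ∈ B := fun m => by simp [R]
  have hsys : ∀ l : List ℕ, l.toFinset = R →
      B = (sysL (n + 1) (l ++ der.map (· + 2 ^ n)) : Set _) := by
    intro l hl
    ext b
    rw [Finset.mem_coe, mem_sysL]
    constructor
    · intro hb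
      obtain ⟨m, hm, rfl⟩ := exists_mask b
      by_cases ht : Fin.last n ∈ dN (n + 1) m
      · obtain ⟨d, hd, he⟩ := (h.top _ ht).1 hb
        exact ⟨_, List.mem_append_right _ (List.mem_map.2 ⟨d, hd, rfl⟩), he⟩
      · refine ⟨m, List.mem_append_left _ ?_, rfl⟩
        rw [← List.mem_toFinset, hl, hR]
        exact ⟨mask_lt_of_not_mem hm ht, hb⟩
    · rintro ⟨m, hm, rfl⟩
      rcases List.mem_append.1 hm with hm | hm
      · rw [← List.mem_toFinset, hl, hR] at hm
        exact hm.2
      · obtain ⟨d, hd, rfl⟩ := List.mem_map.1 hm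
        exact htopmem d hd
  refine ⟨R, fun m hm => ?_, fun a ha b hb hab => ?_, fun t ht htT hnd => ?_, ?_, hsys⟩
  · obtain ⟨hlt, hmB⟩ := (hR m).1 hm
    refine ⟨hlt, ?_, fun d hd => ?_⟩
    · rw [← pop_succ_of_lt hlt, ← card_dN]; exact h.steiner.1 _ hmB
    · have h1 := hinter _ (htopmem d hd) _ hmB (fun e => last_not_mem hlt (e ▸ hlast d hd))
      rwa [hint d hd m hlt, card_dN, pop_succ_of_lt (lt_of_le_of_lt Nat.and_le_left hlt)] at h1
  · obtain ⟨hla, haB⟩ := (hR a).1 ha
    obtain ⟨hlb, hbB⟩ := (hR b).1 hb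
    have h1 := hinter _ haB _ hbB fun e => hab (dN_injective
      (hla.trans_le (Nat.pow_le_pow_right (by norm_num) (by omega)))
      (hlb.trans_le (Nat.pow_le_pow_right (by norm_num) (by omega))) e)
    rwa [← dN_and, card_dN, pop_succ_of_lt (lt_of_le_of_lt Nat.and_le_left hla)] at h1
  · have htl : t < 2 ^ (n + 1) := ht.trans_le (Nat.pow_le_pow_right (by norm_num) (by omega))
    obtain ⟨b, ⟨hb, hsub⟩, -⟩ := h.steiner.2 (dN (n + 1) t) (by rw [card_dN, pop_succ_of_lt ht, htT])
    obtain ⟨m, hm, rfl⟩ := exists_mask b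
    by_cases htop : Fin.last n ∈ dN (n + 1) m
    · obtain ⟨d, hd, he⟩ := (h.top _ htop).1 hb
      refine absurd ?_ (hnd d hd)
      rw [subset_iff ht]
      intro i hi
      have h2 : Fin.castSucc i ∈ dN (n + 1) m := hsub (by simpa [mem_dN] using hi)
      rw [← he, mem_dN, testBit_add_top (hd0 d hd), Bool.or_eq_true, decide_eq_true_eq] at h2
      rcases h2 with e | e
      · exact absurd e (Nat.ne_of_lt i.2)
      · exact mem_dN.2 e
    · exact ⟨m, (hR m).2 ⟨mask_lt_of_not_mem hm htop, hb⟩, (subset_iff htl).2 hsub⟩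
  · have hsysR := hsys R.toList R.toList_toFinset
    rw [hsysR] at h
    have hc := CfsgLib.Design.blocks_through h.steiner ∅ (Nat.zero_le _)
    simp only [Finset.card_empty, Nat.sub_zero, Fintype.card_fin, Finset.empty_subset,
      Finset.filter_true] at hc
    rw [card_sysL] at hc
    · simpa [Nat.add_comm] using hc
    · simp only [listOK, Bool.and_eq_true, List.all_eq_true, decide_eq_true_eq, Bool.or_eq_true]
      refine ⟨fun m hm => ?_, Or.inr ?_⟩
      · rcases List.mem_append.1 hm with hm | hm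
        · rw [Finset.mem_toList, hR] at hm
          rw [pow_succ]; omega
        · obtain ⟨d, hd, rfl⟩ := List.mem_map.1 hm
          have := hd0 d hd
          rw [pow_succ]; omega
      · refine List.nodup_append.2 ⟨R.nodup_toList, (listOK_spec hder).2.map (add_left_injective _), ?_⟩
        intro a ha b hb e
        obtain ⟨d, hd, rfl⟩ := List.mem_map.1 hb
        rw [Finset.mem_toList, hR] at ha
        omega

/-- a labelled derived system gives the extension set-up at any point -/
theorem exists_ext {t k : ℕ} (hlab : Lab.{u} n t k der) {α : Type u} [Fintype α] [DecidableEq α]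
    (hα : Fintype.card α = n + 1) {B : Set (Finset α)} (hB : IsSteinerSystem (t + 1) (k + 1) B)
    (hder : listOK n der = true) (p : α) :
    ∃ e : Fin (n + 1) ≃ α, e (Fin.last n) = p ∧ Ext n (t + 1) (k + 1) der (pullback e B) := by
  classical
  have hd0 : ∀ d ∈ der, d < 2 ^ n := (listOK_spec hder).1
  let D : Set (Finset {a : α // a ≠ p}) := {b' | ∃ b ∈ B, p ∈ b ∧ b' = Finset.subtype (fun a => a ≠ p) b}
  have hD : IsSteinerSystem t k D := by
    constructor
    · rintro b' ⟨b, hb, hpb, rfl⟩
      rw [Finset.card_subtype, Finset.filter_ne', Finset.card_erase_of_mem hpb, hB.1 b hb]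
      rfl
    · intro s hs
      have hp : p ∉ s.map (Function.Embedding.subtype _) := by simp
      obtain ⟨b, ⟨hb, hsb⟩, huniq⟩ := hB.2 (insert p (s.map (Function.Embedding.subtype _)))
        (by rw [Finset.card_insert_of_notMem hp, Finset.card_map, hs])
      rw [Finset.insert_subset_iff] at hsb
      refine ⟨_, ⟨⟨b, hb, hsb.1, rfl⟩, fun x hx => ?_⟩, ?_⟩
      · rw [Finset.mem_subtype]
        exact hsb.2 (Finset.mem_map_of_mem _ hx)
      · rintro _ ⟨⟨c, hc, hpc, rfl⟩, hsc⟩
        rw [huniq c ⟨hc, Finset.insert_subset_iff.mpr ⟨hpc, fun x hx => ?_⟩⟩]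
        obtain ⟨y, hy, rfl⟩ := Finset.mem_map.mp hx
        exact Finset.mem_subtype.mp (hsc hy)
  obtain ⟨e0, he0⟩ := hlab (by rw [Fintype.card_subtype_compl, Fintype.card_subtype_eq, hα]; rfl) hD
  let e : Fin (n + 1) ≃ α :=
    finSuccEquivLast.trans ((Equiv.optionCongr e0).trans (Equiv.optionSubtypeNe p))
  have hel : e (Fin.last n) = p := by simp [e]
  have hec : ∀ i : Fin n, e i.castSucc = (e0 i : α) := fun i => by simp [e]
  refine ⟨e, hel, isSteiner_pullback e hB, fun b hlb => ?_⟩
  obtain ⟨m, hm, rfl⟩ := exists_mask b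
  set b0 : Finset (Fin n) := Finset.univ.filter fun i => i.castSucc ∈ dN (n + 1) m with hb0
  have hsub : Finset.subtype (fun a => a ≠ p) ((dN (n + 1) m).image e) = b0.image e0 := by
    ext ⟨a, ha⟩
    simp only [Finset.mem_subtype, Finset.mem_image, hb0, Finset.mem_filter, Finset.mem_univ, true_and]
    constructor
    · rintro ⟨i, hi, rfl⟩
      induction i using Fin.lastCases with
      | last => exact absurd hel ha
      | cast j => exact ⟨j, hi, Subtype.ext (hec j).symm⟩
    · rintro ⟨j, hj, hje⟩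
      exact ⟨_, hj, (hec j).trans (congrArg Subtype.val hje)⟩
  have hdm : ∀ d ∈ der, dN n d = b0 → dN (n + 1) (d + 2 ^ n) = dN (n + 1) m := by
    intro d hd hdb
    ext i
    rw [mem_dN, testBit_add_top (hd0 d hd)]
    induction i using Fin.lastCases with
    | last => simpa using hlb
    | cast j =>
      have := Finset.ext_iff.1 hdb j
      simp only [hb0, mem_dN, Finset.mem_filter, Finset.mem_univ, true_and] at this
      simp [mem_dN, Nat.ne_of_lt j.2, this]
  constructor
  · intro hb
    have h1 : b0 ∈ pullback e0 D := by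
      rw [mem_pullback, ← hsub]
      exact ⟨_, hb, hel ▸ Finset.mem_image_of_mem _ hlb, rfl⟩
    rw [he0, Finset.mem_coe, mem_sysL] at h1
    obtain ⟨d, hd, hdb⟩ := h1
    exact ⟨d, hd, hdm d hd hdb⟩
  · rintro ⟨d, hd, hde⟩
    have hdb : dN n d = b0 := by
      ext j
      simp only [hb0, Finset.mem_filter, Finset.mem_univ, true_and]
      rw [← hde]
      simp [mem_dN, testBit_add_top (hd0 d hd), Nat.ne_of_lt j.2]
    have h1 : b0 ∈ pullback e0 D := by
      rw [he0, Finset.mem_coe, mem_sysL]; exact ⟨d, hd, hdb⟩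
    obtain ⟨b, hb, hpb, hbe⟩ := (mem_pullback.1 h1 : b0.image e0 ∈ D)
    rw [← hsub] at hbe
    have : (dN (n + 1) m).image e = b := by
      ext a
      by_cases ha : a = p
      · subst ha; exact iff_of_true (hel ▸ Finset.mem_image_of_mem _ hlb) hpb
      · have := Finset.ext_iff.1 hbe ⟨a, ha⟩
        simpa only [Finset.mem_subtype] using this
    rw [mem_pullback, this]
    exact hb

/-! ### Recognizing the rest -/

/-- candidates for the blocks avoiding the last point -/
def cands (n K A c : ℕ) (der : List ℕ) (rules : List (ℕ × List ℕ)) : List ℕ :=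
  (enum der c rules n).filter fun m => fpop m == K && der.all fun d => A.testBit (fpop (m &&& d))

theorem mem_cands {A c : ℕ} {rules : List (ℕ × List ℕ)} {m : ℕ} (h24 : n ≤ 24) (hok : rulesOK n der rules = true)
    (hA : rules = [] ∨ ∀ j ≤ n, A.testBit j = true → j % 2 = c % 2)
    (h : m < 2 ^ n ∧ pop n m = K ∧ ∀ d ∈ der, A.testBit (pop n (m &&& d)) = true) :
    m ∈ cands n K A c der rules := by
  obtain ⟨hlt, hK, hd⟩ := h
  refine List.mem_filter.2 ⟨?_, by simpa [fpop_eq h24 hlt, fpop_and h24 hlt, hK] using hd⟩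
  rcases hA with rfl | hA
  · have : ∀ i ≤ n, m % 2 ^ i ∈ enum der c [] i := by
      intro i
      induction i with
      | zero => intro _; simp [enum, Nat.mod_one]
      | succ i ih =>
        intro hi
        rw [enum, mod_two_pow_succ]
        simp only [List.find?_nil, List.mem_flatMap]
        refine ⟨_, ih (by omega), ?_⟩
        split <;> simp
    simpa [Nat.mod_eq_of_lt hlt] using this n le_rfl
  · have hle : ∀ k m, pop k m ≤ k := by
      intro k
      induction k with
      | zero => intro m; simp [pop]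
      | succ k ih => intro m; rw [pop]; have := ih m; cases m.testBit k <;> simp <;> omega
    have := mem_enum h24 hok (c := c) (M := m) (fun d hd' => hA _ (hle _ _) (hd d hd')) n le_rfl
    rwa [Nat.mod_eq_of_lt hlt] at this

/-- The rest is one of the classes. -/
theorem eq_class {R : Finset ℕ} {A : ℕ} (h24 : n ≤ 24) (hlt : ∀ m ∈ R, m < 2 ^ n) (Vs : List (List ℕ)) (r : ℕ) (hr : R.card = r) (hr0 : 0 < r)
    (hmem : ∀ m ∈ R, ∃ V ∈ Vs, m ∈ V) (hpair : ∀ a ∈ R, ∀ b ∈ R, a ≠ b → A.testBit (pop n (a &&& b)) = true)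
    (hlen : ∀ V ∈ Vs, V.length = r) (hsep : (Vs.all fun V => Vs.all fun W => V == W ||
      V.all fun a => W.all fun b => a != b && !A.testBit (fpop (a &&& b))) = true) :
    ∃ V ∈ Vs, V.toFinset = R := by
  obtain ⟨a, ha⟩ := Finset.card_pos.1 (hr ▸ hr0)
  obtain ⟨V, hV, haV⟩ := hmem a ha
  refine ⟨V, hV, (Finset.eq_of_subset_of_card_le (fun b hb => ?_) ?_).symm⟩
  · rw [List.mem_toFinset]
    obtain ⟨W, hW, hbW⟩ := hmem b hb
    by_contra hbV
    have h := List.all_eq_true.1 (List.all_eq_true.1 hsep V hV) W hW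
    simp only [Bool.or_eq_true, beq_iff_eq, List.all_eq_true, Bool.and_eq_true, bne_iff_ne,
      Bool.not_eq_true'] at h
    rcases h with rfl | h
    · exact hbV hbW
    · obtain ⟨hne, hnot⟩ := h a haV b hbW
      rw [fpop_and h24 (hlt a ha), hpair a ha b hb hne] at hnot
      exact Bool.false_ne_true hnot.symm
  · exact le_trans (List.toFinset_card_le V) (le_of_eq ((hlen V hV).trans hr.symm))

/-- The rest is one of the solutions of the search. -/
theorem eq_search {R : Finset ℕ} {A : ℕ} (h24 : n ≤ 24) (hlt : ∀ m ∈ R, m < 2 ^ n) (avail targets : List ℕ) (Vs : List (List ℕ))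
    (hmem : ∀ m ∈ R, m ∈ avail) (hpair : ∀ a ∈ R, ∀ b ∈ R, a ≠ b → A.testBit (pop n (a &&& b)) = true)
    (hcov : ∀ t ∈ targets, ∃ r ∈ R, t &&& r = t) (r : ℕ) (hr : R.card = r)
    (hsrch : (srch (fun a b => A.testBit (fpop (a &&& b))) targets.length avail targets).all
      (fun sol => Vs.contains sol && decide sol.Nodup && sol.length == r) = true) :
    ∃ V ∈ Vs, V.toFinset = R := by
  obtain ⟨sol, hsol, hin⟩ := srch_complete (comp := fun a b => A.testBit (fpop (a &&& b)))
    (fun a ha b hb hne => by rw [fpop_and h24 (hlt a ha)]; exact hpair a ha b hb hne)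
    targets.length avail targets le_rfl R subset_rfl hmem hcov
  have h := List.all_eq_true.1 hsrch sol hsol
  simp only [Bool.and_eq_true, decide_eq_true_eq, beq_iff_eq, List.contains_iff_mem] at h
  refine ⟨sol, h.1.1, Finset.eq_of_subset_of_card_le (fun x hx => hin x (List.mem_toFinset.1 hx)) ?_⟩
  rw [List.toFinset_card_of_nodup h.1.2, h.2, hr]

/-- A permutation carries one list onto the other. -/
def carriesOK (n : ℕ) (f g src dst : List ℕ) : Bool :=
  permOK n f g && f.length == n && listOK n src && listOK n dst && src.length == dst.length &&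
    src.all fun m => dst.contains (mapM f n m)

theorem exists_carry {f g src dst : List ℕ} (h : carriesOK n f g src dst = true) :
    ∃ σ : Equiv.Perm (Fin n), (∀ i, (σ i).val = f.getD i.val n) ∧
      pullback σ (sysL n dst : Set (Finset (Fin n))) = (sysL n src : Set (Finset (Fin n))) := by
  simp only [carriesOK, Bool.and_eq_true, beq_iff_eq, List.all_eq_true, List.contains_iff_mem] at h
  obtain ⟨⟨⟨⟨⟨hp, hf⟩, hs⟩, hd⟩, hlen⟩, hall⟩ := h
  obtain ⟨σ, hσ⟩ := exists_perm hp
  refine ⟨σ, hσ, ?_⟩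
  have hfin : (sysL n src).image (fun s => s.image σ) = sysL n dst := by
    refine Finset.eq_of_subset_of_card_le (fun s hs' => ?_) ?_
    · obtain ⟨t, ht, rfl⟩ := Finset.mem_image.1 hs'
      obtain ⟨m, hm, rfl⟩ := mem_sysL.1 ht
      rw [image_dN hσ hf]
      exact mem_sysL.2 ⟨_, hall m hm, rfl⟩
    · rw [Finset.card_image_of_injective _ (Finset.image_injective σ.injective), card_sysL hd,
        card_sysL hs, hlen]
  ext s
  rw [mem_pullback, Finset.mem_coe, Finset.mem_coe, ← hfin, Finset.mem_image]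
  exact ⟨fun ⟨t, ht, e⟩ => Finset.image_injective σ.injective e ▸ ht, fun hs' => ⟨s, hs', rfl⟩⟩

/-- From the recognition of the rest to a labelling of the extended system. -/
theorem lab_step {t k : ℕ} (hlab : Lab.{u} n t k der) (hder : listOK n der = true) {std : List ℕ}
    (hstep : ∀ {B : Set (Finset (Fin (n + 1)))}, Ext n (t + 1) (k + 1) der B →
      ∃ (V : List ℕ) (σ : Equiv.Perm (Fin (n + 1))),
        B = (sysL (n + 1) (V ++ der.map (· + 2 ^ n)) : Set _) ∧
        pullback σ B = (sysL (n + 1) std : Set _)) : Lab.{u} (n + 1) (t + 1) (k + 1) std := by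
  intro α _ _ hα B hB
  obtain ⟨p⟩ : Nonempty α := Fintype.card_pos_iff.1 (by rw [hα]; exact Nat.succ_pos n)
  obtain ⟨e, -, hext⟩ := exists_ext hlab hα hB hder p
  obtain ⟨V, σ, -, hσ⟩ := hstep hext
  exact ⟨σ.trans e, by rw [pullback_trans, hσ]⟩

end CfsgLib.Steiner
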